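import Cfsg.Agent.H44.Der.U42b
import Cfsg.Agent.S5784

/-!
# `RowS` for `U₄(2)` (helper44, for S3502)
-/

set_option autoImplicit false
set_option linter.unusedSectionVars false
set_option linter.unusedSimpArgs false

namespace Cfsg.Agent.H44.Der.U42

open Subgroup Cfsg Cfsg.Geo Matrix Module Cfsg.Agent.H251.Small Cfsg.Agent.H439.Der Cfsg.Agent.H938.Sax
open Cfsg.Agent.H396 Cfsg.Agent.OrdDiv Cfsg.Agent.H325.Loc
open Cfsg.Agent.LieClassical.HermSiegel Cfsg.Agent.LieClassical.SUBasic Cfsg.Agent.LieClassical.HermBasic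
open Cfsg.Agent.LieClassical.HermGen
open Cfsg.Agent.ClassicalGeometry.PSUAutBasic
open Cfsg.Agent.H251.Der (pr_inj4)
open Cfsg.Agent.H251.GeoU (pre)
open Cfsg.Agent.H44.Der.Para

variable {F : Type} [Field F] [Fintype F]

theorem of_conj {T : Type*} [Group T] {R : Subgroup T} (t : T)
    (h : Three T (R.map (MulAut.conj t).toMonoidHom)) : Three T R := by
  obtain ⟨x, y, z, hx, hy, hz, h1⟩ := h
  refine ⟨x, y, z, fun φ hφ => hx (φ.trans (MulAut.conj t)) ?_, fun φ hφ => hy (φ.trans (MulAut.conj t)) ?_,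
    fun φ hφ => hz (φ.trans (MulAut.conj t)) ?_, h1⟩
  · exact ⟨φ x, hφ, rfl⟩
  · exact ⟨φ y, hφ, rfl⟩
  · exact ⟨φ z, hφ, rfl⟩

theorem two_of_conj {T : Type*} [Group T] {R : Subgroup T} (t : T)
    (h : Two T (R.map (MulAut.conj t).toMonoidHom)) : Two T R := by
  obtain ⟨x, y, hx, hy, h1⟩ := h
  refine ⟨x, y, fun φ hφ => hx (φ.trans (MulAut.conj t)) ?_, fun φ hφ => hy (φ.trans (MulAut.conj t)) ?_, h1⟩
  · exact ⟨φ x, hφ, rfl⟩
  · exact ⟨φ y, hφ, rfl⟩

theorem card_map_conj {T : Type*} [Group T] (R : Subgroup T) (t : T) :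
    Nat.card (R.map (MulAut.conj t).toMonoidHom) = Nat.card R :=
  (Nat.card_congr (R.equivMapOfInjective _ (MulAut.conj t).injective).toEquiv).symm

/-- subgroups of the stabilizer of `u0` -/
theorem p1_aux (hF : Fintype.card F = 2 ^ 2) (E : El F) {R : Subgroup (PSU 4 F 2)}
    (hR : R.comap (pr 4 F 2) ≤ par 2 (1 : F)) :
    Two (PSU 4 F 2) R ∧ (Three (PSU 4 F 2) R ∨ Nat.card R = Nat.card (par 2 (1 : F))) := by
  have hcard := card_u42 hF
  have : Finite (PSU 4 F 2) := Nat.finite_of_card_ne_zero (by rw [hcard]; norm_num)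
  have h5p : Fact (Nat.Prime 5) := ⟨by norm_num⟩
  obtain ⟨x5, hx5⟩ : ∃ x : PSU 4 F 2, orderOf x = 5 := exists_prime_orderOf_dvd_card' 5 (by rw [hcard]; norm_num)
  obtain ⟨x9, hx9⟩ := H251.Der.exists_u42 hF (n := 9) (by simp)
  have h5 : ∀ φ : PSU 4 F 2 ≃* PSU 4 F 2, φ x5 ∉ R := by
    intro φ hφ
    obtain ⟨y, hy⟩ := pr_surjective (φ x5)
    rw [← hy] at hφ
    apply (par_ord hF E (hR hφ)).1
    rw [← orderOf_pr hF, hy, orderOf_mulEquiv, hx5]
  have h9 : ∀ φ : PSU 4 F 2 ≃* PSU 4 F 2, φ x9 ∉ R := by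
    intro φ hφ
    obtain ⟨y, hy⟩ := pr_surjective (φ x9)
    rw [← hy] at hφ
    apply (par_ord hF E (hR hφ)).2
    rw [← orderOf_pr hF, hy, orderOf_mulEquiv, hx9]
  refine ⟨⟨x5, x9, h5, h9, fun φ h => ?_⟩, ?_⟩
  · have h1 : orderOf x5 = orderOf x9 := by rw [← h, orderOf_mulEquiv]
    rw [hx5, hx9] at h1
    norm_num at h1
  by_cases hd : ∀ φ : PSU 4 F 2 ≃* PSU 4 F 2, φ (pr 4 F 2 (E.a * E.u)) ∉ R
  · left
    refine three_of_ne h5 h9 hd ?_ ?_ ?_
    all_goals simp only [orderOf_pr hF, E.od, hx5, hx9]; norm_num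
  by_cases hj : ∀ φ : PSU 4 F 2 ≃* PSU 4 F 2, φ (pr 4 F 2 E.j) ∉ R
  · left
    refine three_of_ne h5 h9 hj ?_ ?_ ?_
    all_goals simp only [orderOf_pr hF, E.oj, hx5, hx9]; norm_num
  by_cases hc : ∀ φ : PSU 4 F 2 ≃* PSU 4 F 2, φ (pr 4 F 2 E.c) ∉ R
  · left
    refine three_of_ne h5 h9 hc ?_ ?_ ?_
    all_goals simp only [orderOf_pr hF, E.oc, hx5, hx9]; norm_num
  right
  push Not at hd hj hc
  obtain ⟨φ, hφ⟩ := hd
  obtain ⟨ψ, hψ⟩ := hj
  obtain ⟨χ, hχ⟩ := hc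
  obtain ⟨d, hd⟩ := pr_surjective (φ (pr 4 F 2 (E.a * E.u)))
  obtain ⟨j, hj⟩ := pr_surjective (ψ (pr 4 F 2 E.j))
  obtain ⟨c, hc⟩ := pr_surjective (χ (pr 4 F 2 E.c))
  have hd' : Rel 2 (mat (E.a * E.u)) (mat d) := aut_mat hF (by norm_num) (by norm_num) φ hd.symm
  have hj' : Rel 2 (mat E.j) (mat j) := aut_mat hF (by norm_num) (by norm_num) ψ hj.symm
  have hc' : Rel 2 (mat E.c) (mat c) := aut_mat hF (by norm_num) (by norm_num) χ hc.symm
  rw [← hd] at hφ
  rw [← hj] at hψ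
  rw [← hc] at hχ
  have h1 := par_le hF E hR (d := d) (j := j) (c := c) hφ hψ hχ hd' hj' hc'
  have h2 : R.comap (pr 4 F 2) = par 2 (1 : F) := le_antisymm hR h1
  rw [← h2]
  exact (H938.Sax.card_comap (MulEquiv.ofBijective (pr 4 F 2) ⟨pr_inj4 hF, pr_surjective⟩) R).symm

/-- subgroups of the point stabilizers -/
theorem p1 (hF : Fintype.card F = 2 ^ 2) (E : El F) {R : Subgroup (PSU 4 F 2)} {e : Fin 4 → F} (he0 : e ≠ 0)
    (he : hermForm 4 F 2 e e = 0) (hR : ∀ y : SU 4 F 2, pr 4 F 2 y ∈ R → ∃ c : F, act y e = c • e) :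
    Two (PSU 4 F 2) R ∧ (Three (PSU 4 F 2) R ∨ Nat.card R = Nat.card (par 2 (1 : F))) := by
  obtain ⟨g, -, hg⟩ := exists_map_iso hF (k := 4) (n := 4) (by norm_num) le_rfl (mem_coordSub_top e)
    (mem_coordSub_top (u0 (1 : F))) he0 u0_ne he (u0_iso hF (zeta hF))
  obtain ⟨h1, h2⟩ := p1_aux hF E (R := R.map (MulAut.conj (pr 4 F 2 g)).toMonoidHom) (by
    rintro z ⟨r, hr, hz⟩
    obtain ⟨y, rfl⟩ := pr_surjective r
    have h1 : pr 4 F 2 (g * y * g⁻¹) = pr 4 F 2 z := by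
      rw [← hz, map_mul, map_mul, map_inv]
      rfl
    rw [← pr_inj4 hF h1]
    obtain ⟨c, hc⟩ := hR y hr
    refine ⟨c, ?_⟩
    rw [act_mul, act_mul, ← hg, act_inv_act, hc, act_smul])
  refine ⟨two_of_conj _ h1, h2.imp (of_conj _) fun h3 => ?_⟩
  rw [← h3, card_map_conj]

/-- subgroups of order divisible by `5` -/
theorem three_five (OT : OrderTable.{0})
    (hS : ∀ (X : Type) [Group X] [Finite X] [IsSimpleGroup X], Cfsg.IsKnownSimple' X)
    (hF : Fintype.card F = 2 ^ 2) (E : El F) {M : Subgroup (PSU 4 F 2)} (hM : M ≠ ⊤) (h5 : 5 ∣ Nat.card M) :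
    Three (PSU 4 F 2) M := by
  have hcard := card_u42 hF
  have : Finite (PSU 4 F 2) := Nat.finite_of_card_ne_zero (by rw [hcard]; norm_num)
  obtain ⟨x9, hx9⟩ := H251.Der.exists_u42 hF (n := 9) (by simp)
  have hd := E.od
  have hj := E.oj
  have hj2 := E.oj2
  have ha := E.oa
  rw [← orderOf_pr hF] at hd hj hj2 ha
  by_cases h2 : 2 ∣ Nat.card M
  swap
  · refine Three.of_not_dvd h2 (not_SCC_of_orders (x := pr 4 F 2 (E.j ^ 2)) (y := pr 4 F 2 E.j)
      (z := pr 4 F 2 (E.a * E.u)) ?_ ?_ ?_ ?_ ?_ ?_) ⟨pr 4 F 2 E.j, ?_⟩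
    all_goals simp only [hd, hj, hj2]; norm_num
  by_cases h3 : 3 ∣ Nat.card M
  swap
  · refine Three.of_not_dvd h3 (not_SCC_of_orders (x := pr 4 F 2 E.a) (y := x9)
      (z := pr 4 F 2 (E.a * E.u)) ?_ ?_ ?_ ?_ ?_ ?_) ⟨pr 4 F 2 E.a, ?_⟩
    all_goals simp only [hd, ha, hx9]; norm_num
  have hall : ∀ r ∈ [2, 3, 5], r ∣ Nat.card M := by
    intro r hr
    simp only [List.mem_cons, List.not_mem_nil, or_false] at hr
    rcases hr with rfl | rfl | rfl
    · exact h2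
    · exact h3
    · exact h5
  have h1 := not_27 OT hS hF M hM hall
  simp only [List.mem_cons, List.not_mem_nil, or_false] at h1
  have h27 : ¬ 27 ∣ Nat.card M := by
    rcases h1 with h | h | h | h | h <;> rw [h] <;> norm_num
  apply three_a E hF
  intro φ hm
  have hf3 : Fact (Nat.Prime 3) := ⟨Nat.prime_three⟩
  have hf5 : Fact (Nat.Prime 5) := ⟨by norm_num⟩
  let P : Sylow 3 M := default
  have hreal : ∃ g : M, g * (⟨φ (pr 4 F 2 E.a), hm⟩ : M) * g⁻¹ = (⟨φ (pr 4 F 2 E.a), hm⟩ : M)⁻¹ := by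
    refine real_of_nine P ?_ (fun N hN hidx => ?_) ?_
    · obtain ⟨k, hk⟩ := IsPGroup.iff_card.1 P.2
      have h1 : Nat.card P ∣ Nat.card M := Subgroup.card_subgroup_dvd_card _
      rw [hk] at h1 ⊢
      have h2 : k ≤ 2 := by
        by_contra hcon
        push Not at hcon
        exact h27 ((pow_dvd_pow 3 hcon).trans h1)
      exact pow_dvd_pow 3 h2
    · refine index_not_dvd (p := 5) (r := 3) ((piso53 hF).sub M) N ?_ (by rw [hidx])
      have h2 : 5 ∣ Nat.card N * N.index := by rw [N.card_mul_index]; exact hall 5 (by simp)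
      rw [hidx] at h2
      exact (Nat.Coprime.dvd_of_dvd_mul_right (by norm_num) h2)
    · rw [Subgroup.orderOf_mk, orderOf_mulEquiv, ha]
  obtain ⟨g, hg⟩ := hreal
  have h2 : (g : PSU 4 F 2) * φ (pr 4 F 2 E.a) * (g : PSU 4 F 2)⁻¹ = (φ (pr 4 F 2 E.a))⁻¹ := congrArg Subtype.val hg
  have h3 : φ.symm g * pr 4 F 2 E.a * (φ.symm g)⁻¹ = (pr 4 F 2 E.a)⁻¹ := by
    apply φ.injective
    rw [map_mul, map_mul, map_inv, map_inv, MulEquiv.apply_symm_apply]
    exact h2
  refine not_real_of_trace hF (by norm_num) E.a ?_ (φ.symm g) h3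
  intro c hc4 hc3
  have hc : c = 1 := by
    calc c = c * c ^ (2 + 1) := by rw [hc3, mul_one]
      _ = c ^ 4 := by ring
      _ = 1 := hc4
  have hinv : E.a⁻¹ = E.a ^ 2 := by
    rw [inv_eq_iff_mul_eq_one, ← pow_succ']
    exact E.a3
  rw [hc, one_mul, hinv, E.tr_a, E.tr_a2]
  intro h
  have h4 := E.ww
  apply one_ne_zero (α := F)
  linear_combination -h - h4

theorem not_residual_of_solvable {H : Subgroup (GL (Fin 4) F)} (hs : Group.IsSolvable H)
    (h : InUnitaryResidualClass H) : False := by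
  obtain ⟨P, hP, -⟩ := h
  have h1 : (P.subgroupOf H).map H.subtype = P := by
    rw [Subgroup.subgroupOf_map_subtype]
    exact inf_eq_left.2 hP.le
  have h2 : ⁅P.subgroupOf H, P.subgroupOf H⁆ = P.subgroupOf H := by
    apply Subgroup.map_injective H.subtype_injective
    rw [Subgroup.map_commutator, h1, hP.perfect]
  have h3 : P.subgroupOf H = ⊥ := by
    by_contra hne
    exact (Group.IsSolvable.commutator_lt_of_ne_bot hne).ne h2
  have h4 : P = ⊥ := by rw [← h1, h3, Subgroup.map_bot]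
  have h5 : Subsingleton P := by
    rw [h4]
    infer_instance
  have h6 := hP.simple.toNontrivial
  obtain ⟨x, y, hxy⟩ := h6
  obtain ⟨x, rfl⟩ := QuotientGroup.mk_surjective x
  obtain ⟨y, rfl⟩ := QuotientGroup.mk_surjective y
  exact hxy (congrArg _ (Subsingleton.elim x y))

theorem card_pre (hF : Fintype.card F = 2 ^ 2) (M : Subgroup (PSU 4 F 2)) : Nat.card (pre M) = Nat.card M := by
  have h1 : Nat.card (M.comap (pr 4 F 2)) = Nat.card M :=
    H938.Sax.card_comap (MulEquiv.ofBijective (pr 4 F 2) ⟨pr_inj4 hF, pr_surjective⟩) M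
  rw [← h1]
  exact (Nat.card_congr ((M.comap (pr 4 F 2)).equivMapOfInjective _ H918.suHom_injective).toEquiv).symm

/-- **The maximal subgroups of order prime to 5** -/
theorem types (OT : OrderTable.{0})
    (hS : ∀ (X : Type) [Group X] [Finite X] [IsSimpleGroup X], Cfsg.IsKnownSimple' X)
    (hF : Fintype.card F = 2 ^ 2) (E : El F) {M : Subgroup (PSU 4 F 2)} (hM : IsCoatom M) :
    Three (PSU 4 F 2) M ∨ ∃ e : Fin 4 → F, e ≠ 0 ∧ hermForm 4 F 2 e e = 0 ∧
      ∀ y : SU 4 F 2, pr 4 F 2 y ∈ M → ∃ c : F, act y e = c • e := by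
  by_cases h5 : 5 ∣ Nat.card M
  · exact Or.inl (three_five OT hS hF E hM.1 h5)
  rcases Cfsg.Agent.S5784.result 2 hF _ (isMaximalIn_pre hM) with ⟨W, hW0, hW, hH⟩ | ⟨W, hW0, hW, hW1, hH⟩ |
    ⟨-, D, hD, hH⟩ | ⟨h3, -⟩ | ⟨h4, -⟩ | ⟨F₀, r, P, hr, hrodd, hc, -, -⟩ | ⟨F₀, P, ζ, hc, -, -, -, -, hH⟩ |
    ⟨h2, -⟩ | ⟨p, R, hp, hq, hp4, -⟩ | hres
  · -- totally isotropic subspaces
    have hpos : 0 < finrank F W := by
      rw [Nat.pos_iff_ne_zero, Ne, Submodule.finrank_eq_zero]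
      exact hW0
    have hle : 2 * finrank F W ≤ 4 := by
      have h1 := finrank_of_diag (q := 2) hF (y := (1 : SU 4 F 2)) (A := 1) (B := 1) (b := 1) (one_mul _)
        (by rw [mat_one, Matrix.one_mul, Matrix.mul_one]; exact Matrix.diagonal_one.symm) (fun i => one_pow _) (J := ∅) (by simp)
        (fun w hw => by rwa [act_one]) hW
      simpa using h1
    have h12 : finrank F W = 1 ∨ finrank F W = 2 := by omega
    rcases h12 with h1 | h2
    · right
      obtain ⟨⟨e, heW⟩, he0, he1⟩ := finrank_eq_one_iff'.1 h1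
      refine ⟨e, fun h => he0 (Subtype.ext h), hW e heW e heW, fun y hy => ?_⟩
      have h2 := mem_pre hy
      rw [hH] at h2
      obtain ⟨c, hc⟩ := he1 ⟨_, act_of_stab h2 e heW⟩
      exact ⟨c, (congrArg Subtype.val hc).symm⟩
    · left
      exact three_iso E hF hW h2 hH
  · left
    have hpos : 0 < finrank F W := by
      rw [Nat.pos_iff_ne_zero, Ne, Submodule.finrank_eq_zero]
      exact hW0
    exact three_point E hF hW (by omega) hH
  · left
    exact three_frame E hF hD hH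
  · omega
  · omega
  · exfalso
    have h3 : 3 ≤ r := by
      rcases hr.eq_two_or_odd with h | h
      · subst h
        exact absurd hrodd (by decide)
      · have := hr.two_le
        omega
    have h2 : 2 ≤ Nat.card F₀ := by
      have := Finite.one_lt_card (α := F₀)
      omega
    have h4 : 2 ^ 3 ≤ Nat.card F₀ ^ r :=
      (Nat.pow_le_pow_left h2 3).trans (Nat.pow_le_pow_right (by omega) h3)
    omega
  · left
    refine three_sub E hF ?_ hH
    rw [hF] at hc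
    exact (Nat.pow_left_injective (n := 2) (by norm_num) hc).symm
  · exact absurd h2 (by decide)
  · subst hq
    norm_num at hp4
  · exfalso
    refine not_residual_of_solvable ?_ hres
    have hcard := card_u42 hF
    have h1 : Nat.card M ∣ 2 ^ 6 * 3 ^ 4 := by
      have h2 : Nat.card M ∣ 5 * (2 ^ 6 * 3 ^ 4) := by
        have := Subgroup.card_subgroup_dvd_card M
        rwa [hcard] at this
      exact Nat.Coprime.dvd_of_dvd_mul_left (((Nat.Prime.coprime_iff_not_dvd (by norm_num)).2 h5).symm) h2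
    obtain ⟨a, b, hab⟩ := H251.Der.exists_pow_of_dvd h1
    have : Finite (PSU 4 F 2) := Nat.finite_of_card_ne_zero (by rw [hcard]; norm_num)
    exact Cfsg.Agent.S0144.result 2 3 a b Nat.prime_two Nat.prime_three (by rw [card_pre hF, hab])

/-- **`RowS` for `U₄(2)`.** -/
theorem rowS_u42 (OT : OrderTable.{0})
    (hS : ∀ (X : Type) [Group X] [Finite X] [IsSimpleGroup X], Cfsg.IsKnownSimple' X)
    (hF : Fintype.card F = 2 ^ 2) : RowS (PSU 4 F 2) := by
  obtain ⟨E⟩ := exists_El hF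
  have hcard := card_u42 hF
  have : Finite (PSU 4 F 2) := Nat.finite_of_card_ne_zero (by rw [hcard]; norm_num)
  refine rowS_of_card (N := Nat.card (par 2 (1 : F))) fun R hR => ?_
  rcases eq_top_or_exists_le_coatom R with h1 | ⟨M, hM, h1⟩
  · exact absurd h1 hR
  rcases types OT hS hF E hM with h2 | ⟨e, he0, he, h2⟩
  · exact Or.inl (h2.mono h1)
  · obtain ⟨h3, h4⟩ := p1 hF E he0 he (R := R) fun y hy => h2 y (h1 hy)
    rcases h4 with h4 | h4
    · exact Or.inl h4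
    · exact Or.inr ⟨h3, h4⟩

end Cfsg.Agent.H44.Der.U42
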