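import Cfsg.Agent.H44.Der.U43c
import Cfsg.Agent.S5785

/-!
# The residual class for `U₄(3)` (helper44, for S3502)
-/

set_option autoImplicit false

namespace Cfsg.Agent.H44.Der.U43

open Subgroup Cfsg Cfsg.Geo Matrix

theorem l34_dvd {K : Type} [Field K] [Fintype K] (hK : Fintype.card K = 4) :
    5 ∣ Nat.card (Matrix.ProjectiveSpecialLinearGroup (Fin 3) K) ∧
      7 ∣ Nat.card (Matrix.ProjectiveSpecialLinearGroup (Fin 3) K) := by
  have : Fact (Nat.Prime 2) := ⟨Nat.prime_two⟩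
  have : CharP K 2 := H455.NoNine.charP_of_card (k := 2) Nat.prime_two (by rw [hK]; norm_num)
  have h1 := Cfsg.Agent.S2476.result (F := K) 2
  constructor
  · obtain ⟨x, hx⟩ : 5 ∈ Set.range (orderOf : Matrix.ProjectiveSpecialLinearGroup (Fin 3) K → ℕ) := by
      rw [h1, hK]
      right; left
      norm_num
    rw [← hx]
    exact orderOf_dvd_natCard x
  · obtain ⟨x, hx⟩ : 7 ∈ Set.range (orderOf : Matrix.ProjectiveSpecialLinearGroup (Fin 3) K → ℕ) := by
      rw [h1, hK]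
      left
      norm_num
    rw [← hx]
    exact orderOf_dvd_natCard x

variable {F : Type} [Field F] [Fintype F]

theorem res_u43 (hF : Fintype.card F = 3 ^ 2) : Res F := by
  intro H hH hres
  obtain ⟨P, hP, -, h⟩ := Cfsg.Agent.S5785.result 3 hF H hH hres
  have h1 : Nat.card (P ⧸ (scalars (Fin 4) F).subgroupOf P) ∣ Nat.card H :=
    (Subgroup.card_quotient_dvd_card _).trans (Subgroup.card_dvd_of_le hP.le)
  rcases h with ⟨⟨e⟩, -⟩ | ⟨⟨K, _, _, hK, ⟨e⟩⟩, -⟩ | ⟨-, h⟩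
  · have h2 : Nat.card (alternatingGroup (Fin 7)) = 2520 := by
      rw [Nat.card_eq_fintype_card, card_alternatingGroup]
      simp
      rfl
    rw [Nat.card_congr e.toEquiv, h2] at h1
    exact ⟨(by norm_num : 5 ∣ 2520).trans h1, (by norm_num : 7 ∣ 2520).trans h1⟩
  · rw [Nat.card_congr e.toEquiv] at h1
    exact ⟨(l34_dvd hK).1.trans h1, (l34_dvd hK).2.trans h1⟩
  · norm_num at h

/-- **`RowS` for `U₄(3)`.** -/
theorem rowS_u43_full (OT : Cfsg.Agent.OrdDiv.OrderTable.{0})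
    (hS : ∀ (X : Type) [Group X] [Finite X] [IsSimpleGroup X], Cfsg.IsKnownSimple' X)
    (hF : Fintype.card F = 3 ^ 2) : Cfsg.Agent.H439.Der.RowS (PSU 4 F 3) :=
  rowS_u43 OT hS hF (res_u43 hF)

end Cfsg.Agent.H44.Der.U43
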