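import Cfsg.Agent.H251.GeoUMain
import Cfsg.Agent.H251.Small.Base
import Cfsg.Agent.H439.Der.Three

/-!
# Small unitary groups, three classes of derangements (S3502): tools (helper44)
-/

set_option autoImplicit false
set_option linter.unusedSectionVars false

namespace Cfsg.Agent.H44.Der

open Subgroup Cfsg Cfsg.Geo Cfsg.Agent.H439.Der Cfsg.Agent.H938.Sax
open Cfsg.Agent.LieClassical.HermBasic Cfsg.Agent.LieClassical.HermSiegel Cfsg.Agent.LieClassical.SUBasic
open Cfsg.Agent.ClassicalGeometry.PSUAutBasic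
open Cfsg.Agent.H251.GeoU (pre)
open scoped Matrix MatrixGroups

section abstract

variable {T : Type*} [Group T] {M R : Subgroup T}

/-- If the proper subgroups which are not `Three` are `Two` and have all the same order, the strong row holds. -/
theorem rowS_of_card [Finite T] {N : ℕ} (h : ∀ R : Subgroup T, R ≠ ⊤ → Three T R ∨ (Two T R ∧ Nat.card R = N)) :
    RowS T := by
  refine RowS.of_coatoms fun M hM => ?_
  rcases h M hM.1 with h1 | ⟨h1, h2⟩
  · exact Or.inl h1
  · right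
    refine ⟨h1, fun R hR => ?_⟩
    rcases h R (hR.trans hM.lt_top).ne with h3 | ⟨h3, h4⟩
    · exact h3
    · exfalso
      have h5 := Subgroup.eq_of_le_of_card_ge hR.le (by rw [h4, h2])
      exact hR.ne h5

theorem miss_of_pow {x y : T} {k : ℕ} (hx : ∀ φ : T ≃* T, φ x ∉ M) (h : y ^ k = x) : ∀ φ : T ≃* T, φ y ∉ M := by
  intro φ hφ
  apply hx φ
  rw [← h, map_pow]
  exact M.pow_mem hφ k

/-- three missing elements of different orders -/
theorem three_of_ne {x y z : T} (hx : ∀ φ : T ≃* T, φ x ∉ R) (hy : ∀ φ : T ≃* T, φ y ∉ R) (hz : ∀ φ : T ≃* T, φ z ∉ R)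
    (hxy : orderOf x ≠ orderOf y) (hxz : orderOf x ≠ orderOf z) (hyz : orderOf y ≠ orderOf z) : Three T R := by
  refine ⟨x, y, z, hx, hy, hz, fun φ h => hxy ?_, fun φ h => hxz ?_, fun φ h => hyz ?_⟩
  all_goals rw [← h, orderOf_mulEquiv]

theorem not_mem_of_card {x : T} {v : ℕ} (hv : ¬ v ∣ Nat.card M) (hx : v ∣ orderOf x) : ∀ φ : T ≃* T, φ x ∉ M :=
  not_mem_of_dvd hv hx

end abstract

section unitary

variable {F : Type*} [Field F] [Fintype F] {n q : ℕ}

/-- the matrices of the lifts of the images of `X` under automorphisms -/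
def Rel (q : ℕ) (X Y : Matrix (Fin n) (Fin n) F) : Prop :=
  ∃ (A B : Matrix (Fin n) (Fin n) F) (ρ : F ≃+* F) (c : F), A * B = 1 ∧ c ^ n = 1 ∧ c ^ (q + 1) = 1 ∧
    Y = c • (A * X.map ρ * B)

/-- no lift of an image of `x` is in `H` -/
def Miss' (x : SU n F q) (H : Subgroup (GL (Fin n) F)) : Prop :=
  ∀ y : SU n F q, Rel q (mat x) (mat y) → H918.suHom n F q y ∉ H

theorem mem_pre {M : Subgroup (PSU n F q)} {y : SU n F q} (h : pr n F q y ∈ M) : H918.suHom n F q y ∈ pre M :=
  ⟨y, h, rfl⟩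

theorem of_mem_pre {M : Subgroup (PSU n F q)} {y : SU n F q} (h : H918.suHom n F q y ∈ pre M) : pr n F q y ∈ M := by
  obtain ⟨z, hz, h1⟩ := h
  rw [← H918.suHom_injective h1]
  exact hz

theorem miss (hF : Fintype.card F = q ^ 2) (hn : 3 ≤ n) (h32 : ¬ (n = 3 ∧ q = 2)) {M : Subgroup (PSU n F q)}
    {x : SU n F q} (h : Miss' x (pre M)) (φ : PSU n F q ≃* PSU n F q) : φ (pr n F q x) ∉ M := by
  intro hφ
  obtain ⟨y, hy⟩ := pr_surjective (φ (pr n F q x))
  have h1 : pr n F q y ∈ M := by rw [hy]; exact hφ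
  exact h y (H251.Small.aut_mat hF hn h32 φ hy.symm) (mem_pre h1)

theorem isMaximalIn_pre {M : Subgroup (PSU n F q)} (hM : IsCoatom M) :
    IsMaximalIn (Cfsg.GU n F q ⊓ specialLinear (Fin n) F) (pre M) := by
  refine ⟨lt_of_le_of_ne (H251.GeoU.pre_le M) fun h => hM.1 ?_, fun K hK1 hK2 => ?_⟩
  · rw [eq_top_iff]
    intro x _
    obtain ⟨y, rfl⟩ := pr_surjective x
    exact of_mem_pre (by rw [h]; exact H918.suHom_mem y)
  · have hcen : ∀ z ∈ Subgroup.center (SU n F q), H918.suHom n F q z ∈ pre M := by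
      intro z hz
      refine mem_pre ?_
      rw [pr_eq_one_iff.2 hz]
      exact M.one_mem
    let M' : Subgroup (PSU n F q) := (K.comap (H918.suHom n F q)).map (pr n F q)
    have hle : M ≤ M' := by
      intro x hx
      obtain ⟨y, rfl⟩ := pr_surjective x
      exact ⟨y, hK1 (mem_pre hx), rfl⟩
    rcases hM.le_iff.1 hle with h1 | h1
    · right
      refine le_antisymm hK2 fun g hg => ?_
      obtain ⟨y, rfl⟩ := H918.exists_suHom hg
      have h2 : pr n F q y ∈ M' := by rw [h1]; exact Subgroup.mem_top _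
      obtain ⟨y', hy', h3⟩ := h2
      obtain ⟨z, hz, rfl⟩ := exists_center_mul h3
      rw [map_mul]
      exact K.mul_mem hy' (hK1 (hcen z hz))
    · left
      refine le_antisymm (fun g hg => ?_) hK1
      obtain ⟨y, rfl⟩ := H918.exists_suHom (hK2 hg)
      refine mem_pre ?_
      rw [← h1]
      exact ⟨y, hg, rfl⟩

end unitary

end Cfsg.Agent.H44.Der
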