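import Cfsg.Agent.H44.Der.Base

/-!
# Diagonal elements and totally isotropic subspaces (helper44)
-/

set_option autoImplicit false
set_option linter.unusedSectionVars false

namespace Cfsg.Agent.H44.Der

open Subgroup Cfsg Cfsg.Geo Module
open Cfsg.Agent.LieClassical.HermBasic Cfsg.Agent.LieClassical.HermSiegel Cfsg.Agent.LieClassical.SUBasic
open Cfsg.Agent.ClassicalGeometry.PSUAutBasic
open Cfsg.Agent.H251.GeoU (pre)
open scoped Matrix MatrixGroups

variable {F : Type*} [Field F] [Fintype F] {n q : ℕ}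

theorem act_of_stab {y : SU n F q} {W : Submodule F (Fin n → F)} {K : Subgroup (GL (Fin n) F)}
    (h : H918.suHom n F q y ∈ subspaceStabilizer W ⊓ K) : ∀ w ∈ W, act y w ∈ W := by
  intro w hw
  exact (H918.mem_subspaceStabilizer.1 h.1 w).1 hw

section vec

variable {A B : Matrix (Fin n) (Fin n) F} {b : Fin n → F}

theorem mulVec_A (hAB : A * B = 1) (z : Fin n → F) : B *ᵥ (A *ᵥ z) = z := by
  rw [Matrix.mulVec_mulVec, _root_.mul_eq_one_comm.1 hAB, Matrix.one_mulVec]

theorem mulVec_B (hAB : A * B = 1) (z : Fin n → F) : A *ᵥ (B *ᵥ z) = z := by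
  rw [Matrix.mulVec_mulVec, hAB, Matrix.one_mulVec]

theorem act_A {y : SU n F q} (hAB : A * B = 1) (hy : mat y = A * Matrix.diagonal b * B) (z : Fin n → F) :
    act y (A *ᵥ z) = A *ᵥ (fun i => b i * z i) := by
  rw [act_def, hy, ← Matrix.mulVec_mulVec, mulVec_A hAB, ← Matrix.mulVec_mulVec]
  congr 1
  funext i
  rw [Matrix.mulVec_diagonal]

/-- invariant subspaces are invariant under the spectral projections -/
theorem proj_mem {y : SU n F q} (hAB : A * B = 1) (hy : mat y = A * Matrix.diagonal b * B)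
    {W : Submodule F (Fin n → F)} (hinv : ∀ w ∈ W, act y w ∈ W) [DecidableEq F] (s : Finset F) :
    ∀ v ∈ W, A *ᵥ (fun i => (∏ μ ∈ s, (b i - μ)) * (B *ᵥ v) i) ∈ W := by
  induction s using Finset.induction_on with
  | empty =>
    intro v hv
    simp only [Finset.prod_empty, one_mul]
    rw [show (fun i => (B *ᵥ v) i) = B *ᵥ v from rfl, mulVec_B hAB]
    exact hv
  | insert ν s hν ih =>
    intro v hv
    have h1 := ih v hv
    have h2 := hinv _ h1
    rw [act_A hAB hy] at h2
    have h3 := W.sub_mem h2 (W.smul_mem ν h1)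
    rw [← Matrix.mulVec_smul, ← Matrix.mulVec_sub] at h3
    convert h3 using 2
    funext i
    simp only [Pi.sub_apply, Pi.smul_apply, smul_eq_mul]
    rw [Finset.prod_insert hν]
    ring

theorem iso_of_diag (hF : Fintype.card F = q ^ 2) {y : SU n F q} (hAB : A * B = 1)
    (hy : mat y = A * Matrix.diagonal b * B)
    (hb : ∀ i, b i ^ (q + 1) = 1) {i j : Fin n} (hij : b i ≠ b j) :
    hermForm n F q (A *ᵥ Pi.single i 1) (A *ᵥ Pi.single j 1) = 0 := by
  have h1 : ∀ k, act y (A *ᵥ Pi.single k 1) = b k • (A *ᵥ Pi.single k 1) := by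
    intro k
    rw [act_A hAB hy, ← Matrix.mulVec_smul]
    congr 1
    funext l
    by_cases h : l = k
    · subst h
      simp
    · simp [h]
  have h2 := herm_act y (A *ᵥ Pi.single i 1) (A *ᵥ Pi.single j 1)
  rw [h1, h1, herm_smul_left, herm_smul_right] at h2
  by_contra hne
  apply hij
  have h3 : b i * b j ^ q = 1 := by
    apply mul_right_cancel₀ hne
    rw [one_mul]
    linear_combination h2
  have h4 : b j * b j ^ q = 1 := by rw [← pow_succ', hb]
  have h5 : b j ^ q ≠ 0 := by
    intro h0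
    rw [h0, mul_zero] at h4
    exact zero_ne_one h4
  exact mul_right_cancel₀ h5 (h3.trans h4.symm)

theorem single_sum (z : Fin n → F) : A *ᵥ z = ∑ i, z i • (A *ᵥ Pi.single i 1) := by
  funext k
  rw [Finset.sum_apply]
  simp only [Pi.smul_apply, Matrix.mulVec_single_one, smul_eq_mul, Matrix.col_apply]
  rw [Matrix.mulVec, dotProduct]
  exact Finset.sum_congr rfl fun i _ => mul_comm _ _

theorem nonisotropic_of_diag (hF : Fintype.card F = q ^ 2) {y : SU n F q} (hAB : A * B = 1)
    (hy : mat y = A * Matrix.diagonal b * B)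
    (hb : ∀ i, b i ^ (q + 1) = 1) {j : Fin n} (hj : ∀ i, i ≠ j → b i ≠ b j) :
    hermForm n F q (A *ᵥ Pi.single j 1) (A *ᵥ Pi.single j 1) ≠ 0 := by
  intro h0
  have h1 : A *ᵥ Pi.single j 1 ≠ 0 := by
    intro h
    have h2 := mulVec_A hAB (Pi.single j (1 : F))
    rw [h, Matrix.mulVec_zero] at h2
    have h3 := congrFun h2 j
    simp at h3
  obtain ⟨v, hv⟩ := exists_herm_ne_zero hF h1
  apply hv
  rw [← mulVec_B hAB v, single_sum (A := A) (B *ᵥ v), herm_sum_right hF]
  apply Finset.sum_eq_zero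
  intro i _
  rw [herm_smul_right]
  by_cases h : i = j
  · subst h
    rw [h0, mul_zero]
  · rw [iso_of_diag hF hAB hy hb (Ne.symm (hj i h)), mul_zero]

/-- **Invariant totally isotropic subspaces of a diagonalizable element.** -/
theorem finrank_of_diag (hF : Fintype.card F = q ^ 2) {y : SU n F q} (hAB : A * B = 1)
    (hy : mat y = A * Matrix.diagonal b * B)
    (hb : ∀ i, b i ^ (q + 1) = 1) {J : Finset (Fin n)} (hJ : ∀ j ∈ J, ∀ i, i ≠ j → b i ≠ b j)
    {W : Submodule F (Fin n → F)} (hinv : ∀ w ∈ W, act y w ∈ W)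
    (hW : IsTotallySingularFor (hermForm n F q) W) : 2 * finrank F W + J.card ≤ n := by
  classical
  have key : ∀ j ∈ J, ∀ v ∈ W, (B *ᵥ v) j = 0 := by
    intro j hj v hv
    by_contra hne
    have h1 := proj_mem hAB hy hinv ((Finset.univ.image b).erase (b j)) v hv
    have h2 : (fun i => (∏ μ ∈ (Finset.univ.image b).erase (b j), (b i - μ)) * (B *ᵥ v) i) =
        ((∏ μ ∈ (Finset.univ.image b).erase (b j), (b j - μ)) * (B *ᵥ v) j) • (Pi.single j 1 : Fin n → F) := by
      funext i
      by_cases h : i = j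
      · subst h
        simp
      · rw [Finset.prod_eq_zero (i := b i)]
        · simp [h]
        · rw [Finset.mem_erase]
          exact ⟨hJ j hj i h, Finset.mem_image_of_mem _ (Finset.mem_univ _)⟩
        · rw [sub_self]
    rw [h2, Matrix.mulVec_smul] at h1
    have h3 : (∏ μ ∈ (Finset.univ.image b).erase (b j), (b j - μ)) * (B *ᵥ v) j ≠ 0 := by
      refine mul_ne_zero ?_ hne
      rw [Finset.prod_ne_zero_iff]
      intro μ hμ
      rw [Finset.mem_erase] at hμ
      rw [sub_ne_zero]
      exact hμ.1.symm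
    have h4 := (W.smul_mem_iff h3).1 h1
    exact nonisotropic_of_diag hF hAB hy hb (hJ j hj) (hW _ h4 _ h4)
  have hperp : ∀ j ∈ J, ∀ v ∈ W, hermForm n F q (A *ᵥ Pi.single j 1) v = 0 := by
    intro j hj v hv
    rw [← mulVec_B hAB v, single_sum (A := A) (B *ᵥ v), herm_sum_right hF]
    apply Finset.sum_eq_zero
    intro i _
    rw [herm_smul_right]
    by_cases h : i = j
    · subst h
      rw [key i hj v hv, zero_pow_q hF, zero_mul]
    · rw [iso_of_diag hF hAB hy hb (Ne.symm (hJ j hj i h)), mul_zero]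
  have hB := H950.frm_herm hF n
  set U : Submodule F (Fin n → F) := Submodule.span F (Set.range fun j : J => A *ᵥ Pi.single (j : Fin n) 1) with hU
  have hUcard : finrank F U = J.card := by
    rw [hU, finrank_span_eq_card]
    · simp
    · have h1 : LinearIndependent F (fun j : Fin n => A *ᵥ (Pi.single j 1 : Fin n → F)) := by
        rw [Fintype.linearIndependent_iff]
        intro g hg i
        rw [← single_sum] at hg
        have h2 := mulVec_A hAB g
        rw [hg, Matrix.mulVec_zero] at h2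
        rw [← h2]
        rfl
      exact h1.comp _ Subtype.val_injective
  have hUW : U ≤ hB.perp W := by
    rw [hU, Submodule.span_le]
    rintro _ ⟨j, rfl⟩
    intro w hw
    exact hperp j j.2 w hw
  have hdis : W ⊓ U = ⊥ := by
    rw [eq_bot_iff]
    rintro v ⟨hvW, hvU⟩
    rw [SetLike.mem_coe, hU, Submodule.mem_span_range_iff_exists_fun] at hvU
    obtain ⟨c, hc⟩ := hvU
    have h1 : v = A *ᵥ (fun i => if h : i ∈ J then c ⟨i, h⟩ else 0) := by
      rw [single_sum, ← hc]
      rw [← Finset.sum_subset (Finset.subset_univ J)]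
      · rw [← Finset.sum_coe_sort J]
        apply Finset.sum_congr rfl
        intro j _
        rw [dif_pos j.2]
      · intro i _ hi
        rw [dif_neg hi, zero_smul]
    have h2 : (fun i => if h : i ∈ J then c ⟨i, h⟩ else 0) = 0 := by
      funext i
      by_cases h : i ∈ J
      · have h3 := key i h v hvW
        rw [h1, mulVec_A hAB] at h3
        exact h3
      · simp [h]
    rw [h1, h2, Matrix.mulVec_zero]
    exact Submodule.zero_mem _
  have h5 := hB.finrank_perp_inf' (H950.nd_top hF n) (le_top (a := W))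
  rw [inf_top_eq, finrank_top, finrank_fin_fun] at h5
  have h6 : finrank F ↥(W ⊔ U) ≤ finrank F ↥(hB.perp W) := by
    apply Submodule.finrank_mono
    exact sup_le hW hUW
  have h7 := Submodule.finrank_sup_add_finrank_inf_eq W U
  rw [hdis, finrank_bot] at h7
  omega

end vec

theorem rel_diag {a : Fin n → F} (ha : ∀ i, a i ^ (q + 1) = 1) {x y : SU n F q} (hx : mat x = Matrix.diagonal a)
    (h : Rel q (mat x) (mat y)) : ∃ (A B : Matrix (Fin n) (Fin n) F) (b : Fin n → F), A * B = 1 ∧
      mat y = A * Matrix.diagonal b * B ∧ (∀ i, b i ^ (q + 1) = 1) ∧ (∀ i j, b i = b j ↔ a i = a j) := by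
  obtain ⟨A, B, ρ, c, h1, h2, h3, h4⟩ := h
  have hc : c ≠ 0 := by
    rintro rfl
    rw [zero_pow (Nat.succ_ne_zero q)] at h3
    exact zero_ne_one h3
  refine ⟨A, B, fun i => c * ρ (a i), h1, ?_, fun i => ?_, fun i j => ?_⟩
  · rw [h4, hx, Matrix.diagonal_map (map_zero ρ), ← Matrix.smul_mul, ← Matrix.mul_smul]
    congr 2
    ext i j
    by_cases h : i = j
    · subst h
      simp
    · simp [h]
  · rw [mul_pow, h3, one_mul, ← map_pow, ha, map_one]
  · rw [mul_right_inj' hc, EmbeddingLike.apply_eq_iff_eq]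

/-- **Missing of diagonal elements in stabilizers of totally isotropic subspaces.** -/
theorem miss_diag_iso (hF : Fintype.card F = q ^ 2) {a : Fin n → F} (ha : ∀ i, a i ^ (q + 1) = 1) {x : SU n F q}
    (hx : mat x = Matrix.diagonal a) {J : Finset (Fin n)} (hJ : ∀ j ∈ J, ∀ i, i ≠ j → a i ≠ a j)
    {W : Submodule F (Fin n → F)} (hW : IsTotallySingularFor (hermForm n F q) W) (hd : n < 2 * finrank F W + J.card)
    {K : Subgroup (GL (Fin n) F)} : Miss' x (subspaceStabilizer W ⊓ K) := by
  intro y hy hm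
  obtain ⟨A, B, b, h1, h2, h3, h4⟩ := rel_diag ha hx hy
  have h5 := finrank_of_diag hF h1 h2 h3 (J := J) (fun j hj i hij h => hJ j hj i hij ((h4 i j).1 h))
    (act_of_stab hm) hW
  omega

end Cfsg.Agent.H44.Der
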