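import Cfsg.Agent.LieClassical.HermGen
import Cfsg.Agent.ClassicalGeometry.PSUAutBasic
import Cfsg.Agent.S0278

/-!
# The stabilizer of an isotropic point in `SU₄(q)` (helper44)
-/

set_option autoImplicit false
set_option linter.unusedSectionVars false

namespace Cfsg.Agent.H44.Der.Para

open Subgroup Cfsg Matrix
open Cfsg.Agent.LieClassical.HermBasic Cfsg.Agent.LieClassical.HermSiegel Cfsg.Agent.LieClassical.SUBasic
open Cfsg.Agent.LieClassical.HermGen

variable {F : Type*} [Field F] [Fintype F] {q : ℕ}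

def u0 (ζ : F) : Fin 4 → F := ![1, ζ, 0, 0]
def wv (a b : F) : Fin 4 → F := ![0, 0, a, b]

section vec

variable {ζ : F}

theorem herm_u0 (hF : Fintype.card F = q ^ 2) (x : Fin 4 → F) : hermForm 4 F q x (u0 ζ) = x 0 + x 1 * ζ ^ q := by
  have := zero_pow_q hF
  simp [herm_def, Fin.sum_univ_four, u0, this]

theorem herm_wv (hF : Fintype.card F = q ^ 2) (x : Fin 4 → F) (a b : F) :
    hermForm 4 F q x (wv a b) = x 2 * a ^ q + x 3 * b ^ q := by
  have := zero_pow_q hF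
  simp [herm_def, Fin.sum_univ_four, wv, this]

theorem u0_iso (hF : Fintype.card F = q ^ 2) (hζ : ζ ^ (q + 1) = -1) : hermForm 4 F q (u0 ζ) (u0 ζ) = 0 := by
  rw [herm_u0 hF]
  simp only [u0]
  simp
  rw [pow_succ'] at hζ
  linear_combination hζ

theorem wv_orth (hF : Fintype.card F = q ^ 2) (a b : F) : hermForm 4 F q (wv a b) (u0 ζ) = 0 := by
  rw [herm_u0 hF]
  simp [wv]

theorem zeta_ne (hζ : ζ ^ (q + 1) = -1) : ζ ≠ 0 := by
  rintro rfl
  rw [zero_pow (Nat.succ_ne_zero q)] at hζ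
  exact one_ne_zero (neg_eq_zero.1 hζ.symm)

theorem u0_ne : u0 ζ ≠ 0 := by
  intro h
  have := congrFun h 0
  simp [u0] at this

theorem decomp (hF : Fintype.card F = q ^ 2) (hζ : ζ ^ (q + 1) = -1) {y : Fin 4 → F}
    (hy : hermForm 4 F q y (u0 ζ) = 0) : y = y 0 • u0 ζ + wv (y 2) (y 3) := by
  rw [herm_u0 hF] at hy
  rw [pow_succ'] at hζ
  have h1 : y 1 = y 0 * ζ := by linear_combination y 1 * hζ - ζ * hy
  funext i
  fin_cases i
  · simp [u0, wv]
  · simp [u0, wv, h1]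
  · simp [u0, wv]
  · simp [u0, wv]

end vec

/-- the stabilizer of the point -/
def par (q : ℕ) (ζ : F) : Subgroup (SU 4 F q) where
  carrier := {g | ∃ l : F, act g (u0 ζ) = l • u0 ζ}
  mul_mem' := by
    rintro g h ⟨l, hl⟩ ⟨m, hm⟩
    refine ⟨l * m, ?_⟩
    rw [act_mul, hm, act_smul, hl, smul_smul, mul_comm]
  one_mem' := ⟨1, by rw [act_one, one_smul]⟩
  inv_mem' := by
    rintro g ⟨l, hl⟩
    have hl0 : l ≠ 0 := by
      rintro rfl
      rw [zero_smul, act_eq_zero] at hl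
      exact u0_ne hl
    refine ⟨l⁻¹, ?_⟩
    have h1 : act g⁻¹ (act g (u0 ζ)) = u0 ζ := act_inv_act g _
    rw [hl, act_smul] at h1
    calc act g⁻¹ (u0 ζ) = l⁻¹ • (l • act g⁻¹ (u0 ζ)) := by rw [smul_smul, inv_mul_cancel₀ hl0, one_smul]
      _ = l⁻¹ • u0 ζ := by rw [h1]

/-- the eigenvalue -/
def lam (ζ : F) (g : SU 4 F q) : F := act g (u0 ζ) 0

theorem act_u0 {ζ : F} {g : SU 4 F q} (hg : g ∈ par q ζ) : act g (u0 ζ) = lam ζ g • u0 ζ := by
  obtain ⟨l, hl⟩ := hg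
  have h1 : lam ζ g = l := by
    rw [lam, hl]
    simp [u0]
  rw [hl, h1]

theorem lam_ne {ζ : F} {g : SU 4 F q} (hg : g ∈ par q ζ) : lam ζ g ≠ 0 := by
  intro h
  have h1 := act_u0 hg
  rw [h, zero_smul, act_eq_zero] at h1
  exact u0_ne h1

theorem lam_eq {ζ : F} {g : SU 4 F q} {l : F} (h : act g (u0 ζ) = l • u0 ζ) : lam ζ g = l := by
  rw [lam, h]
  simp [u0]

theorem lam_mul {ζ : F} {g h : SU 4 F q} (hg : g ∈ par q ζ) (hh : h ∈ par q ζ) :
    lam ζ (g * h) = lam ζ g * lam ζ h := by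
  apply lam_eq
  rw [act_mul, act_u0 hh, act_smul, act_u0 hg, smul_smul, mul_comm]

/-- the hom to the multiplicative group -/
def lamHom (q : ℕ) (ζ : F) : par q ζ →* Fˣ where
  toFun g := Units.mk0 (lam ζ (g : SU 4 F q)) (lam_ne g.2)
  map_one' := by
    apply Units.ext
    change lam ζ (1 : SU 4 F q) = 1
    exact lam_eq (by rw [act_one, one_smul])
  map_mul' g h := by
    apply Units.ext
    exact lam_mul g.2 h.2

theorem coe_lamHom {ζ : F} (g : par q ζ) : ((lamHom q ζ g : Fˣ) : F) = lam ζ (g : SU 4 F q) := rfl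

/-- the action on `u0^⊥ / u0` -/
def th (g : SU 4 F q) : Matrix (Fin 2) (Fin 2) F := !![mat g 2 2, mat g 2 3; mat g 3 2, mat g 3 3]

theorem act_wv (hF : Fintype.card F = q ^ 2) {ζ : F} (hζ : ζ ^ (q + 1) = -1) {g : SU 4 F q} (hg : g ∈ par q ζ)
    (a b : F) : ∃ κ : F, act g (wv a b) =
      κ • u0 ζ + wv (mat g 2 2 * a + mat g 2 3 * b) (mat g 3 2 * a + mat g 3 3 * b) := by
  have h1 : hermForm 4 F q (act g (wv a b)) (u0 ζ) = 0 := by
    have h2 := herm_act g (wv a b) (u0 ζ)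
    rw [act_u0 hg, herm_smul_right, wv_orth hF] at h2
    exact (mul_eq_zero.1 h2).resolve_left (fun h => lam_ne hg ((pow_q_eq_zero hF).1 h))
  refine ⟨act g (wv a b) 0, ?_⟩
  have h3 := decomp hF hζ h1
  have h4 : act g (wv a b) 2 = mat g 2 2 * a + mat g 2 3 * b := by
    rw [act_def, Matrix.mulVec, dotProduct, Fin.sum_univ_four]
    simp [wv]
  have h5 : act g (wv a b) 3 = mat g 3 2 * a + mat g 3 3 * b := by
    rw [act_def, Matrix.mulVec, dotProduct, Fin.sum_univ_four]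
    simp [wv]
  rw [h4, h5] at h3
  exact h3

theorem th_mul (hF : Fintype.card F = q ^ 2) {ζ : F} (hζ : ζ ^ (q + 1) = -1) {g h : SU 4 F q} (hg : g ∈ par q ζ)
    (hh : h ∈ par q ζ) : th (g * h) = th g * th h := by
  have key : ∀ a b : F, ∀ i : Fin 4, i = 2 ∨ i = 3 → act (g * h) (wv a b) i =
      mat g i 2 * (mat h 2 2 * a + mat h 2 3 * b) + mat g i 3 * (mat h 3 2 * a + mat h 3 3 * b) := by
    intro a b i hi
    obtain ⟨κ, hκ⟩ := act_wv hF hζ hh a b
    rw [act_mul, hκ, act_add, act_smul, act_u0 hg]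
    have h1 : (κ • lam ζ g • u0 ζ) i = 0 := by
      rcases hi with rfl | rfl <;> simp [u0]
    rw [Pi.add_apply, h1, zero_add, act_def, Matrix.mulVec, dotProduct, Fin.sum_univ_four]
    simp [wv]
  have key2 : ∀ a b : F, ∀ i : Fin 4, act (g * h) (wv a b) i = mat (g * h) i 2 * a + mat (g * h) i 3 * b := by
    intro a b i
    rw [act_def, Matrix.mulVec, dotProduct, Fin.sum_univ_four]
    simp [wv]
  have e22 := key 1 0 2 (Or.inl rfl)
  have e23 := key 0 1 2 (Or.inl rfl)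
  have e32 := key 1 0 3 (Or.inr rfl)
  have e33 := key 0 1 3 (Or.inr rfl)
  rw [key2] at e22 e23 e32 e33
  simp only [mul_one, mul_zero, add_zero, zero_add] at e22 e23 e32 e33
  rw [th, th, th, Matrix.mul_fin_two, e22, e23, e32, e33]

theorem th_det (hF : Fintype.card F = q ^ 2) {ζ : F} (hζ : ζ ^ (q + 1) = -1) {g : SU 4 F q}
    (hg : act g (u0 ζ) = u0 ζ) : (th g).det = 1 := by
  have hgp : g ∈ par q ζ := ⟨1, by rw [one_smul]; exact hg⟩
  have hz := zeta_ne hζ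
  have r : ∀ i, mat g i 0 + ζ * mat g i 1 = u0 ζ i := by
    intro i
    have := congrFun hg i
    rw [act_def, Matrix.mulVec, dotProduct, Fin.sum_univ_four] at this
    simp only [u0] at this ⊢
    simp at this
    rw [← this]
    ring
  have r0 := r 0
  have r1 := r 1
  have r2 := r 2
  have r3 := r 3
  simp [u0] at r0 r1 r2 r3
  obtain ⟨κ2, h2⟩ := act_wv hF hζ hgp 1 0
  obtain ⟨κ3, h3⟩ := act_wv hF hζ hgp 0 1
  have c2 : ∀ i, mat g i 2 = act g (wv 1 0) i := by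
    intro i
    rw [act_def, Matrix.mulVec, dotProduct, Fin.sum_univ_four]
    simp [wv]
  have c3 : ∀ i, mat g i 3 = act g (wv 0 1) i := by
    intro i
    rw [act_def, Matrix.mulVec, dotProduct, Fin.sum_univ_four]
    simp [wv]
  have s02 : mat g 0 2 = κ2 := by rw [c2, h2]; simp [u0, wv]
  have s12 : mat g 1 2 = κ2 * ζ := by rw [c2, h2]; simp [u0, wv]
  have s03 : mat g 0 3 = κ3 := by rw [c3, h3]; simp [u0, wv]
  have s13 : mat g 1 3 = κ3 * ζ := by rw [c3, h3]; simp [u0, wv]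
  have hx := herm_act g (Pi.single 1 1) (u0 ζ)
  rw [hg, herm_u0 hF, herm_u0 hF, act_single, act_single] at hx
  simp at hx
  have hζ' := hζ
  rw [pow_succ'] at hζ'
  have h11 : mat g 1 1 = 1 + ζ * mat g 0 1 := by
    linear_combination (-1 : F) * ζ * hx + (mat g 1 1 - 1) * hζ'
  have hd := det_mat g
  have e00 : mat g 0 0 = 1 - ζ * mat g 0 1 := by linear_combination r0
  have e10 : mat g 1 0 = ζ - ζ * mat g 1 1 := by linear_combination r1
  have e20 : mat g 2 0 = - ζ * mat g 2 1 := by linear_combination r2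
  have e30 : mat g 3 0 = - ζ * mat g 3 1 := by linear_combination r3
  rw [th, Matrix.det_fin_two_of]
  rw [Matrix.det_succ_row_zero] at hd
  simp [Fin.sum_univ_succ, Matrix.det_fin_three, Fin.succAbove, Matrix.submatrix_apply] at hd
  rw [e00, e10, e20, e30, s02, s12, s03, s13, h11] at hd
  linear_combination hd

theorem wv_herm (hF : Fintype.card F = q ^ 2) (x y : Fin 2 → F) :
    hermForm 4 F q (wv (x 0) (x 1)) (wv (y 0) (y 1)) = hermForm 2 F q x y := by
  rw [herm_wv hF, herm_def, Fin.sum_univ_two]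
  simp [wv]

theorem th_herm (hF : Fintype.card F = q ^ 2) {ζ : F} (hζ : ζ ^ (q + 1) = -1) {g : SU 4 F q}
    (hg : g ∈ par q ζ) (x y : Fin 2 → F) : hermForm 2 F q (th g *ᵥ x) (th g *ᵥ y) = hermForm 2 F q x y := by
  have e : ∀ z : Fin 2 → F, wv (mat g 2 2 * z 0 + mat g 2 3 * z 1) (mat g 3 2 * z 0 + mat g 3 3 * z 1) =
      wv ((th g *ᵥ z) 0) ((th g *ᵥ z) 1) := by
    intro z
    congr 1 <;> simp [th, Matrix.mulVec, dotProduct, Fin.sum_univ_two]
  rw [← wv_herm hF, ← wv_herm hF, ← herm_act g (wv (x 0) (x 1))]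
  obtain ⟨κ, h1⟩ := act_wv hF hζ hg (x 0) (x 1)
  obtain ⟨κ', h2⟩ := act_wv hF hζ hg (y 0) (y 1)
  rw [h1, h2, e, e]
  have hw := wv_orth (ζ := ζ) hF
  have hw' : ∀ a b : F, hermForm 4 F q (u0 ζ) (wv a b) = 0 := fun a b => herm_eq_zero_swap hF (hw a b)
  simp only [herm_add_left, herm_add_right hF, herm_smul_left, herm_smul_right, u0_iso hF hζ, hw, hw']
  ring

/-- the action of the elements fixing `u0` on `u0^⊥ / u0` -/
def thHom (hF : Fintype.card F = q ^ 2) {ζ : F} (hζ : ζ ^ (q + 1) = -1) : (lamHom q ζ).ker →* SU 2 F q where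
  toFun g := mkSU (th ((g : par q ζ) : SU 4 F q))
    (th_det hF hζ (by
      have h1 := act_u0 (g : par q ζ).2
      have h2 : lam ζ ((g : par q ζ) : SU 4 F q) = 1 := by
        rw [← coe_lamHom, (MonoidHom.mem_ker).1 g.2, Units.val_one]
      rwa [h2, one_smul] at h1))
    (th_herm hF hζ (g : par q ζ).2)
  map_one' := by
    apply mat_injective
    rw [mat_mkSU, mat_one]
    ext i j
    fin_cases i <;> fin_cases j <;> simp [th, mat_one]
  map_mul' g h := by
    apply mat_injective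
    rw [mat_mul, mat_mkSU, mat_mkSU, mat_mkSU]
    exact th_mul hF hζ (g : par q ζ).2 (h : par q ζ).2

theorem mat_thHom (hF : Fintype.card F = q ^ 2) {ζ : F} (hζ : ζ ^ (q + 1) = -1) (g : (lamHom q ζ).ker) :
    mat (thHom hF hζ g) = th ((g : par q ζ) : SU 4 F q) := by
  rw [thHom]
  exact mat_mkSU _ _ _

/-- Elements acting trivially on `u0` and `u0^⊥ / u0` -/
theorem exists_siegel (hF : Fintype.card F = q ^ 2) {ζ : F} (hζ : ζ ^ (q + 1) = -1) {g : SU 4 F q}
    (hg : act g (u0 ζ) = u0 ζ) (ht : th g = 1) :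
    ∃ (a b μ : F) (h : IsSiegel q (u0 ζ) (wv a b) μ), g = siegel hF (u0 ζ) (wv a b) μ h := by
  have hgp : g ∈ par q ζ := ⟨1, by rw [one_smul]; exact hg⟩
  have t22 : mat g 2 2 = 1 := by
    have := congrFun (congrFun ht 0) 0
    simpa [th] using this
  have t23 : mat g 2 3 = 0 := by
    have := congrFun (congrFun ht 0) 1
    simpa [th] using this
  have t32 : mat g 3 2 = 0 := by
    have := congrFun (congrFun ht 1) 0
    simpa [th] using this
  have t33 : mat g 3 3 = 1 := by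
    have := congrFun (congrFun ht 1) 1
    simpa [th] using this
  obtain ⟨κ2, h2⟩ := act_wv hF hζ hgp 1 0
  obtain ⟨κ3, h3⟩ := act_wv hF hζ hgp 0 1
  rw [t22, t23, t32, t33] at h2 h3
  simp only [mul_one, mul_zero, add_zero, zero_add] at h2 h3
  set a := (-κ2) ^ q with ha
  set b := (-κ3) ^ q with hb
  have haq : a ^ q = -κ2 := by rw [ha, pow_q_pow_q hF]
  have hbq : b ^ q = -κ3 := by rw [hb, pow_q_pow_q hF]
  obtain ⟨μ, hμ⟩ := exists_trace_eq hF (c := -hermForm 4 F q (wv a b) (wv a b))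
    (by rw [neg_pow_q hF, herm_self_pow hF])
  have hs : IsSiegel q (u0 ζ) (wv a b) μ := ⟨u0_iso hF hζ, wv_orth hF a b, by rw [hμ]; ring⟩
  set s := siegel hF (u0 ζ) (wv a b) μ hs with hsdef
  set g' := s⁻¹ * g with hg'
  have s2 : act s (wv 1 0) = act g (wv 1 0) := by
    rw [hsdef, act_siegel, wv_orth hF, herm_wv hF, h2]
    simp only [wv, haq]
    funext i
    fin_cases i <;> simp [u0]
  have s3 : act s (wv 0 1) = act g (wv 0 1) := by
    rw [hsdef, act_siegel, wv_orth hF, herm_wv hF, h3]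
    simp only [wv, hbq]
    funext i
    fin_cases i <;> simp [u0]
  have g0 : act g' (u0 ζ) = u0 ζ := by
    rw [hg', act_mul, hg]
    conv_lhs => rw [← act_siegel_self hF hs, ← hsdef, act_inv_act]
  have g2 : act g' (wv 1 0) = wv 1 0 := by rw [hg', act_mul, ← s2, act_inv_act]
  have g3 : act g' (wv 0 1) = wv 0 1 := by rw [hg', act_mul, ← s3, act_inv_act]
  set e0 : Fin 4 → F := ![1, 0, 0, 0] with he0
  have f1 : hermForm 4 F q (act g' e0) (u0 ζ) = 1 := by
    rw [← g0, herm_act, herm_u0 hF]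
    simp [he0]
  have f2 : act g' e0 2 = 0 := by
    have h := herm_act g' e0 (wv 1 0)
    rw [g2, herm_wv hF, herm_wv hF] at h
    have hz := zero_pow_q hF
    simpa [he0, hz] using h
  have f3 : act g' e0 3 = 0 := by
    have h := herm_act g' e0 (wv 0 1)
    rw [g3, herm_wv hF, herm_wv hF] at h
    have hz := zero_pow_q hF
    simpa [he0, hz] using h
  set ν := act g' e0 0 - 1 with hν
  have f4 : act g' e0 = e0 + ν • u0 ζ := by
    have h : hermForm 4 F q (act g' e0 - e0) (u0 ζ) = 0 := by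
      rw [herm_sub_left, f1, herm_u0 hF]
      simp [he0]
    have h5 := decomp hF hζ h
    have h6 : (act g' e0 - e0) 0 = ν := by
      rw [Pi.sub_apply, hν, he0]; simp
    have h7 : (act g' e0 - e0) 2 = 0 := by
      rw [Pi.sub_apply, f2, he0]
      simp
    have h8 : (act g' e0 - e0) 3 = 0 := by
      rw [Pi.sub_apply, f3, he0]
      simp
    rw [h6, h7, h8] at h5
    have h9 : (wv 0 0 : Fin 4 → F) = 0 := by
      funext i
      fin_cases i <;> simp [wv]
    rw [h9, add_zero, sub_eq_iff_eq_add] at h5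
    rw [h5, add_comm]
  have e0u : hermForm 4 F q e0 (u0 ζ) = 1 := by
    rw [herm_u0 hF]
    simp [he0]
  have ue0 : hermForm 4 F q (u0 ζ) e0 = 1 := by
    rw [herm_swap hF e0 (u0 ζ), e0u, one_pow]
  have f5 : ν + ν ^ q = 0 := by
    have h := herm_act g' e0 e0
    rw [f4] at h
    simp only [herm_add_left, herm_add_right hF, herm_smul_left, herm_smul_right, u0_iso hF hζ, e0u, ue0] at h
    linear_combination h
  have hs' : IsSiegel q (u0 ζ) (wv 0 0) ν := by
    have h9 : (wv 0 0 : Fin 4 → F) = 0 := by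
      funext i
      fin_cases i <;> simp [wv]
    refine ⟨u0_iso hF hζ, wv_orth hF 0 0, ?_⟩
    rw [f5, h9, herm_zero_left, add_zero]
  have hg's : g' = siegel hF (u0 ζ) (wv 0 0) ν hs' := by
    have h9 : (wv 0 0 : Fin 4 → F) = 0 := by
      funext i
      fin_cases i <;> simp [wv]
    have k0 : act (siegel hF (u0 ζ) (wv 0 0) ν hs') (u0 ζ) = u0 ζ := act_siegel_self hF hs'
    have k1 : act (siegel hF (u0 ζ) (wv 0 0) ν hs') e0 = e0 + ν • u0 ζ := by
      rw [act_siegel, e0u, h9, herm_zero_right hF]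
      simp
    have k2 : ∀ a b : F, act (siegel hF (u0 ζ) (wv 0 0) ν hs') (wv a b) = wv a b := by
      intro a b
      rw [act_siegel, wv_orth hF, h9, herm_zero_right hF]
      simp
    have k3 : ∀ a b : F, act g' (wv a b) = wv a b := by
      intro a b
      have : (wv a b : Fin 4 → F) = a • wv 1 0 + b • wv 0 1 := by
        funext i
        fin_cases i <;> simp [wv]
      rw [this, act_add, act_smul, act_smul, g2, g3]
    apply ext_act
    intro v
    have hz := zeta_ne hζ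
    have hv : v = (v 0 - v 1 / ζ) • e0 + (v 1 / ζ) • u0 ζ + wv (v 2) (v 3) := by
      funext i
      fin_cases i
      · simp [he0, u0, wv]
      · simp [he0, u0, wv, hz]
      · simp [he0, u0, wv]
      · simp [he0, u0, wv]
    rw [hv]
    simp only [act_add, act_smul, k0, k1, k2, k3, g0, f4]
  refine ⟨a + 0, b + 0, μ + ν - hermForm 4 F q (wv 0 0) (wv a b), ?_, ?_⟩
  · have := hs.mul hF hs'
    have h9 : (wv a b + wv 0 0 : Fin 4 → F) = wv (a + 0) (b + 0) := by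
      funext i
      fin_cases i <;> simp [wv]
    rwa [h9] at this
  · have h10 : g = s * g' := by rw [hg']; group
    rw [h10, hg's, hsdef, siegel_mul]
    apply siegel_congr hF _ _ rfl _ rfl
    funext i
    fin_cases i <;> simp [wv]

theorem card_map_mul {G H : Type*} [Group G] [Group H] [Finite G] (f : G →* H) (R : Subgroup G) :
    Nat.card R = Nat.card (R.map f) * Nat.card (R ⊓ f.ker : Subgroup G) := by
  have h1 := (f.comp R.subtype).ker.card_mul_index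
  rw [Subgroup.index_ker] at h1
  have h2 : (f.comp R.subtype).range = R.map f := by
    rw [MonoidHom.range_comp, Subgroup.range_subtype]
  have h3 : (f.comp R.subtype).ker = (R ⊓ f.ker).subgroupOf R := by
    ext x
    rw [MonoidHom.mem_ker, Subgroup.mem_subgroupOf, Subgroup.mem_inf, MonoidHom.mem_ker]
    exact ⟨fun h => ⟨x.2, h⟩, fun h => h.2⟩
  have h4 : Nat.card ((R ⊓ f.ker).subgroupOf R) = Nat.card (R ⊓ f.ker : Subgroup G) :=
    Nat.card_congr (Subgroup.subgroupOfEquivOfLe inf_le_left).toEquiv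
  rw [h2, h3, h4] at h1
  rw [← h1, mul_comm]

/-- the unipotent elements of `R` -/
theorem exists_N (hF : Fintype.card F = q ^ 2) {ζ : F} (hζ : ζ ^ (q + 1) = -1) (R : Subgroup (par q ζ)) :
    ∃ N : Subgroup (par q ζ), (∀ g : par q ζ, g ∈ N ↔ g ∈ R ∧ lam ζ (g : SU 4 F q) = 1 ∧ th (g : SU 4 F q) = 1) ∧
      Nat.card R = Nat.card (R.map (lamHom q ζ)) *
        (Nat.card ((R.subgroupOf (lamHom q ζ).ker).map (thHom hF hζ)) * Nat.card N) := by
  have h1 := card_map_mul (lamHom q ζ) R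
  have h2 := card_map_mul (thHom hF hζ) (R.subgroupOf (lamHom q ζ).ker)
  have h3 : Nat.card (R.subgroupOf (lamHom q ζ).ker) = Nat.card (R ⊓ (lamHom q ζ).ker : Subgroup (par q ζ)) := by
    rw [← Subgroup.inf_subgroupOf_right]
    exact Nat.card_congr (Subgroup.subgroupOfEquivOfLe inf_le_right).toEquiv
  refine ⟨(R.subgroupOf (lamHom q ζ).ker ⊓ (thHom hF hζ).ker).map (lamHom q ζ).ker.subtype, ?_, ?_⟩
  · intro g
    constructor
    · rintro ⟨x, ⟨hx1, hx2⟩, rfl⟩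
      refine ⟨hx1, ?_, ?_⟩
      · rw [← coe_lamHom, Subgroup.coe_subtype, (MonoidHom.mem_ker).1 x.2, Units.val_one]
      · rw [Subgroup.coe_subtype, ← mat_thHom hF hζ x, (MonoidHom.mem_ker).1 hx2, mat_one]
    · rintro ⟨hg, hl, ht⟩
      have hk : g ∈ (lamHom q ζ).ker := by
        rw [MonoidHom.mem_ker]
        apply Units.ext
        rw [coe_lamHom, hl, Units.val_one]
      refine ⟨⟨g, hk⟩, ⟨hg, ?_⟩, rfl⟩
      change (⟨g, hk⟩ : (lamHom q ζ).ker) ∈ (thHom hF hζ).ker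
      rw [MonoidHom.mem_ker]
      apply mat_injective
      rw [mat_thHom, mat_one]
      exact ht
  · have h4 : Nat.card ((R.subgroupOf (lamHom q ζ).ker ⊓ (thHom hF hζ).ker).map (lamHom q ζ).ker.subtype) =
        Nat.card (R.subgroupOf (lamHom q ζ).ker ⊓ (thHom hF hζ).ker : Subgroup (lamHom q ζ).ker) :=
      (Nat.card_congr (Subgroup.equivMapOfInjective _ _ (lamHom q ζ).ker.subtype_injective).toEquiv).symm
    rw [h4, ← h2, h3, ← h1]

/-- `R` is large: every element of `par` is in `R` up to a unipotent element. -/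
theorem exists_mul (hF : Fintype.card F = q ^ 2) {ζ : F} (hζ : ζ ^ (q + 1) = -1) {R : Subgroup (par q ζ)}
    (h1 : R.map (lamHom q ζ) = ⊤) (h2 : (R.subgroupOf (lamHom q ζ).ker).map (thHom hF hζ) = ⊤) (g : par q ζ) :
    ∃ r ∈ R, lam ζ (((r⁻¹ * g : par q ζ)) : SU 4 F q) = 1 ∧ th (((r⁻¹ * g : par q ζ)) : SU 4 F q) = 1 := by
  have h3 : lamHom q ζ g ∈ R.map (lamHom q ζ) := by rw [h1]; exact Subgroup.mem_top _
  obtain ⟨r, hr, h4⟩ := h3
  have h5 : r⁻¹ * g ∈ (lamHom q ζ).ker := by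
    rw [MonoidHom.mem_ker, map_mul, map_inv, h4, inv_mul_cancel]
  have h6 : thHom hF hζ ⟨r⁻¹ * g, h5⟩ ∈ (R.subgroupOf (lamHom q ζ).ker).map (thHom hF hζ) := by
    rw [h2]; exact Subgroup.mem_top _
  obtain ⟨s, hs, h7⟩ := h6
  refine ⟨r * (s : par q ζ), R.mul_mem hr hs, ?_, ?_⟩
  · have h8 : (r * (s : par q ζ))⁻¹ * g ∈ (lamHom q ζ).ker := by
      have : (r * (s : par q ζ))⁻¹ * g = (s : par q ζ)⁻¹ * (r⁻¹ * g) := by group
      rw [this]
      exact (lamHom q ζ).ker.mul_mem ((lamHom q ζ).ker.inv_mem s.2) h5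
    rw [← coe_lamHom, (MonoidHom.mem_ker).1 h8, Units.val_one]
  · have h8 : thHom hF hζ (s⁻¹ * ⟨r⁻¹ * g, h5⟩) = 1 := by
      rw [map_mul, map_inv, h7, inv_mul_cancel]
    have h9 := mat_thHom hF hζ (s⁻¹ * ⟨r⁻¹ * g, h5⟩)
    rw [h8, mat_one] at h9
    rw [h9]
    have : (r * (s : par q ζ))⁻¹ * g = ((s⁻¹ * ⟨r⁻¹ * g, h5⟩ : (lamHom q ζ).ker) : par q ζ) := by
      have : (r * (s : par q ζ))⁻¹ * g = (s : par q ζ)⁻¹ * (r⁻¹ * g) := by group
      rw [this]
      rfl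
    rw [this]

section siegel

variable {ζ : F}

theorem wv_add (a b c d : F) : (wv a b + wv c d : Fin 4 → F) = wv (a + c) (b + d) := by
  funext i
  fin_cases i <;> simp [wv]

theorem wv_zero : (wv 0 0 : Fin 4 → F) = 0 := by
  funext i
  fin_cases i <;> simp [wv]

theorem wv_smul (c a b : F) : (c • wv a b : Fin 4 → F) = wv (c * a) (c * b) := by
  funext i
  fin_cases i <;> simp [wv]

theorem siegel_par (hF : Fintype.card F = q ^ 2) {w : Fin 4 → F} {μ : F} (h : IsSiegel q (u0 ζ) w μ) :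
    siegel hF (u0 ζ) w μ h ∈ par q ζ := ⟨1, by rw [act_siegel_self, one_smul]⟩

/-- adding a multiple of `u0` to `w` -/
theorem siegel_shift (hF : Fintype.card F = q ^ 2) {w w' : Fin 4 → F} {μ κ : F} (h : IsSiegel q (u0 ζ) w μ)
    (hw : w' = κ • u0 ζ + w) (h' : IsSiegel q (u0 ζ) w' μ) :
    ∃ h'' : IsSiegel q (u0 ζ) w (μ + κ - κ ^ q), siegel hF (u0 ζ) w' μ h' = siegel hF (u0 ζ) w (μ + κ - κ ^ q) h'' := by
  have h'' : IsSiegel q (u0 ζ) w (μ + κ - κ ^ q) := by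
    refine ⟨h.iso, h.orth, ?_⟩
    rw [sub_pow_q hF, add_pow_q hF, pow_q_pow_q hF]
    linear_combination h.tr
  refine ⟨h'', ?_⟩
  apply ext_act
  intro v
  rw [act_siegel, act_siegel, hw, herm_add_right hF, herm_smul_right]
  funext i
  simp only [Pi.add_apply, Pi.smul_apply, smul_eq_mul]
  ring

/-- the vectors of the unipotent elements of `R` -/
def Nb (hF : Fintype.card F = q ^ 2) (R : Subgroup (SU 4 F q)) (a b : F) : Prop :=
  ∃ (μ : F) (h : IsSiegel q (u0 ζ) (wv a b) μ), siegel hF (u0 ζ) (wv a b) μ h ∈ R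

theorem Nb.add (hF : Fintype.card F = q ^ 2) {R : Subgroup (SU 4 F q)} {a b c d : F} (h1 : Nb (ζ := ζ) hF R a b)
    (h2 : Nb (ζ := ζ) hF R c d) : Nb (ζ := ζ) hF R (a + c) (b + d) := by
  obtain ⟨μ, h, hm⟩ := h1
  obtain ⟨ν, h', hm'⟩ := h2
  have h3 := h.mul hF h'
  have h4 := siegel_mul hF h h'
  refine ⟨μ + ν - hermForm 4 F q (wv c d) (wv a b), by rwa [wv_add] at h3, ?_⟩
  have h5 := R.mul_mem hm hm'
  rw [h4] at h5
  convert h5 using 2
  exact (wv_add a b c d).symm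

theorem Nb.neg (hF : Fintype.card F = q ^ 2) {R : Subgroup (SU 4 F q)} {a b : F} (h1 : Nb (ζ := ζ) hF R a b) :
    Nb (ζ := ζ) hF R (-a) (-b) := by
  obtain ⟨μ, h, hm⟩ := h1
  have h3 := h.inv hF
  have h4 := siegel_inv hF h
  have hw : (-wv a b : Fin 4 → F) = wv (-a) (-b) := by
    funext i
    fin_cases i <;> simp [wv]
  refine ⟨μ ^ q, by rwa [hw] at h3, ?_⟩
  have h5 := R.inv_mem hm
  rw [h4] at h5
  convert h5 using 2
  exact hw.symm

/-- the action of the parabolic subgroup on the unipotent elements -/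
theorem conj_mem (hF : Fintype.card F = q ^ 2) (hζ : ζ ^ (q + 1) = -1) {g : SU 4 F q} (hg : g ∈ par q ζ)
    {a b μ : F} (h : IsSiegel q (u0 ζ) (wv a b) μ) :
    ∃ (ν : F) (h' : IsSiegel q (u0 ζ) (wv (lam ζ g ^ q * (mat g 2 2 * a + mat g 2 3 * b))
      (lam ζ g ^ q * (mat g 3 2 * a + mat g 3 3 * b))) ν),
      g * siegel hF (u0 ζ) (wv a b) μ h * g⁻¹ = siegel hF (u0 ζ) _ ν h' := by
  have h1 := conj_siegel hF h g
  obtain ⟨κ, hκ⟩ := act_wv hF hζ hg a b
  have h2 := h.map g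
  rw [act_u0 hg, hκ] at h2
  have h3 : IsSiegel q (u0 ζ) (κ • u0 ζ + wv (mat g 2 2 * a + mat g 2 3 * b) (mat g 3 2 * a + mat g 3 3 * b)) μ :=
    ⟨u0_iso hF hζ, by rw [herm_add_left, herm_smul_left, u0_iso hF hζ, wv_orth hF]; ring, h2.tr⟩
  have h4 := siegel_smul (c := lam ζ g) hF h3
  rw [h1, siegel_congr hF (h.map g) h3.smul (act_u0 hg) hκ rfl, h4]
  have h5 := h3.smul' (c := lam ζ g) hF
  rw [smul_add, smul_smul, wv_smul] at h5
  have h6 : IsSiegel q (u0 ζ) (wv (lam ζ g ^ q * (mat g 2 2 * a + mat g 2 3 * b))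
      (lam ζ g ^ q * (mat g 3 2 * a + mat g 3 3 * b))) (lam ζ g * lam ζ g ^ q * μ) := by
    refine ⟨u0_iso hF hζ, wv_orth hF _ _, ?_⟩
    have h7 := h5.tr
    rw [herm_add_left, herm_add_right hF, herm_add_right hF, herm_smul_left, herm_smul_left, herm_smul_right,
      herm_smul_right, u0_iso hF hζ, wv_orth hF, herm_eq_zero_swap hF (wv_orth hF _ _)] at h7
    linear_combination h7
  obtain ⟨h8, h9⟩ := siegel_shift hF (w' := lam ζ g ^ q • (κ • u0 ζ + wv (mat g 2 2 * a + mat g 2 3 * b)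
    (mat g 3 2 * a + mat g 3 3 * b))) (κ := lam ζ g ^ q * κ) h6 (by rw [smul_add, smul_smul, wv_smul])
    (h3.smul' (c := lam ζ g) hF)
  exact ⟨_, h8, h9⟩

theorem mem_of_Nb (hF : Fintype.card F = q ^ 2) {R : Subgroup (SU 4 F q)}
    (hZ : ∀ (ν : F) (h : IsSiegel q (u0 ζ) (wv 0 0) ν), siegel hF (u0 ζ) (wv 0 0) ν h ∈ R) {a b : F}
    (hN : Nb (ζ := ζ) hF R a b) (ν : F) (h : IsSiegel q (u0 ζ) (wv a b) ν) : siegel hF (u0 ζ) (wv a b) ν h ∈ R := by
  obtain ⟨μ, h', hm⟩ := hN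
  have h0 : IsSiegel q (u0 ζ) (wv 0 0) (ν - μ) := by
    refine ⟨h.iso, ?_, ?_⟩
    · rw [wv_zero, herm_zero_left]
    · rw [wv_zero, herm_zero_left, sub_pow_q hF]
      linear_combination h.tr - h'.tr
  have h1 := R.mul_mem hm (hZ _ h0)
  rw [siegel_mul] at h1
  have h2 : siegel hF (u0 ζ) (wv a b + wv 0 0) (μ + (ν - μ) - hermForm 4 F q (wv 0 0) (wv a b)) (h'.mul hF h0) =
      siegel hF (u0 ζ) (wv a b) ν h := by
    apply siegel_congr hF _ _ rfl
    · rw [wv_zero, add_zero]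
    · rw [wv_zero, herm_zero_left]
      ring
  rwa [h2] at h1

/-- **A large subgroup is the whole parabolic subgroup.** -/
theorem core (hF : Fintype.card F = q ^ 2) (hζ : ζ ^ (q + 1) = -1) {R : Subgroup (SU 4 F q)}
    (h1 : (R.subgroupOf (par q ζ)).map (lamHom q ζ) = ⊤)
    (h2 : ((R.subgroupOf (par q ζ)).subgroupOf (lamHom q ζ).ker).map (thHom hF hζ) = ⊤)
    (hZ : ∀ (ν : F) (h : IsSiegel q (u0 ζ) (wv 0 0) ν), siegel hF (u0 ζ) (wv 0 0) ν h ∈ R)
    (hall : (∀ g ∈ par q ζ, ∀ a b, Nb (ζ := ζ) hF R a b →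
        Nb (ζ := ζ) hF R (lam ζ g ^ q * (mat g 2 2 * a + mat g 2 3 * b)) (lam ζ g ^ q * (mat g 3 2 * a + mat g 3 3 * b))) →
      ∀ a b : F, Nb (ζ := ζ) hF R a b) : par q ζ ≤ R := by
  have hdec : ∀ g ∈ par q ζ, ∃ r ∈ R, ∃ (a b μ : F) (h : IsSiegel q (u0 ζ) (wv a b) μ),
      g = r * siegel hF (u0 ζ) (wv a b) μ h := by
    intro g hg
    obtain ⟨r, hr, hl, ht⟩ := exists_mul hF hζ h1 h2 ⟨g, hg⟩
    have hu := act_u0 (r⁻¹ * ⟨g, hg⟩ : par q ζ).2
    rw [hl, one_smul] at hu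
    obtain ⟨a, b, μ, h, he⟩ := exists_siegel hF hζ hu ht
    refine ⟨(r : SU 4 F q), hr, a, b, μ, h, ?_⟩
    have h3 : ((r⁻¹ * ⟨g, hg⟩ : par q ζ) : SU 4 F q) = (r : SU 4 F q)⁻¹ * g := rfl
    rw [← he, h3, mul_inv_cancel_left]
  have hstab : ∀ g ∈ par q ζ, ∀ a b, Nb (ζ := ζ) hF R a b →
      Nb (ζ := ζ) hF R (lam ζ g ^ q * (mat g 2 2 * a + mat g 2 3 * b)) (lam ζ g ^ q * (mat g 3 2 * a + mat g 3 3 * b)) := by
    intro g hg a b hN
    obtain ⟨μ, h, hm⟩ := hN
    obtain ⟨ν, h', he⟩ := conj_mem hF hζ hg h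
    refine ⟨ν, h', ?_⟩
    rw [← he]
    obtain ⟨r, hr, c, d, κ, hs, rfl⟩ := hdec g hg
    have h3 : siegel hF (u0 ζ) (wv c d) κ hs * siegel hF (u0 ζ) (wv a b) μ h * (siegel hF (u0 ζ) (wv c d) κ hs)⁻¹ ∈ R := by
      rw [siegel_inv, siegel_mul, siegel_mul]
      have hw : (wv c d + wv a b + -wv c d : Fin 4 → F) = wv a b := by abel
      have h4 := ((hs.mul hF h).mul hF (hs.inv hF))
      have h5 : IsSiegel q (u0 ζ) (wv a b) (κ + μ - hermForm 4 F q (wv a b) (wv c d) + κ ^ q -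
          hermForm 4 F q (-wv c d) (wv c d + wv a b)) := by rwa [hw] at h4
      rw [siegel_congr hF h4 h5 rfl hw rfl]
      exact mem_of_Nb hF hZ ⟨μ, h, hm⟩ _ h5
    have h6 := R.mul_mem (R.mul_mem hr h3) (R.inv_mem hr)
    convert h6 using 1
    group
  intro g hg
  obtain ⟨r, hr, a, b, μ, h, rfl⟩ := hdec g hg
  exact R.mul_mem hr (mem_of_Nb hF hZ (hall hstab a b) μ h)

/-- if only the centre of the unipotent group is in `R`, there are at most `q` unipotent elements. -/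
theorem card_N_dvd (hF : Fintype.card F = q ^ 2) (hζ : ζ ^ (q + 1) = -1) {R : Subgroup (SU 4 F q)}
    (hno : ∀ a b : F, Nb (ζ := ζ) hF R a b → a = 0 ∧ b = 0) {N : Subgroup (par q ζ)}
    (hN : ∀ g : par q ζ, g ∈ N ↔ g ∈ R.subgroupOf (par q ζ) ∧ lam ζ (g : SU 4 F q) = 1 ∧ th (g : SU 4 F q) = 1) :
    Nat.card N ≤ q := by
  obtain ⟨κ, hκ0, hκ⟩ := exists_trace_zero_ne hF
  have hκq : κ ^ q = -κ := by linear_combination hκ
  have key : ∀ g ∈ N, ∃ (μ : F) (h : IsSiegel q (u0 ζ) (wv 0 0) μ), (g : SU 4 F q) = siegel hF (u0 ζ) (wv 0 0) μ h := by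
    intro g hg
    obtain ⟨hR, hl, ht⟩ := (hN g).1 hg
    have hu := act_u0 g.2
    rw [hl, one_smul] at hu
    obtain ⟨a, b, μ, h, he⟩ := exists_siegel hF hζ hu ht
    obtain ⟨rfl, rfl⟩ := hno a b ⟨μ, h, by rw [← he]; exact hR⟩
    exact ⟨μ, h, he⟩
  have hact : ∀ (μ : F) (h : IsSiegel q (u0 ζ) (wv 0 0) μ),
      act (siegel hF (u0 ζ) (wv 0 0) μ h) (![1, 0, 0, 0]) 0 = 1 + μ := by
    intro μ h
    rw [act_siegel, wv_zero, herm_zero_right hF, herm_u0 hF]
    simp [u0]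
  refine le_trans ?_ (card_fixed hF).le
  refine Nat.card_le_card_of_injective (fun g : N => (⟨(act ((g : par q ζ) : SU 4 F q) (![1, 0, 0, 0]) 0 - 1) / κ, ?_⟩ :
    {x : F // x ^ q = x})) ?_
  · obtain ⟨μ, h, he⟩ := key g g.2
    rw [he, hact, div_pow, hκq, add_sub_cancel_left]
    have h1 := h.tr
    rw [wv_zero, herm_zero_left, add_zero] at h1
    have h2 : μ ^ q = -μ := by linear_combination h1
    rw [h2, neg_div_neg_eq]
  · intro g g' hgg'
    obtain ⟨μ, h, he⟩ := key g g.2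
    obtain ⟨μ', h', he'⟩ := key g' g'.2
    have h1 := congrArg Subtype.val hgg'
    simp only at h1
    rw [he, he', hact, hact, add_sub_cancel_left, add_sub_cancel_left, div_left_inj' hκ0] at h1
    subst h1
    apply Subtype.ext
    apply Subtype.ext
    rw [he, he']

end siegel

end Cfsg.Agent.H44.Der.Para
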