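import Mathlib
import Cfsg.Agent.OddOrderLocal.CyclicSub

/-!
# Small Sylow subgroups (helper44)
-/

set_option autoImplicit false

namespace Cfsg.Agent.H44.Der

open Subgroup

variable {G : Type*} [Group G] [Finite G]

omit [Finite G] in
theorem orderOf_cj (g x : G) : orderOf (g * x * g⁻¹) = orderOf x :=
  orderOf_injective (MulAut.conj g).toMonoidHom (MulAut.conj g).injective x

theorem exists_conj_mem {p : ℕ} [Fact p.Prime] (S : Sylow p G) {x : G} {k : ℕ} (hx : orderOf x = p ^ k) :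
    ∃ g : G, g * x * g⁻¹ ∈ S := by
  have h1 : IsPGroup p (zpowers x) := IsPGroup.of_card (n := k) (by rw [Nat.card_zpowers, hx])
  obtain ⟨Q, hQ⟩ := h1.exists_le_sylow
  obtain ⟨g, hg⟩ := MulAction.exists_smul_eq G Q S
  refine ⟨g, ?_⟩
  rw [← hg]
  exact ⟨x, hQ (mem_zpowers x), rfl⟩

/-- two elements of the same prime order in a cyclic group -/
theorem mem_of_cyclic {z s t : G} {n : ℕ} (hs : s ∈ zpowers z) (ht : t ∈ zpowers z) (hos : orderOf s = n)
    (hot : orderOf t = n) : t ∈ zpowers s := by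
  have h1 : zpowers (⟨s, hs⟩ : zpowers z) = zpowers ⟨t, ht⟩ := by
    apply OddOrderLocal.CyclicSub.eq_of_card_eq_of_isCyclic
    rw [Nat.card_zpowers, Nat.card_zpowers, Subgroup.orderOf_mk, Subgroup.orderOf_mk, hos, hot]
  have h2 : (⟨t, ht⟩ : zpowers z) ∈ zpowers (⟨s, hs⟩ : zpowers z) := by
    rw [h1]
    exact mem_zpowers _
  obtain ⟨k, hk⟩ := h2
  exact ⟨k, congrArg Subtype.val hk⟩

theorem card_dvd_of_not {p m : ℕ} [Fact p.Prime] (S : Sylow p G) (h : ¬ p ^ (m + 1) ∣ Nat.card G) :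
    Nat.card S ∣ p ^ m := by
  obtain ⟨k, hk⟩ := IsPGroup.iff_card.1 S.2
  have h1 : Nat.card S ∣ Nat.card G := Subgroup.card_subgroup_dvd_card _
  have h2 : Nat.card S = p ^ k := hk
  rw [h2] at h1 ⊢
  apply pow_dvd_pow
  by_contra hcon
  push Not at hcon
  exact h ((pow_dvd_pow p hcon).trans h1)

theorem zpowers_eq {S : Subgroup G} {x : G} (hx : x ∈ S) (h : Nat.card S ∣ orderOf x) : zpowers x = S := by
  apply Subgroup.eq_of_le_of_card_ge
  · rw [zpowers_le]
    exact hx
  · rw [Nat.card_zpowers]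
    exact Nat.le_of_dvd (orderOf_pos x) h

theorem three_cases {s t : G} (h : t ∈ zpowers s) (hs : orderOf s = 3) (ht : orderOf t = 3) : t = s ∨ t = s⁻¹ := by
  classical
  rw [mem_zpowers_iff_mem_range_orderOf, hs] at h
  simp only [Finset.mem_image, Finset.mem_range] at h
  obtain ⟨k, hk, rfl⟩ := h
  interval_cases k
  · rw [pow_zero, orderOf_one] at ht
    omega
  · left; rw [pow_one]
  · right
    rw [eq_inv_iff_mul_eq_one, ← pow_succ]
    have := pow_orderOf_eq_one s
    rw [hs] at this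
    exact this

omit [Finite G] in
theorem isConj_of {x y g h : G} (e : g * x * g⁻¹ = h * y * h⁻¹) : IsConj x y := by
  have h1 : IsConj x (g * x * g⁻¹) := isConj_iff.2 ⟨g, rfl⟩
  have h2 : IsConj y (h * y * h⁻¹) := isConj_iff.2 ⟨h, rfl⟩
  rw [e] at h1
  exact h1.trans h2.symm

theorem nine_dvd {s t : G} (hs : orderOf s = 3) (ht : orderOf t = 3) (h1 : ¬ IsConj s t) (h2 : ¬ IsConj s⁻¹ t) :
    9 ∣ Nat.card G := by
  by_contra hcon
  have : Fact (Nat.Prime 3) := ⟨Nat.prime_three⟩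
  let S : Sylow 3 G := default
  have hS := card_dvd_of_not (m := 1) S (by norm_num; exact hcon)
  obtain ⟨g, hg⟩ := exists_conj_mem S (k := 1) (x := s) (by rw [hs, pow_one])
  obtain ⟨h, hh⟩ := exists_conj_mem S (k := 1) (x := t) (by rw [ht, pow_one])
  have o1 : orderOf (g * s * g⁻¹) = 3 := by rw [orderOf_cj, hs]
  have o2 : orderOf (h * t * h⁻¹) = 3 := by rw [orderOf_cj, ht]
  have h3 := zpowers_eq (S := (S : Subgroup G)) hg (by rw [o1]; simpa using hS)
  have h4 : h * t * h⁻¹ ∈ zpowers (g * s * g⁻¹) := by rw [h3]; exact hh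
  rcases three_cases h4 o1 o2 with h5 | h5
  · exact h1 (isConj_of h5.symm)
  · apply h2
    apply isConj_of (g := g) (h := h)
    rw [h5]
    group

theorem twentyseven_dvd {y s t : G} (hy : orderOf y = 9) (hs : orderOf s = 3) (ht : orderOf t = 3)
    (h1 : ¬ IsConj s t) (h2 : ¬ IsConj s⁻¹ t) : 27 ∣ Nat.card G := by
  by_contra hcon
  have : Fact (Nat.Prime 3) := ⟨Nat.prime_three⟩
  let S : Sylow 3 G := default
  have hS := card_dvd_of_not (m := 2) S (by norm_num; exact hcon)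
  obtain ⟨g, hg⟩ := exists_conj_mem S (k := 1) (x := s) (by rw [hs, pow_one])
  obtain ⟨h, hh⟩ := exists_conj_mem S (k := 1) (x := t) (by rw [ht, pow_one])
  obtain ⟨k, hk⟩ := exists_conj_mem S (k := 2) (x := y) (by rw [hy]; norm_num)
  have o1 : orderOf (g * s * g⁻¹) = 3 := by rw [orderOf_cj, hs]
  have o2 : orderOf (h * t * h⁻¹) = 3 := by rw [orderOf_cj, ht]
  have o3 : orderOf (k * y * k⁻¹) = 9 := by rw [orderOf_cj, hy]
  have h3 := zpowers_eq (S := (S : Subgroup G)) hk (by rw [o3]; simpa using hS)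
  have hg' : g * s * g⁻¹ ∈ zpowers (k * y * k⁻¹) := by rw [h3]; exact hg
  have hh' : h * t * h⁻¹ ∈ zpowers (k * y * k⁻¹) := by rw [h3]; exact hh
  have h4 := mem_of_cyclic hg' hh' o1 o2
  rcases three_cases h4 o1 o2 with h5 | h5
  · exact h1 (isConj_of h5.symm)
  · apply h2
    apply isConj_of (g := g) (h := h)
    rw [h5]
    group

/-- elements of order 4 with different squares -/
theorem sixteen_dvd {x y : G} (hx : orderOf x = 4) (hy : orderOf y = 4) (h : ¬ IsConj (x ^ 2) (y ^ 2)) :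
    16 ∣ Nat.card G := by
  classical
  by_contra hcon
  have : Fact (Nat.Prime 2) := ⟨Nat.prime_two⟩
  let S : Sylow 2 G := default
  have hS := card_dvd_of_not (m := 3) S (by norm_num; exact hcon)
  obtain ⟨g, hg⟩ := exists_conj_mem S (k := 2) (x := x) (by rw [hx]; norm_num)
  obtain ⟨k, hk⟩ := exists_conj_mem S (k := 2) (x := y) (by rw [hy]; norm_num)
  have o1 : orderOf (g * x * g⁻¹) = 4 := by rw [orderOf_cj, hx]
  have o2 : orderOf (k * y * k⁻¹) = 4 := by rw [orderOf_cj, hy]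
  set x' : (S : Subgroup G) := ⟨g * x * g⁻¹, hg⟩ with hx'
  set y' : (S : Subgroup G) := ⟨k * y * k⁻¹, hk⟩ with hy'
  have ox : orderOf x' = 4 := by rw [hx', Subgroup.orderOf_mk, o1]
  have oy : orderOf y' = 4 := by rw [hy', Subgroup.orderOf_mk, o2]
  have h1 := (zpowers x').card_mul_index
  rw [Nat.card_zpowers, ox] at h1
  have hS8 : Nat.card (S : Subgroup G) ∣ 8 := by simpa using hS
  rw [← h1] at hS8
  have h2 : (zpowers x').index ∣ 2 := by
    have : 4 * (zpowers x').index ∣ 4 * 2 := hS8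
    exact Nat.dvd_of_mul_dvd_mul_left (by norm_num) this
  have h3 : y' ^ 2 ∈ zpowers x' := by
    rcases (Nat.dvd_prime Nat.prime_two).1 h2 with h4 | h4
    · rw [Subgroup.index_eq_one.1 h4]
      exact Subgroup.mem_top _
    · have hn := Subgroup.normal_of_index_eq_two h4
      have := (zpowers x').pow_index_mem y'
      rwa [h4] at this
  have o3 : orderOf (y' ^ 2) = 2 := by rw [orderOf_pow' _ (by norm_num), oy]; rfl
  have o4 : orderOf (x' ^ 2) = 2 := by rw [orderOf_pow' _ (by norm_num), ox]; rfl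
  have h5 := mem_of_cyclic (n := 2) ((zpowers x').pow_mem (mem_zpowers x') 2) h3 o4 o3
  have h6 : y' ^ 2 = x' ^ 2 := by
    rw [mem_zpowers_iff_mem_range_orderOf, o4] at h5
    simp only [Finset.mem_image, Finset.mem_range] at h5
    obtain ⟨j, hj, hj'⟩ := h5
    interval_cases j
    · rw [pow_zero] at hj'
      rw [← hj', orderOf_one] at o3
      omega
    · rw [pow_one] at hj'
      exact hj'.symm
  apply h
  have h7 := congrArg Subtype.val h6
  rw [Subgroup.coe_pow, Subgroup.coe_pow] at h7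
  apply isConj_of (g := g) (h := k)
  change (k * y * k⁻¹) ^ 2 = (g * x * g⁻¹) ^ 2 at h7
  rw [conj_pow, conj_pow] at h7
  exact h7.symm

/-- an element of order 8 and an element of order 4 -/
theorem sixteen_dvd' {x y : G} (hx : orderOf x = 8) (hy : orderOf y = 4) (h1 : ¬ IsConj (x ^ 2) y)
    (h2 : ¬ IsConj (x ^ 6) y) : 16 ∣ Nat.card G := by
  classical
  by_contra hcon
  have : Fact (Nat.Prime 2) := ⟨Nat.prime_two⟩
  let S : Sylow 2 G := default
  have hS := card_dvd_of_not (m := 3) S (by norm_num; exact hcon)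
  obtain ⟨g, hg⟩ := exists_conj_mem S (k := 3) (x := x) (by rw [hx]; norm_num)
  obtain ⟨k, hk⟩ := exists_conj_mem S (k := 2) (x := y) (by rw [hy]; norm_num)
  have o1 : orderOf (g * x * g⁻¹) = 8 := by rw [orderOf_cj, hx]
  have o2 : orderOf (k * y * k⁻¹) = 4 := by rw [orderOf_cj, hy]
  have h3 := zpowers_eq (S := (S : Subgroup G)) hg (by rw [o1]; simpa using hS)
  have h4 : k * y * k⁻¹ ∈ zpowers (g * x * g⁻¹) := by rw [h3]; exact hk
  have o3 : orderOf ((g * x * g⁻¹) ^ 2) = 4 := by rw [orderOf_pow' _ (by norm_num), o1]; rfl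
  have h5 := mem_of_cyclic (n := 4) ((zpowers (g * x * g⁻¹)).pow_mem (mem_zpowers _) 2) h4 o3 o2
  rw [mem_zpowers_iff_mem_range_orderOf, o3] at h5
  simp only [Finset.mem_image, Finset.mem_range] at h5
  obtain ⟨j, hj, hj'⟩ := h5
  rw [← pow_mul, conj_pow] at hj'
  interval_cases j
  · simp only [mul_zero, pow_zero] at hj'
    have : k * y * k⁻¹ = 1 := by rw [← hj']; group
    rw [this, orderOf_one] at o2
    omega
  · exact h1 (isConj_of hj')
  · have h6 : orderOf (g * x ^ (2 * 2) * g⁻¹) = 4 := by rw [hj', o2]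
    rw [← conj_pow, orderOf_pow' _ (by norm_num), o1] at h6
    norm_num at h6
  · exact h2 (isConj_of hj')

end Cfsg.Agent.H44.Der
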