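import Cfsg.Agent.H44.Der.Diag
import Cfsg.Agent.H44.Der.Syl
import Cfsg.Agent.H251.Der.U42
import Cfsg.Agent.H914.Sub

/-!
# `U₄(2)`: elements and missing classes (helper44)
-/

set_option autoImplicit false
set_option linter.unusedSectionVars false
set_option linter.unusedSimpArgs false

namespace Cfsg.Agent.H44.Der.U42

open Subgroup Cfsg Cfsg.Geo Matrix Module Cfsg.Agent.H251.Small Cfsg.Agent.H439.Der Cfsg.Agent.H938.Sax
open Cfsg.Agent.LieClassical.HermSiegel Cfsg.Agent.LieClassical.SUBasic Cfsg.Agent.LieClassical.HermBasic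
open Cfsg.Agent.ClassicalGeometry.PSUAutBasic
open Cfsg.Agent.H372 (herm_of_mul)
open Cfsg.Agent.H251.Der (pr_inj4)
open Cfsg.Agent.H251.GeoU (pre)

variable {F : Type} [Field F] [Fintype F]

theorem rel42 {X Y : Matrix (Fin 4) (Fin 4) F} (h : Rel 2 X Y) :
    ∃ (A B : Matrix (Fin 4) (Fin 4) F) (ρ : F ≃+* F), A * B = 1 ∧ Y = A * X.map ρ * B := by
  obtain ⟨A, B, ρ, c, hAB, h4, h3, hy⟩ := h
  have hc : c = 1 := by linear_combination h4 - c * h3
  exact ⟨A, B, ρ, hAB, by rw [hy, hc, one_smul]⟩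

theorem map_sub_one (X : Matrix (Fin 4) (Fin 4) F) (ρ : F ≃+* F) : (X - 1).map ρ = X.map ρ - 1 := by
  ext a b
  simp only [Matrix.map_apply, Matrix.sub_apply, map_sub, sub_right_inj]
  rw [Matrix.one_apply]
  split_ifs <;> simp

theorem sub_one_rel {A B X Y : Matrix (Fin 4) (Fin 4) F} {ρ : F ≃+* F} (hAB : A * B = 1) (h : Y = A * X.map ρ * B) :
    Y - 1 = A * (X - 1).map ρ * B := by
  rw [map_sub_one, Matrix.mul_sub, Matrix.sub_mul, Matrix.mul_one, hAB, h]

theorem pow_rel {A B X Y : Matrix (Fin 4) (Fin 4) F} {ρ : F ≃+* F} (hAB : A * B = 1) (h : Y = A * X.map ρ * B)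
    (k : ℕ) : Y ^ k = A * (X ^ k).map ρ * B := by
  have hBA : B * A = 1 := _root_.mul_eq_one_comm.1 hAB
  induction k with
  | zero =>
    rw [pow_zero, pow_zero, show (1 : Matrix (Fin 4) (Fin 4) F).map ρ = 1 by
      ext a b
      rw [Matrix.map_apply, Matrix.one_apply]
      split_ifs <;> simp, Matrix.mul_one, hAB]
  | succ k ih =>
    rw [pow_succ, pow_succ, Matrix.map_mul, ih, h]
    calc A * (X ^ k).map ρ * B * (A * X.map ρ * B) = A * (X ^ k).map ρ * (B * A) * X.map ρ * B := by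
          simp only [Matrix.mul_assoc]
      _ = _ := by rw [hBA, Matrix.mul_one, Matrix.mul_assoc A]

/-- `X - 1` has rank at most one -/
def R1 (X : Matrix (Fin 4) (Fin 4) F) : Prop := ∃ p l : Fin 4 → F, X - 1 = vecMulVec p l

theorem R1.rel {X Y : Matrix (Fin 4) (Fin 4) F} (h : R1 X) (hXY : Rel 2 X Y) : R1 Y := by
  obtain ⟨p, l, h1⟩ := h
  obtain ⟨A, B, ρ, hAB, hy⟩ := rel42 hXY
  refine ⟨A *ᵥ (ρ ∘ p), (ρ ∘ l) ᵥ* B, ?_⟩
  rw [sub_one_rel hAB hy, h1]
  have : (vecMulVec p l).map ρ = vecMulVec (ρ ∘ p) (ρ ∘ l) := by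
    ext i j
    simp [vecMulVec_apply]
  rw [this, Matrix.mul_vecMulVec, Matrix.vecMulVec_mul]

theorem Rel.pow {X Y : Matrix (Fin 4) (Fin 4) F} (h : Rel 2 X Y) (k : ℕ) : Rel 2 (X ^ k) (Y ^ k) := by
  obtain ⟨A, B, ρ, hAB, hy⟩ := rel42 h
  exact ⟨A, B, ρ, 1, hAB, one_pow _, one_pow _, by rw [one_smul]; exact pow_rel hAB hy k⟩

theorem map_one' (ρ : F ≃+* F) : (1 : Matrix (Fin 4) (Fin 4) F).map ρ = 1 := by
  ext a b
  rw [Matrix.map_apply, Matrix.one_apply]
  split_ifs <;> simp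

theorem pow_eq_one_rel {x y : SU 4 F 2} (h : Rel 2 (mat x) (mat y)) (k : ℕ) : y ^ k = 1 ↔ x ^ k = 1 := by
  obtain ⟨A, B, ρ, hAB, hY⟩ := rel42 h
  have hBA : B * A = 1 := _root_.mul_eq_one_comm.1 hAB
  have h1 := pow_rel hAB hY k
  rw [← mat_pow', ← mat_pow'] at h1
  constructor
  · intro h0
    rw [h0, mat_one] at h1
    have h5 : (mat (x ^ k)).map ρ = 1 := by
      calc (mat (x ^ k)).map ρ = (B * A) * (mat (x ^ k)).map ρ * (B * A) := by
            rw [hBA, Matrix.one_mul, Matrix.mul_one]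
        _ = B * (A * (mat (x ^ k)).map ρ * B) * A := by simp only [Matrix.mul_assoc]
        _ = 1 := by rw [← h1, Matrix.mul_one, hBA]
    apply mat_injective
    rw [mat_one]
    ext i l
    have h6 := congrFun (congrFun h5 i) l
    rw [Matrix.map_apply] at h6
    apply ρ.injective
    rw [h6, Matrix.one_apply]
    split_ifs <;> simp
  · intro h0
    apply mat_injective
    rw [h1, h0, mat_one, map_one', Matrix.mul_one, hAB]

theorem orderOf_rel {x y : SU 4 F 2} (h : Rel 2 (mat x) (mat y)) : orderOf y = orderOf x :=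
  orderOf_eq_orderOf_iff.2 fun k => pow_eq_one_rel h k

theorem trace_rel {X Y : Matrix (Fin 4) (Fin 4) F} (h : Rel 2 X Y) : ∃ ρ : F ≃+* F, Y.trace = ρ X.trace := by
  obtain ⟨A, B, ρ, hAB, hY⟩ := rel42 h
  refine ⟨ρ, ?_⟩
  rw [hY, trace_conj hAB, Matrix.trace, Matrix.trace, map_sum]
  rfl

theorem trace_of_isConj {H : Subgroup (SU 4 F 2)} {x y : H} (h : IsConj x y) :
    (mat (x : SU 4 F 2)).trace = (mat (y : SU 4 F 2)).trace := by
  obtain ⟨g, rfl⟩ := isConj_iff.1 h
  rw [Subgroup.coe_mul, Subgroup.coe_mul, mat_mul, mat_mul, H251.Small.trace_conj]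
  rw [← mat_mul, ← Subgroup.coe_mul, mul_inv_cancel]
  rfl

theorem r1_of_isConj {H : Subgroup (SU 4 F 2)} {x y : H} (h : IsConj x y) (hx : R1 (mat (x : SU 4 F 2))) :
    R1 (mat (y : SU 4 F 2)) := by
  obtain ⟨g, rfl⟩ := isConj_iff.1 h
  refine hx.rel ⟨mat (g : SU 4 F 2), mat ((g⁻¹ : H) : SU 4 F 2), RingEquiv.refl F, 1, ?_, one_pow _, one_pow _, ?_⟩
  · rw [← mat_mul, ← Subgroup.coe_mul, mul_inv_cancel]
    rfl
  · rw [one_smul, Subgroup.coe_mul, Subgroup.coe_mul, mat_mul, mat_mul]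
    rfl

theorem R1.minor {X : Matrix (Fin 4) (Fin 4) F} (h : R1 X) (i j k l : Fin 4) :
    (X - 1) i k * (X - 1) j l = (X - 1) i l * (X - 1) j k := by
  obtain ⟨p, m, h1⟩ := h
  rw [h1]
  simp only [vecMulVec_apply]
  ring

/-- the transposition -/
def Tr (F : Type) [Field F] : Matrix (Fin 4) (Fin 4) F := !![1, 0, 0, 0; 0, 0, 1, 0; 0, 1, 0, 0; 0, 0, 0, 1]

/-- the double transposition -/
def P22 (F : Type) [Field F] : Matrix (Fin 4) (Fin 4) F := !![0, 0, 1, 0; 0, 0, 0, 1; 1, 0, 0, 0; 0, 1, 0, 0]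

theorem J4_sq : H251.Der.J4 F * H251.Der.J4 F = P22 F := by
  ext a b
  fin_cases a <;> fin_cases b <;> simp [H251.Der.J4, P22, Matrix.mul_apply, Fin.sum_univ_four]

theorem r1_Tr (h2 : (2 : F) = 0) : R1 (Tr F) := by
  refine ⟨![0, 1, 1, 0], ![0, 1, 1, 0], ?_⟩
  ext i j
  fin_cases i <;> fin_cases j <;> simp [Tr, vecMulVec_apply, Matrix.sub_apply] <;> linear_combination -h2

/-- the elements -/
structure El (F : Type) [Field F] [Fintype F] where
  w : F
  a : SU 4 F 2
  u : SU 4 F 2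
  j : SU 4 F 2
  b : SU 4 F 2
  w3 : w ^ 3 = 1
  w1 : w ≠ 1
  ww : w * w = w + 1
  two : (2 : F) = 0
  ha : mat a = diagonal ![w, w, w, 1]
  comm : Commute a u
  hu : mat (u ^ 2) = Tr F
  hj : mat j = H251.Der.J4 F
  hb : Commute b (j ^ 2)
  mb : mat b = diagonal ![w, w * w, w, w * w]
  c : SU 4 F 2
  mc : mat c = diagonal ![1, 1, w, w * w]

theorem exists_El (hF : Fintype.card F = 2 ^ 2) : Nonempty (El F) := by
  obtain ⟨w, h3, h1, h0, hw, h2⟩ := exists_omega hF
  have hd : ∏ i, (![w, w, w, 1] : Fin 4 → F) i = 1 := by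
    simp [Fin.prod_univ_four]
    linear_combination h3
  have ha : ∀ i, (![w, w, w, 1] : Fin 4 → F) i ^ (2 + 1) = 1 := by
    intro i
    fin_cases i <;> simp [h3]
  have hd' : ∏ i, (![w, w * w, w, w * w] : Fin 4 → F) i = 1 := by
    simp [Fin.prod_univ_four]
    linear_combination (w ^ 3 + 1) * h3
  have ha' : ∀ i, (![w, w * w, w, w * w] : Fin 4 → F) i ^ (2 + 1) = 1 := by
    intro i
    fin_cases i <;> simp [h3, mul_pow]
  have hd2 : ∏ i, (![1, 1, w, w * w] : Fin 4 → F) i = 1 := by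
    simp [Fin.prod_univ_four]
    linear_combination h3
  have ha2 : ∀ i, (![1, 1, w, w * w] : Fin 4 → F) i ^ (2 + 1) = 1 := by
    intro i
    fin_cases i <;> simp [h3, mul_pow]
  set U : Matrix (Fin 4) (Fin 4) F := !![1, 1, 1, 0; 1, w, w * w, 0; 1, w * w, w, 0; 0, 0, 0, 1] with hU
  have hUdet : U.det = 1 := by
    rw [hU]
    simp [Matrix.det_succ_row_zero, Fin.sum_univ_succ, Fin.succAbove]
    grind
  have hUh : Uᵀ * U.map (conj hF) = 1 := by
    ext a b
    fin_cases a <;> fin_cases b <;> simp [hU, Matrix.mul_apply, Fin.sum_univ_four, conj_apply] <;> grind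
  have hJdet : (H251.Der.J4 F).det = 1 := by
    rw [H251.Der.J4]
    simp [Matrix.det_succ_row_zero, Fin.sum_univ_succ, Fin.succAbove]
    linear_combination -h2
  have hJh : (H251.Der.J4 F)ᵀ * (H251.Der.J4 F).map (conj hF) = 1 := by
    ext a b
    fin_cases a <;> fin_cases b <;> simp [H251.Der.J4, Matrix.mul_apply, Fin.sum_univ_four]
  refine ⟨⟨w, suDiag 2 _ hd ha, mkSU U hUdet (herm_of_mul hF hUh), mkSU (H251.Der.J4 F) hJdet (herm_of_mul hF hJh),
    suDiag 2 _ hd' ha', h3, h1, hw, h2, rfl, ?_, ?_, rfl, ?_, rfl, suDiag 2 _ hd2 ha2, rfl⟩⟩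
  · apply mat_injective
    rw [mat_mul, mat_mul, mat_suDiag, mat_mkSU]
    ext i j
    rw [Matrix.diagonal_mul, Matrix.mul_diagonal]
    fin_cases i <;> fin_cases j <;> simp [hU, mul_comm]
  · rw [pow_two, mat_mul, mat_mkSU]
    ext i j
    fin_cases i <;> fin_cases j <;> simp [hU, Matrix.mul_apply, Fin.sum_univ_four, Tr] <;> grind
  · apply mat_injective
    simp only [pow_two, mat_mul, mat_suDiag, mat_mkSU, J4_sq]
    ext i j
    rw [Matrix.diagonal_mul, Matrix.mul_diagonal]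
    fin_cases i <;> fin_cases j <;> simp [P22]

section

variable (E : El F)

theorem El.w0 : E.w ≠ 0 := by
  intro h
  have := E.w3
  rw [h] at this
  norm_num at this

theorem El.mj2 : mat (E.j ^ 2) = P22 F := by
  rw [pow_two, mat_mul, E.hj, J4_sq]

theorem El.a3 : E.a ^ 3 = 1 := by
  apply mat_injective
  rw [mat_pow', E.ha, Matrix.diagonal_pow, mat_one, ← Matrix.diagonal_one]
  congr 1
  funext i
  fin_cases i <;> simp [E.w3]

theorem El.a_ne : E.a ≠ 1 := by
  intro h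
  have h1 := E.ha
  rw [h, mat_one] at h1
  have h2 := congrFun (congrFun h1 0) 0
  simp at h2
  exact E.w1 h2.symm

theorem El.b3 : E.b ^ 3 = 1 := by
  apply mat_injective
  rw [mat_pow', E.mb, Matrix.diagonal_pow, mat_one, ← Matrix.diagonal_one]
  congr 1
  funext i
  fin_cases i <;> simp [E.w3, mul_pow]

theorem El.b_ne : E.b ≠ 1 := by
  intro h
  have h1 := E.mb
  rw [h, mat_one] at h1
  have h2 := congrFun (congrFun h1 0) 0
  simp at h2
  exact E.w1 h2.symm

theorem El.u4 : E.u ^ 4 = 1 := by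
  apply mat_injective
  rw [show E.u ^ 4 = E.u ^ 2 * E.u ^ 2 by rw [← pow_add], mat_mul, E.hu, mat_one]
  ext a b
  fin_cases a <;> fin_cases b <;> simp [Tr, Matrix.mul_apply, Fin.sum_univ_four]

theorem El.u2_ne : E.u ^ 2 ≠ 1 := by
  intro h
  have h1 := E.hu
  rw [h, mat_one] at h1
  have h2 := congrFun (congrFun h1 1) 1
  simp [Tr] at h2

theorem El.j4 : E.j ^ 4 = 1 := by
  apply mat_injective
  rw [show E.j ^ 4 = E.j ^ 2 * E.j ^ 2 by rw [← pow_add], mat_mul, E.mj2, mat_one]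
  ext a b
  fin_cases a <;> fin_cases b <;> simp [P22, Matrix.mul_apply, Fin.sum_univ_four]

theorem El.j2_ne : E.j ^ 2 ≠ 1 := by
  intro h
  have h1 := E.mj2
  rw [h, mat_one] at h1
  have h2 := congrFun (congrFun h1 1) 1
  simp [P22] at h2

theorem El.oa : orderOf E.a = 3 := by
  have := Fact.mk Nat.prime_three
  exact orderOf_eq_prime E.a3 E.a_ne

theorem El.ob : orderOf E.b = 3 := by
  have := Fact.mk Nat.prime_three
  exact orderOf_eq_prime E.b3 E.b_ne

theorem El.c3 : E.c ^ 3 = 1 := by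
  apply mat_injective
  rw [mat_pow', E.mc, Matrix.diagonal_pow, mat_one, ← Matrix.diagonal_one]
  congr 1
  funext i
  fin_cases i <;> simp [E.w3, mul_pow]

theorem El.c_ne : E.c ≠ 1 := by
  intro h
  have h1 := E.mc
  rw [h, mat_one] at h1
  have h2 := congrFun (congrFun h1 2) 2
  simp at h2
  exact E.w1 h2.symm

theorem El.oc : orderOf E.c = 3 := by
  have := Fact.mk Nat.prime_three
  exact orderOf_eq_prime E.c3 E.c_ne

theorem El.ou : orderOf E.u = 4 := by
  have := Fact.mk Nat.prime_two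
  exact orderOf_eq_prime_pow (p := 2) (n := 1) (by simpa using E.u2_ne) (by simpa using E.u4)

theorem El.oj : orderOf E.j = 4 := by
  have := Fact.mk Nat.prime_two
  exact orderOf_eq_prime_pow (p := 2) (n := 1) (by simpa using E.j2_ne) (by simpa using E.j4)

theorem El.ou2 : orderOf (E.u ^ 2) = 2 := by
  rw [orderOf_pow' _ (by norm_num), E.ou]
  rfl

theorem El.oj2 : orderOf (E.j ^ 2) = 2 := by
  rw [orderOf_pow' _ (by norm_num), E.oj]
  rfl

theorem El.od : orderOf (E.a * E.u) = 12 := by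
  rw [E.comm.orderOf_mul_eq_mul_orderOf_of_coprime (by rw [E.oa, E.ou]; norm_num), E.oa, E.ou]

theorem El.od' : orderOf (E.a * E.u ^ 2) = 6 := by
  rw [(E.comm.pow_right 2).orderOf_mul_eq_mul_orderOf_of_coprime (by rw [E.oa, E.ou2]; norm_num), E.oa, E.ou2]

theorem El.ob' : orderOf (E.b * E.j ^ 2) = 6 := by
  rw [E.hb.orderOf_mul_eq_mul_orderOf_of_coprime (by rw [E.ob, E.oj2]; norm_num), E.ob, E.oj2]

theorem El.d4 : (E.a * E.u) ^ 4 = E.a := by
  rw [E.comm.mul_pow, E.u4, mul_one, pow_succ, E.a3, one_mul]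

theorem El.d9 : (E.a * E.u) ^ 9 = E.u := by
  rw [E.comm.mul_pow, show E.a ^ 9 = (E.a ^ 3) ^ 3 by rw [← pow_mul], E.a3, one_pow, one_mul,
    show E.u ^ 9 = (E.u ^ 4) ^ 2 * E.u by rw [← pow_mul, ← pow_succ], E.u4, one_pow, one_mul]

theorem El.d'4 : (E.a * E.u ^ 2) ^ 4 = E.a := by
  rw [(E.comm.pow_right 2).mul_pow, show (E.u ^ 2) ^ 4 = (E.u ^ 4) ^ 2 by rw [← pow_mul, ← pow_mul], E.u4, one_pow,
    mul_one, pow_succ, E.a3, one_mul]

theorem El.b'3 : (E.b * E.j ^ 2) ^ 3 = E.j ^ 2 := by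
  rw [E.hb.mul_pow, E.b3, one_mul, show (E.j ^ 2) ^ 3 = E.j ^ 4 * E.j ^ 2 by rw [← pow_mul, ← pow_add], E.j4, one_mul]

variable (hF : Fintype.card F = 2 ^ 2)

include hF in
theorem orderOf_pr (x : SU 4 F 2) : orderOf (pr 4 F 2 x) = orderOf x := orderOf_injective _ (pr_inj4 hF) x

include hF in
/-- if `a` is missing -/
theorem three_a {R : Subgroup (PSU 4 F 2)} (h : ∀ φ : PSU 4 F 2 ≃* PSU 4 F 2, φ (pr 4 F 2 E.a) ∉ R) :
    Three (PSU 4 F 2) R := by
  refine three_of_ne h (miss_of_pow (y := pr 4 F 2 (E.a * E.u ^ 2)) h (k := 4) ?_)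
    (miss_of_pow (y := pr 4 F 2 (E.a * E.u)) h (k := 4) ?_) ?_ ?_ ?_
  · rw [← map_pow, E.d'4]
  · rw [← map_pow, E.d4]
  all_goals simp only [orderOf_pr hF, E.oa, E.od, E.od']; norm_num

include hF in
/-- if `j ^ 2` is missing -/
theorem three_t {R : Subgroup (PSU 4 F 2)} (h : ∀ φ : PSU 4 F 2 ≃* PSU 4 F 2, φ (pr 4 F 2 (E.j ^ 2)) ∉ R) :
    Three (PSU 4 F 2) R := by
  refine three_of_ne h (miss_of_pow (y := pr 4 F 2 (E.b * E.j ^ 2)) h (k := 3) ?_)
    (miss_of_pow (y := pr 4 F 2 E.j) h (k := 2) ?_) ?_ ?_ ?_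
  · rw [← map_pow, E.b'3]
  · rw [← map_pow]
  all_goals simp only [orderOf_pr hF, E.oj2, E.oj, E.ob']; norm_num

include E hF in
/-- isotropic 2-spaces -/
theorem three_iso {M : Subgroup (PSU 4 F 2)} {W : Submodule F (Fin 4 → F)}
    (hW : IsTotallySingularFor (hermForm 4 F 2) W) (h2 : finrank F W = 2) {K : Subgroup (GL (Fin 4) F)}
    (hM : pre M = subspaceStabilizer W ⊓ K) : Three (PSU 4 F 2) M := by
  apply three_a E hF
  intro φ
  refine miss hF (by norm_num) (by norm_num) ?_ φ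
  rw [hM]
  refine miss_diag_iso (K := K) hF (a := ![E.w, E.w, E.w, 1]) ?_ E.ha (J := {3}) ?_ hW (by rw [h2]; simp)
  · intro i
    fin_cases i <;> simp [E.w3]
  · intro j hj i hij
    rw [Finset.mem_singleton] at hj
    subst hj
    fin_cases i
    · simpa using E.w1
    · simpa using E.w1
    · simpa using E.w1
    · exact absurd rfl hij

/-- elements with `Rel` to `j ^ 2` -/
theorem exists_of_rel {y : SU 4 F 2} (h : Rel 2 (P22 F) (mat y)) {e : Fin 4 → F} {c : F} (hc : act y e = c • e)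
    (h2 : (2 : F) = 0) (hy : y ^ 2 = 1) : ∃ z, act y z - z = e := by
  by_cases he : e = 0
  · exact ⟨0, by rw [he, act_zero, sub_zero]⟩
  have hc1 : c = 1 := by
    have h3 : act (y ^ 2) e = (c * c) • e := by
      rw [pow_two, act_mul, hc, act_smul, hc, smul_smul]
    rw [hy, act_one] at h3
    have h4 : (c * c - 1) • e = 0 := by rw [sub_smul, ← h3, one_smul, sub_self]
    have h5 := (smul_eq_zero.1 h4).resolve_right he
    have h6 : (c - 1) * (c - 1) = 0 := by linear_combination h5 - (c - 1) * h2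
    exact sub_eq_zero.1 (mul_self_eq_zero.1 h6)
  obtain ⟨A, B, ρ, hAB, hY⟩ := rel42 h
  have hBA : B * A = 1 := _root_.mul_eq_one_comm.1 hAB
  have hP : (P22 F).map ρ = P22 F := by
    ext i j
    fin_cases i <;> fin_cases j <;> simp [P22]
  rw [hP] at hY
  set v := B *ᵥ e with hv
  have h3 : P22 F *ᵥ v = v := by
    rw [hc1, one_smul, act_def, hY] at hc
    calc P22 F *ᵥ v = (B * (A * P22 F * B)) *ᵥ e := by
          rw [← Matrix.mul_assoc, ← Matrix.mul_assoc, hBA, Matrix.one_mul, hv, Matrix.mulVec_mulVec]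
      _ = v := by rw [← Matrix.mulVec_mulVec, hc]
  have h02 : v 2 = v 0 := by
    have := congrFun h3 0
    simpa [P22, Matrix.mulVec, dotProduct, Fin.sum_univ_four] using this
  have h13 : v 3 = v 1 := by
    have := congrFun h3 1
    simpa [P22, Matrix.mulVec, dotProduct, Fin.sum_univ_four] using this
  refine ⟨A *ᵥ ![v 0, v 1, 0, 0], ?_⟩
  have h4 : P22 F *ᵥ ![v 0, v 1, 0, 0] - ![v 0, v 1, 0, 0] = v := by
    funext i
    fin_cases i
    · simp [P22, Matrix.mulVec, dotProduct, Fin.sum_univ_four]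
      linear_combination (-v 0) * h2
    · simp [P22, Matrix.mulVec, dotProduct, Fin.sum_univ_four]
      linear_combination (-v 1) * h2
    · simp [P22, Matrix.mulVec, dotProduct, Fin.sum_univ_four, h02]
    · simp [P22, Matrix.mulVec, dotProduct, Fin.sum_univ_four, h13]
  have h5 : act y (A *ᵥ ![v 0, v 1, 0, 0]) = A *ᵥ (P22 F *ᵥ ![v 0, v 1, 0, 0]) := by
    rw [act_def, hY, Matrix.mulVec_mulVec, Matrix.mulVec_mulVec]
    congr 1
    rw [Matrix.mul_assoc, Matrix.mul_assoc, hBA, Matrix.mul_one]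
  rw [h5, ← Matrix.mulVec_sub, h4, hv, Matrix.mulVec_mulVec, hAB, Matrix.one_mulVec]

include E hF in
/-- nonisotropic points -/
theorem three_point {M : Subgroup (PSU 4 F 2)} {W : Submodule F (Fin 4 → F)}
    (hW : IsNondegenerateOn (hermForm 4 F 2) W) (h2 : finrank F W = 1) {K : Subgroup (GL (Fin 4) F)}
    (hM : pre M = subspaceStabilizer W ⊓ K) : Three (PSU 4 F 2) M := by
  apply three_t E hF
  intro φ
  refine miss hF (by norm_num) (by norm_num) ?_ φ
  rw [hM]
  intro y hy hm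
  have hst := act_of_stab hm
  obtain ⟨⟨e, heW⟩, he0, he1⟩ := finrank_eq_one_iff'.1 h2
  have he0' : e ≠ 0 := fun h => he0 (Subtype.ext h)
  have hspan : ∀ x ∈ W, ∃ c : F, x = c • e := by
    intro x hx
    obtain ⟨c, hc⟩ := he1 ⟨x, hx⟩
    exact ⟨c, (congrArg Subtype.val hc).symm⟩
  have hee : hermForm 4 F 2 e e ≠ 0 := by
    intro h0
    obtain ⟨⟨x, hx, hx'⟩, -⟩ := hW e heW he0'
    obtain ⟨c, rfl⟩ := hspan x hx
    rw [herm_smul_left, h0, mul_zero] at hx'
    exact hx' rfl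
  obtain ⟨c, hc⟩ := hspan _ (hst e heW)
  have hy2 : y ^ 2 = 1 := by
    apply mat_injective
    have h3 := Rel.pow hy 2
    obtain ⟨A, B, ρ, hAB, hY⟩ := rel42 h3
    rw [mat_pow', hY, ← mat_pow', ← pow_mul, show 2 * 2 = 4 from rfl, E.j4, mat_one]
    rw [show (1 : Matrix (Fin 4) (Fin 4) F).map ρ = 1 by
      ext a b
      rw [Matrix.map_apply, Matrix.one_apply]
      split_ifs <;> simp, Matrix.mul_one, hAB]
  rw [E.mj2] at hy
  obtain ⟨z, hz⟩ := exists_of_rel hy hc E.two hy2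
  have hfix : act y e = e := by
    rw [← hz, act_sub, ← act_mul, ← pow_two, hy2, act_one]
    funext i
    simp only [Pi.sub_apply]
    linear_combination (z i - act y z i) * E.two
  apply hee
  have h5 := herm_act y z (act y z - z)
  rw [hz, hfix] at h5
  have h6 : hermForm 4 F 2 (act y z - z) e = hermForm 4 F 2 e e := by rw [hz]
  rw [← h6, herm_sub_left, h5, sub_self]

/-- monomial elements -/
theorem frame_r1 {y : SU 4 F 2} {E : Fin 4 → (Fin 4 → F)}
    (ho : ∀ i j, i ≠ j → hermForm 4 F 2 (E i) (E j) = 0) (hE : ∀ i, hermForm 4 F 2 (E i) (E i) ≠ 0)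
    (hF : Fintype.card F = 2 ^ 2)
    (hy : ∀ i, ∃ (j : Fin 4) (c : F), act y (E i) = c • E j) (h2 : y ^ 2 ≠ 1) (h4 : y ^ 4 = 1)
    (hr : R1 (mat (y ^ 2))) : False := by
  obtain ⟨w, -, -, -, -, two⟩ := exists_omega hF
  have hE0 : ∀ i, E i ≠ 0 := by
    intro i h
    apply hE i
    rw [h]
    exact herm_zero_left _
  have hsep : ∀ u, (∀ i, hermForm 4 F 2 u (E i) = 0) → u = 0 := by
    intro u hu
    have hli : LinearIndependent F E := by
      rw [Fintype.linearIndependent_iff]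
      intro g hg i
      have h1 : hermForm 4 F 2 (∑ j, g j • E j) (E i) = 0 := by rw [hg]; exact herm_zero_left _
      rw [herm_sum_left, Finset.sum_eq_single i] at h1
      · rw [herm_smul_left] at h1
        exact (mul_eq_zero.1 h1).resolve_right (hE i)
      · intro j _ hj
        rw [herm_smul_left, ho j i hj, mul_zero]
      · intro h
        exact absurd (Finset.mem_univ i) h
    have htop := hli.span_eq_top_of_card_eq_finrank (by rw [Fintype.card_fin, Module.finrank_fintype_fun_eq_card, Fintype.card_fin])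
    by_contra hne
    obtain ⟨w, hw⟩ := exists_herm_ne_zero hF hne
    have hmem : w ∈ Submodule.span F (Set.range E) := by
      rw [htop]; exact Submodule.mem_top
    rw [Submodule.mem_span_range_iff_exists_fun] at hmem
    obtain ⟨g, rfl⟩ := hmem
    apply hw
    rw [herm_sum_right hF]
    apply Finset.sum_eq_zero
    intro i _
    rw [herm_smul_right, hu i, mul_zero]
  choose σ c hσ using hy
  have hc0 : ∀ i, c i ≠ 0 := by
    intro i h
    have h1 := hσ i
    rw [h, zero_smul, act_eq_zero] at h1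
    exact hE0 i h1
  have hinj : Function.Injective σ := by
    intro i j hij
    by_contra hne
    have h1 := herm_act y (E i) (E j)
    rw [ho i j hne, hσ i, hσ j, hij, herm_smul_left, herm_smul_right] at h1
    rcases mul_eq_zero.1 h1 with h2 | h2
    · exact hc0 i h2
    · rcases mul_eq_zero.1 h2 with h3 | h3
      · exact hc0 j (pow_eq_zero_iff (by norm_num) |>.1 h3)
      · exact hE _ h3
  let τ : Equiv.Perm (Fin 4) := Equiv.ofBijective σ (Finite.injective_iff_bijective.1 hinj)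
  have hsq : ∀ i, act (y ^ 2) (E i) = (c i * c (τ i)) • E (τ (τ i)) := by
    intro i
    rw [pow_two, act_mul, hσ i, act_smul]
    change c i • act y (E (τ i)) = _
    rw [hσ (τ i), smul_smul]
    rfl
  have hperm : ∀ τ : Equiv.Perm (Fin 4), (∀ i, τ (τ i) = i) ∨ ∃ i m, τ (τ i) ≠ i ∧ τ (τ m) ≠ m ∧ m ≠ i ∧
      m ≠ τ (τ i) := by decide +kernel
  rcases hperm τ with h | ⟨i, m, hi, hm, hmi, hmi'⟩
  · apply h2
    apply ext_act
    intro u
    rw [act_one, ← sub_eq_zero]
    apply hsep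
    intro i
    have h5 := hsq i
    rw [h i] at h5
    have h6 : act (y ^ 4) (E i) = ((c i * c (τ i)) * (c i * c (τ i))) • E i := by
      rw [show y ^ 4 = y ^ 2 * y ^ 2 by rw [← pow_add], act_mul, h5, act_smul, h5, smul_smul]
    rw [h4, act_one] at h6
    set d := c i * c (τ i) with hd
    have h7 : (d * d - 1) • E i = 0 := by rw [sub_smul, ← h6, one_smul, sub_self]
    have h8 := (smul_eq_zero.1 h7).resolve_right (hE0 i)
    have h9 : (d - 1) * (d - 1) = 0 := by linear_combination h8 - (d - 1) * two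
    have h10 : d = 1 := sub_eq_zero.1 (mul_self_eq_zero.1 h9)
    rw [h10, one_smul] at h5
    have h11 := herm_act (y ^ 2) u (E i)
    rw [h5] at h11
    rw [herm_sub_left, h11, sub_self]
  · obtain ⟨p, l, hpl⟩ := hr
    have key : ∀ v, act (y ^ 2) v - v = (l ⬝ᵥ v) • p := by
      intro v
      have h5 : (mat (y ^ 2) - 1) *ᵥ v = vecMulVec p l *ᵥ v := by rw [hpl]
      rw [Matrix.sub_mulVec, Matrix.one_mulVec] at h5
      rw [act_def, h5]
      funext k
      simp [Matrix.mulVec, vecMulVec_apply, dotProduct, Finset.sum_mul, mul_comm, mul_left_comm, Finset.mul_sum]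
    have e1 := key (E i)
    have e2 := key (E m)
    rw [hsq] at e1 e2
    have f1 := congrArg (fun v => hermForm 4 F 2 v (E i)) e1
    have f2 := congrArg (fun v => hermForm 4 F 2 v (E m)) e1
    have f3 := congrArg (fun v => hermForm 4 F 2 v (E m)) e2
    simp only [herm_sub_left, herm_smul_left] at f1 f2 f3
    rw [ho _ _ hi, mul_zero, zero_sub] at f1
    rw [ho _ _ (Ne.symm hmi'), ho _ _ (Ne.symm hmi), mul_zero, sub_zero] at f2
    rw [ho _ _ hm, mul_zero, zero_sub] at f3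
    rcases mul_eq_zero.1 f2.symm with h5 | h5
    · rw [h5, zero_mul, neg_eq_zero] at f1
      exact hE i f1
    · rw [h5, mul_zero, neg_eq_zero] at f3
      exact hE m f3

theorem act_decomp {y : SU 4 F 2} {D : Fin 4 → Submodule F (Fin 4 → F)} {K : Subgroup (GL (Fin 4) F)}
    (h : H918.suHom 4 F 2 y ∈ decompositionStabilizer D ⊓ K) : ∀ i, ∃ j, ∀ v ∈ D i, act y v ∈ D j := by
  obtain ⟨σ, hσ⟩ := h.1
  intro i
  refine ⟨σ i, fun v hv => ?_⟩
  rw [← hσ i]
  exact ⟨v, hv, rfl⟩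

include E hF in
/-- frames -/
theorem three_frame {M : Subgroup (PSU 4 F 2)} {D : Fin 4 → Submodule F (Fin 4 → F)}
    (hD : IsNondegenerateMDecomposition (hermForm 4 F 2) 1 D) {K : Subgroup (GL (Fin 4) F)}
    (hM : pre M = decompositionStabilizer D ⊓ K) : Three (PSU 4 F 2) M := by
  have hcard := card_u42 hF
  have : Finite (PSU 4 F 2) := Nat.finite_of_card_ne_zero (by rw [hcard]; norm_num)
  have hex : ∀ i, ∃ e : Fin 4 → F, e ∈ D i ∧ hermForm 4 F 2 e e ≠ 0 ∧ ∀ v ∈ D i, ∃ c : F, v = c • e := by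
    intro i
    obtain ⟨⟨e, heW⟩, he0, he1⟩ := finrank_eq_one_iff'.1 (hD.decomp.finrank_eq i)
    have he0' : e ≠ 0 := fun h => he0 (Subtype.ext h)
    have hspan : ∀ x ∈ D i, ∃ c : F, x = c • e := by
      intro x hx
      obtain ⟨c, hc⟩ := he1 ⟨x, hx⟩
      exact ⟨c, (congrArg Subtype.val hc).symm⟩
    refine ⟨e, heW, fun h0 => ?_, hspan⟩
    obtain ⟨⟨x, hx, hx'⟩, -⟩ := hD.nondegenerate i e heW he0'
    obtain ⟨c, rfl⟩ := hspan x hx
    rw [herm_smul_left, h0, mul_zero] at hx'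
    exact hx' rfl
  choose e he1 he2 he3 using hex
  have ho : ∀ i j, i ≠ j → hermForm 4 F 2 (e i) (e j) = 0 := fun i j hij => hD.orthogonal i j hij _ (he1 i) _ (he1 j)
  have hmon : ∀ y : SU 4 F 2, pr 4 F 2 y ∈ M → ∀ i, ∃ (j : Fin 4) (c : F), act y (e i) = c • e j := by
    intro y hy i
    have h1 := mem_pre hy
    rw [hM] at h1
    obtain ⟨j, hj⟩ := act_decomp h1 i
    exact ⟨j, he3 j _ (hj _ (he1 i))⟩
  have hord : ∀ y : SU 4 F 2, pr 4 F 2 y ∈ M → orderOf y ≠ 5 ∧ orderOf y ≠ 12 := by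
    intro y hy
    rcases H251.Der.Geo.frame_order hF ho he2 (hmon y hy) with h | h | h
    all_goals
      have h1 := orderOf_dvd_of_pow_eq_one h
      constructor <;> intro h2 <;> rw [h2] at h1 <;> norm_num at h1
  have h5p : Fact (Nat.Prime 5) := ⟨by norm_num⟩
  obtain ⟨x5, hx5⟩ : ∃ x : PSU 4 F 2, orderOf x = 5 := exists_prime_orderOf_dvd_card' 5 (by rw [hcard]; norm_num)
  refine three_of_ne (x := x5) (y := pr 4 F 2 (E.a * E.u)) (z := pr 4 F 2 E.u) ?_ ?_ ?_ ?_ ?_ ?_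
  · intro φ hφ
    obtain ⟨y, hy⟩ := pr_surjective (φ x5)
    rw [← hy] at hφ
    apply (hord y hφ).1
    rw [← orderOf_pr hF, hy, orderOf_mulEquiv, hx5]
  · intro φ hφ
    obtain ⟨y, hy⟩ := pr_surjective (φ (pr 4 F 2 (E.a * E.u)))
    rw [← hy] at hφ
    apply (hord y hφ).2
    rw [← orderOf_pr hF, hy, orderOf_mulEquiv, orderOf_pr hF, E.od]
  · refine fun φ => miss hF (by norm_num) (by norm_num) ?_ φ
    intro y hy hm
    have hyM := of_mem_pre hm
    have hr : R1 (mat (y ^ 2)) := by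
      rw [mat_pow']
      refine R1.rel ?_ (Rel.pow hy 2)
      rw [← mat_pow', E.hu]
      exact r1_Tr E.two
    obtain ⟨A, B, ρ, hAB, hY⟩ := rel42 hy
    have hm1 : (1 : Matrix (Fin 4) (Fin 4) F).map ρ = 1 := by
      ext a b
      rw [Matrix.map_apply, Matrix.one_apply]
      split_ifs <;> simp
    have h4 : y ^ 4 = 1 := by
      apply mat_injective
      rw [mat_pow', pow_rel hAB hY, ← mat_pow', E.u4, mat_one, hm1, Matrix.mul_one, hAB]
    have h2 : y ^ 2 ≠ 1 := by
      intro h0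
      apply E.u2_ne
      have h1 := pow_rel hAB hY 2
      rw [← mat_pow', h0, mat_one, ← mat_pow'] at h1
      have hBA : B * A = 1 := _root_.mul_eq_one_comm.1 hAB
      have h5 : (mat (E.u ^ 2)).map ρ = 1 := by
        calc (mat (E.u ^ 2)).map ρ = (B * A) * (mat (E.u ^ 2)).map ρ * (B * A) := by
              rw [hBA, Matrix.one_mul, Matrix.mul_one]
          _ = B * (A * (mat (E.u ^ 2)).map ρ * B) * A := by simp only [Matrix.mul_assoc]
          _ = 1 := by rw [← h1, Matrix.mul_one, hBA]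
      apply mat_injective
      rw [mat_one]
      ext i k
      have h6 := congrFun (congrFun h5 i) k
      rw [Matrix.map_apply] at h6
      apply ρ.injective
      rw [h6, Matrix.one_apply]
      split_ifs <;> simp
    exact frame_r1 ho he2 hF (hmon y hyM) h2 h4 hr
  all_goals simp only [orderOf_pr hF, E.od, E.ou, hx5]; norm_num

theorem sub_trace {F₀ : Subfield F} {P : GL (Fin 4) F} {K : Subgroup (GL (Fin 4) F)} (hc : Nat.card F₀ = 2)
    {y : SU 4 F 2} (h : H918.suHom 4 F 2 y ∈ subfieldSubgroup F₀ P ⊓ K) (hF : Fintype.card F = 2 ^ 2) :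
    (mat y).trace ^ 2 = (mat y).trace := by
  have hfr : ∀ x ∈ F₀, x ^ 2 = x := by
    intro x hx
    have : Fintype F₀ := Fintype.ofFinite F₀
    have h1 := FiniteField.pow_card (⟨x, hx⟩ : F₀)
    rw [← Nat.card_eq_fintype_card, hc] at h1
    exact congrArg Subtype.val h1
  obtain ⟨c, hc0, hce⟩ := H914.mem_subfieldSubgroup_iff.1 h.1
  set Z : Matrix (Fin 4) (Fin 4) F := ((P⁻¹ * H918.suHom 4 F 2 y * P : GL (Fin 4) F) : Matrix (Fin 4) (Fin 4) F) with hZ
  have hZe : Z = ((P⁻¹ : GL (Fin 4) F) : Matrix (Fin 4) (Fin 4) F) * mat y * (P : Matrix (Fin 4) (Fin 4) F) := by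
    rw [hZ, Units.val_mul, Units.val_mul]
    rfl
  have hPP : (P : Matrix (Fin 4) (Fin 4) F) * ((P⁻¹ : GL (Fin 4) F) : Matrix (Fin 4) (Fin 4) F) = 1 := by
    rw [← Units.val_mul, mul_inv_cancel, Units.val_one]
  have hdet : Z.det = 1 := by
    rw [hZe, Matrix.det_mul, Matrix.det_mul, det_mat, mul_one, ← Matrix.det_mul, Matrix.det_mul_comm, hPP, Matrix.det_one]
  have htr : Z.trace = (mat y).trace := by
    rw [hZe, Matrix.trace_mul_comm, ← Matrix.mul_assoc, hPP, Matrix.one_mul]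
  have hd : (c • Z).det ∈ F₀ := by
    rw [Matrix.det_apply]
    refine sum_mem fun σ _ => ?_
    rw [Units.smul_def, zsmul_eq_mul]
    refine mul_mem (by simp) (prod_mem fun i _ => ?_)
    rw [Matrix.smul_apply, smul_eq_mul]
    exact hce _ _
  rw [Matrix.det_smul, hdet, mul_one, Fintype.card_fin] at hd
  have h3 : c ^ 3 = 1 := H251.Der.Geo.cube hF hc0
  have hc4 : c ^ 4 = c := by rw [pow_succ, h3, one_mul]
  rw [hc4] at hd
  have h5 := hfr c hd
  have hc1 : c = 1 := by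
    have h6 : c * (c - 1) = 0 := by linear_combination h5
    exact sub_eq_zero.1 ((mul_eq_zero.1 h6).resolve_left hc0)
  have ht : Z.trace ∈ F₀ := by
    rw [Matrix.trace]
    refine sum_mem fun i _ => ?_
    have := hce i i
    rwa [hc1, one_mul] at this
  rw [← htr]
  exact hfr _ ht

include E hF in
/-- subfield groups -/
theorem three_sub {M : Subgroup (PSU 4 F 2)} {F₀ : Subfield F} {P : GL (Fin 4) F} {K : Subgroup (GL (Fin 4) F)}
    (hc : Nat.card F₀ = 2) (hM : pre M = subfieldSubgroup F₀ P ⊓ K) : Three (PSU 4 F 2) M := by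
  apply three_a E hF
  intro φ
  refine miss hF (by norm_num) (by norm_num) ?_ φ
  rw [hM]
  intro y hy hm
  have h1 := sub_trace hc hm hF
  obtain ⟨A, B, ρ, hAB, hY⟩ := rel42 hy
  have h2 : (mat y).trace = ρ E.w * ρ E.w := by
    rw [hY, trace_conj hAB, E.ha, Matrix.diagonal_map (map_zero ρ), Matrix.trace_diagonal, Fin.sum_univ_four]
    simp
    have h3 := congrArg ρ E.ww
    rw [map_mul, map_add, map_one] at h3
    have h4 := congrArg ρ E.two
    rw [map_ofNat, map_zero] at h4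
    linear_combination -h3 + ρ E.w * h4
  rw [h2, ← map_mul, ← map_pow] at h1
  have h3 := ρ.injective h1
  have h4 : (E.w * E.w) ^ 2 = E.w := by
    calc (E.w * E.w) ^ 2 = E.w ^ 3 * E.w := by ring
      _ = E.w := by rw [E.w3, one_mul]
  rw [h4, E.ww] at h3
  have : (1 : F) = 0 := by linear_combination -h3
  exact one_ne_zero this

end

end Cfsg.Agent.H44.Der.U42
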