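import Cfsg.Agent.H44.Der.U42a
import Cfsg.Agent.H44.Der.Para

/-!
# `U₄(2)`: the stabilizer of an isotropic point (helper44)
-/

set_option autoImplicit false
set_option linter.unusedSectionVars false
set_option linter.unusedSimpArgs false

namespace Cfsg.Agent.H44.Der.U42

open Subgroup Cfsg Cfsg.Geo Matrix Module Cfsg.Agent.H251.Small Cfsg.Agent.H439.Der Cfsg.Agent.H938.Sax
open Cfsg.Agent.LieClassical.HermSiegel Cfsg.Agent.LieClassical.SUBasic Cfsg.Agent.LieClassical.HermBasic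
open Cfsg.Agent.ClassicalGeometry.PSUAutBasic
open Cfsg.Agent.H372 (herm_of_mul)
open Cfsg.Agent.H251.Der (pr_inj4)
open Cfsg.Agent.H251.GeoU (pre)
open Cfsg.Agent.H44.Der.Para

variable {F : Type} [Field F] [Fintype F]

section siegel

variable (hF : Fintype.card F = 2 ^ 2)

include hF in
theorem two0 : (2 : F) = 0 := H251.Der.Geo.two_eq hF

include hF in
theorem zeta : (1 : F) ^ (2 + 1) = -1 := by
  have := two0 hF
  linear_combination this

include hF in
theorem card_SU2 : Nat.card (SU 2 F 2) = 6 := by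
  have h := Cfsg.Agent.S0278.result hF 2 (by norm_num)
  simp only [Finset.prod_range_succ, Finset.prod_range_zero] at h
  norm_num [Nat.even_iff] at h
  omega

theorem siegel_four {w : Fin 4 → F} {μ : F} (h : IsSiegel 2 (u0 (1 : F)) w μ) :
    siegel hF (u0 (1 : F)) w μ h ^ 4 = 1 := by
  have two := two0 hF
  rw [show siegel hF (u0 (1 : F)) w μ h ^ 4 = (siegel hF _ w μ h * siegel hF _ w μ h) *
    (siegel hF _ w μ h * siegel hF _ w μ h) by rw [← pow_two, ← pow_two, ← pow_mul], siegel_mul, siegel_mul]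
  have h0 : IsSiegel 2 (u0 (1 : F)) 0 (0 : F) := IsSiegel.zero hF h.iso
  have hw : w + w = 0 := by
    funext i
    rw [Pi.add_apply, Pi.zero_apply]
    linear_combination w i * two
  rw [siegel_congr hF _ h0 rfl ?_ ?_, siegel_zero]
  · rw [hw, add_zero]
  · rw [hw, herm_zero_right hF]
    linear_combination (μ + μ - hermForm 4 F 2 w w) * two

theorem siegel_nil {w : Fin 4 → F} {μ : F} (h : IsSiegel 2 (u0 (1 : F)) w μ) :
    (mat (siegel hF (u0 (1 : F)) w μ h) - 1) ^ 3 = 0 := by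
  set s := siegel hF (u0 (1 : F)) w μ h with hs
  have h5 : ∀ u, (mat s - 1) *ᵥ u = act s u - u := by
    intro u
    rw [Matrix.sub_mulVec, Matrix.one_mulVec, act_def]
  have e1 : ∀ v, act s v - v = hermForm 4 F 2 v (u0 1) • w + (μ * hermForm 4 F 2 v (u0 1) - hermForm 4 F 2 v w) • u0 1 := by
    intro v
    rw [hs, act_siegel]
    funext i
    simp only [Pi.sub_apply, Pi.add_apply]
    ring
  have e2 : (mat s - 1) *ᵥ (u0 1) = 0 := by rw [h5, e1, h.iso, h.orth' hF]; simp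
  have e3 : (mat s - 1) *ᵥ w = (-hermForm 4 F 2 w w) • u0 1 := by
    rw [h5, e1, h.orth]
    simp
  apply Matrix.ext_of_mulVec_single
  intro i
  rw [Matrix.zero_mulVec, show (mat s - 1) ^ 3 = (mat s - 1) * ((mat s - 1) * (mat s - 1)) by
    simp only [pow_succ, pow_zero, one_mul, mul_assoc], ← Matrix.mulVec_mulVec, ← Matrix.mulVec_mulVec]
  rw [h5 (Pi.single i 1), e1, Matrix.mulVec_add, Matrix.mulVec_smul, Matrix.mulVec_smul, e2, e3, smul_zero, add_zero,
    Matrix.mulVec_smul, Matrix.mulVec_smul, e2, smul_zero, smul_zero]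

theorem siegel_r1 {a b μ : F} (h : IsSiegel 2 (u0 (1 : F)) (wv a b) μ)
    (hr : R1 (mat (siegel hF (u0 (1 : F)) (wv a b) μ h))) : a = 0 ∧ b = 0 := by
  obtain ⟨p, l, hpl⟩ := hr
  set s := siegel hF (u0 (1 : F)) (wv a b) μ h with hs
  have key : ∀ v, act s v - v = (l ⬝ᵥ v) • p := by
    intro v
    have h5 : (mat s - 1) *ᵥ v = vecMulVec p l *ᵥ v := by rw [hpl]
    rw [Matrix.sub_mulVec, Matrix.one_mulVec] at h5
    rw [act_def, h5]
    funext k
    simp [Matrix.mulVec, vecMulVec_apply, dotProduct, Finset.sum_mul, mul_comm, mul_left_comm, Finset.mul_sum]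
  have e1 : ∀ v, act s v - v = hermForm 4 F 2 v (u0 1) • wv a b +
      (μ * hermForm 4 F 2 v (u0 1) - hermForm 4 F 2 v (wv a b)) • u0 1 := by
    intro v
    rw [hs, act_siegel]
    funext i
    simp only [Pi.sub_apply, Pi.add_apply]
    ring
  by_contra hne
  obtain ⟨x, y, hxy⟩ : ∃ x y : F, x * a ^ 2 + y * b ^ 2 ≠ 0 := by
    by_contra hcon
    push Not at hcon
    apply hne
    constructor
    · have := hcon 1 0
      rw [one_mul, zero_mul, add_zero] at this
      exact pow_eq_zero_iff (by norm_num) |>.1 this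
    · have := hcon 0 1
      rw [one_mul, zero_mul, zero_add] at this
      exact pow_eq_zero_iff (by norm_num) |>.1 this
  have f1 := (key (wv x y)).symm.trans (e1 (wv x y))
  rw [wv_orth hF, herm_wv hF] at f1
  generalize (l ⬝ᵥ wv x y) = L at f1
  have g0 := congrFun f1 0
  have g2 := congrFun f1 2
  have g3 := congrFun f1 3
  simp [wv, u0] at g0 g2 g3
  have hl : L ≠ 0 := by
    intro h0
    rw [h0, zero_mul] at g0
    apply hxy
    linear_combination g0
  have p2 : p 2 = 0 := g2.resolve_left hl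
  have p3 : p 3 = 0 := g3.resolve_left hl
  have f2 := (key ![1, 0, 0, 0]).symm.trans (e1 ![1, 0, 0, 0])
  have hz : hermForm 4 F 2 ![1, 0, 0, 0] (u0 (1 : F)) = 1 := by
    rw [herm_u0 hF]
    simp
  rw [hz] at f2
  generalize (l ⬝ᵥ ![1, 0, 0, 0]) = L' at f2
  have k2 := congrFun f2 2
  have k3 := congrFun f2 3
  simp [wv, u0, p2, p3] at k2 k3
  exact hne ⟨k2.symm, k3.symm⟩

end siegel

section data

variable (hF : Fintype.card F = 2 ^ 2)

theorem mem_N_four {g : SU 4 F 2} (hg : g ∈ par 2 (1 : F)) (hl : lam 1 g = 1) (ht : th g = 1) (hF : Fintype.card F = 2 ^ 2) :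
    g ^ 4 = 1 ∧ (mat g - 1) ^ 3 = 0 := by
  have h1 := act_u0 hg
  rw [hl, one_smul] at h1
  obtain ⟨a, b, μ, h, rfl⟩ := exists_siegel hF (zeta hF) h1 ht
  exact ⟨siegel_four hF h, siegel_nil hF h⟩

include hF in
theorem par_data (R : Subgroup (par 2 (1 : F))) : ∃ N : Subgroup (par 2 (1 : F)),
    (∀ g : par 2 (1 : F), g ∈ N ↔ g ∈ R ∧ lam 1 (g : SU 4 F 2) = 1 ∧ th (g : SU 4 F 2) = 1) ∧
      Nat.card R = Nat.card (R.map (lamHom 2 1)) *
        (Nat.card ((R.subgroupOf (lamHom 2 1).ker).map (thHom hF (zeta hF))) * Nat.card N) ∧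
      (∃ k, Nat.card N = 2 ^ k) ∧ Nat.card (R.map (lamHom 2 1)) ∣ 3 ∧
      Nat.card ((R.subgroupOf (lamHom 2 1).ker).map (thHom hF (zeta hF))) ∣ 6 := by
  obtain ⟨N, hN, hcard⟩ := exists_N hF (zeta hF) R
  refine ⟨N, hN, hcard, ?_, ?_, ?_⟩
  · have hp : IsPGroup 2 N := by
      intro g
      refine ⟨2, ?_⟩
      obtain ⟨h1, h2, h3⟩ := (hN g).1 g.2
      apply Subtype.ext
      apply Subtype.ext
      exact (mem_N_four (g : par 2 (1 : F)).2 h2 h3 hF).1
    have := Fact.mk Nat.prime_two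
    exact IsPGroup.iff_card.1 hp
  · have h1 := Subgroup.card_subgroup_dvd_card (R.map (lamHom 2 (1 : F)))
    rw [Nat.card_units, Nat.card_eq_fintype_card (α := F), hF] at h1
    exact h1
  · have h1 := Subgroup.card_subgroup_dvd_card ((R.subgroupOf (lamHom 2 1).ker).map (thHom hF (zeta hF)))
    rwa [card_SU2 hF] at h1

include hF in
theorem card_par_dvd (R : Subgroup (par 2 (1 : F))) : ∃ k, Nat.card R ∣ 18 * 2 ^ k := by
  obtain ⟨N, -, h1, ⟨k, hk⟩, h2, h3⟩ := par_data hF R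
  refine ⟨k, ?_⟩
  rw [h1, hk, ← mul_assoc]
  exact Nat.mul_dvd_mul (Nat.mul_dvd_mul h2 h3) dvd_rfl

theorem not_dvd_18 {k : ℕ} : ¬ 5 ∣ 18 * 2 ^ k ∧ ¬ 27 ∣ 18 * 2 ^ k := by
  constructor
  · intro h
    have h1 : Nat.Coprime 5 (2 ^ k) := Nat.Coprime.pow_right k (by norm_num)
    have h2 := h1.dvd_of_dvd_mul_right h
    norm_num at h2
  · intro h
    have h1 : Nat.Coprime 27 (2 ^ k) := Nat.Coprime.pow_right k (by norm_num)
    have h2 := h1.dvd_of_dvd_mul_right h
    norm_num at h2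

variable (E : El F)

theorem El.a_mem : E.a ∈ par 2 (1 : F) := by
  refine ⟨E.w, ?_⟩
  rw [act_def, E.ha]
  funext i
  rw [Matrix.mulVec_diagonal]
  fin_cases i <;> simp [u0]

theorem El.c_mem : E.c ∈ par 2 (1 : F) := by
  refine ⟨1, ?_⟩
  rw [act_def, E.mc]
  funext i
  rw [Matrix.mulVec_diagonal]
  fin_cases i <;> simp [u0]

theorem El.tr_a : (mat E.a).trace = E.w * E.w := by
  rw [E.ha, Matrix.trace_diagonal, Fin.sum_univ_four]
  simp
  have h1 := E.ww
  have h2 := E.two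
  linear_combination -h1 + E.w * h2

theorem El.tr_a2 : (mat (E.a ^ 2)).trace = E.w := by
  rw [mat_pow', E.ha, Matrix.diagonal_pow, Matrix.trace_diagonal, Fin.sum_univ_four]
  simp
  have h1 := E.ww
  have h2 := E.two
  linear_combination 3 * h1 + (E.w + 2) * h2

theorem El.tr_c : (mat E.c).trace = 1 := by
  rw [E.mc, Matrix.trace_diagonal, Fin.sum_univ_four]
  simp
  have h1 := E.ww
  have h2 := E.two
  linear_combination h1 + (E.w + 1) * h2

theorem El.w2 : E.w ^ 2 ≠ E.w := by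
  intro h
  have h1 := E.ww
  have : (1 : F) = 0 := by linear_combination h - h1
  exact one_ne_zero this

theorem El.w4 : (E.w * E.w) ^ 2 ≠ E.w * E.w := by
  intro h
  have h1 := E.w3
  have h2 : (E.w * E.w) ^ 2 = E.w := by
    calc (E.w * E.w) ^ 2 = E.w ^ 3 * E.w := by ring
      _ = E.w := by rw [h1, one_mul]
  rw [h2] at h
  exact E.w2 (by rw [pow_two]; exact h.symm)

/-- nonconjugate elements of order 3 -/
theorem not_conj {H : Subgroup (SU 4 F 2)} {s t : H} (hs : Rel 2 (mat E.a) (mat (s : SU 4 F 2)))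
    (ht : Rel 2 (mat E.c) (mat (t : SU 4 F 2))) : ¬ IsConj s t ∧ ¬ IsConj s⁻¹ t := by
  have htt : (mat (t : SU 4 F 2)).trace = 1 := by
    obtain ⟨ρ, h1⟩ := trace_rel ht
    rw [h1, E.tr_c, map_one]
  constructor
  · intro h
    have h1 := trace_of_isConj h
    obtain ⟨ρ, h2⟩ := trace_rel hs
    rw [h2, htt, E.tr_a, ← map_one ρ] at h1
    apply E.w4
    rw [ρ.injective h1, one_pow]
  · intro h
    have h1 := trace_of_isConj h
    have h3 : s⁻¹ = s ^ 2 := by
      rw [inv_eq_iff_mul_eq_one, ← pow_succ']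
      apply Subtype.ext
      exact (pow_eq_one_rel hs 3).2 E.a3
    rw [h3, SubmonoidClass.coe_pow, mat_pow'] at h1
    have h4 := Rel.pow hs 2
    rw [← mat_pow'] at h4
    obtain ⟨ρ, h2⟩ := trace_rel h4
    rw [h2, htt, E.tr_a2, ← map_one ρ] at h1
    apply E.w2
    rw [ρ.injective h1, one_pow]

theorem Rel.refl (X : Matrix (Fin 4) (Fin 4) F) : Rel 2 X X :=
  ⟨1, 1, RingEquiv.refl F, 1, one_mul _, one_pow _, one_pow _, by
    rw [one_smul, Matrix.one_mul, Matrix.mul_one]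
    rfl⟩

include E hF in
/-- no elements of order 5 or 9 -/
theorem par_ord {y : SU 4 F 2} (hy : y ∈ par 2 (1 : F)) : orderOf y ≠ 5 ∧ orderOf y ≠ 9 := by
  obtain ⟨k, hk⟩ := card_par_dvd hF (⊤ : Subgroup (par 2 (1 : F)))
  rw [Subgroup.card_top] at hk
  constructor
  · intro h5
    apply (not_dvd_18 (k := k)).1
    refine dvd_trans ?_ hk
    rw [← h5, ← Subgroup.orderOf_mk y hy]
    exact orderOf_dvd_natCard _
  · intro h9
    apply (not_dvd_18 (k := k)).2
    refine dvd_trans ?_ hk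
    obtain ⟨h1, h2⟩ := not_conj E (H := par 2 (1 : F)) (s := ⟨E.a, E.a_mem⟩) (t := ⟨E.c, E.c_mem⟩)
      (Rel.refl _) (Rel.refl _)
    refine twentyseven_dvd (y := (⟨y, hy⟩ : par 2 (1 : F))) (s := ⟨E.a, E.a_mem⟩) (t := ⟨E.c, E.c_mem⟩) ?_ ?_ ?_ h1 h2
    · rw [Subgroup.orderOf_mk, h9]
    · rw [Subgroup.orderOf_mk, E.oa]
    · rw [Subgroup.orderOf_mk, E.oc]

theorem Rel.sub_one {X Y : Matrix (Fin 4) (Fin 4) F} (h : Rel 2 X Y) : Rel 2 (X - 1) (Y - 1) := by
  obtain ⟨A, B, ρ, hAB, hY⟩ := rel42 h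
  exact ⟨A, B, ρ, 1, hAB, one_pow _, one_pow _, by rw [one_smul]; exact sub_one_rel hAB hY⟩

theorem zero_of_rel {X Y : Matrix (Fin 4) (Fin 4) F} (h : Rel 2 X Y) (h0 : Y = 0) : X = 0 := by
  obtain ⟨A, B, ρ, hAB, hY⟩ := rel42 h
  have hBA : B * A = 1 := _root_.mul_eq_one_comm.1 hAB
  have e4 : X.map ρ = 0 := by
    calc X.map ρ = (B * A) * X.map ρ * (B * A) := by rw [hBA, Matrix.one_mul, Matrix.mul_one]
      _ = B * (A * X.map ρ * B) * A := by simp only [Matrix.mul_assoc]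
      _ = 0 := by rw [← hY, h0, Matrix.mul_zero, Matrix.zero_mul]
  ext a b
  have := congrFun (congrFun e4 a) b
  rw [Matrix.map_apply] at this
  exact (map_eq_zero_iff ρ ρ.injective).1 this

theorem J4_cube : (H251.Der.J4 F - 1) ^ 3 ≠ 0 := by
  intro h
  rw [show (H251.Der.J4 F - 1) ^ 3 = (H251.Der.J4 F - 1) * (H251.Der.J4 F - 1) * (H251.Der.J4 F - 1) by
    simp only [pow_succ, pow_zero, one_mul]] at h
  have h3 := congrFun (congrFun h 3) 0
  simp [H251.Der.J4, Matrix.mul_apply, Fin.sum_univ_four, Matrix.sub_apply] at h3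

/-- the swap of the last two coordinates -/
theorem exists_swap (hF : Fintype.card F = 2 ^ 2) : ∃ g : SU 4 F 2, act g (u0 (1 : F)) = u0 1 ∧ mat g 2 2 = 0 ∧
    mat g 2 3 = 1 ∧ mat g 3 2 = 1 ∧ mat g 3 3 = 0 := by
  have h2 := two0 hF
  set X : Matrix (Fin 4) (Fin 4) F := !![1, 0, 0, 0; 0, 1, 0, 0; 0, 0, 0, 1; 0, 0, 1, 0] with hX
  have hdet : X.det = 1 := by
    rw [hX]
    simp [Matrix.det_succ_row_zero, Fin.sum_univ_succ, Fin.succAbove]
    linear_combination -h2
  have hh : Xᵀ * X.map (conj hF) = 1 := by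
    ext a b
    fin_cases a <;> fin_cases b <;> simp [hX, Matrix.mul_apply, Fin.sum_univ_four]
  refine ⟨mkSU X hdet (herm_of_mul hF hh), ?_, ?_, ?_, ?_, ?_⟩
  · rw [act_def, mat_mkSU]
    funext i
    fin_cases i <;> simp [hX, u0, Matrix.mulVec, dotProduct, Fin.sum_univ_four]
  all_goals rw [mat_mkSU]; simp [hX]

theorem el_four (hF : Fintype.card F = 2 ^ 2) (w : F) (ww : w * w = w + 1) (x : F) :
    x = 0 ∨ x = 1 ∨ x = w ∨ x = w * w := by
  have h2 := two0 hF
  by_cases hx : x = 0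
  · exact Or.inl hx
  right
  have h3 : x ^ 3 = 1 := H251.Der.Geo.cube hF hx
  have h4 : (x - 1) * ((x - w) * (x - w * w)) = 0 := by
    grind
  rcases mul_eq_zero.1 h4 with h5 | h5
  · exact Or.inl (sub_eq_zero.1 h5)
  rcases mul_eq_zero.1 h5 with h6 | h6
  · exact Or.inr (Or.inl (sub_eq_zero.1 h6))
  · exact Or.inr (Or.inr (sub_eq_zero.1 h6))

theorem nat_aux {l t : ℕ} (hl : l ∣ 3) (ht : t ∣ 6) (h : 9 ∣ l * t) : l = 3 ∧ (t = 3 ∨ t = 6) := by
  have h1 := Nat.le_of_dvd (by norm_num) hl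
  have h2 := Nat.le_of_dvd (by norm_num) ht
  interval_cases l <;> interval_cases t <;> revert hl ht h <;> decide

set_option maxHeartbeats 1000000 in
include hF in
/-- **A subgroup of the point stabilizer containing elements of three classes is the whole stabilizer.** -/
theorem par_le {R : Subgroup (SU 4 F 2)} (hR : R ≤ par 2 (1 : F)) {d j c : SU 4 F 2} (hd : d ∈ R) (hj : j ∈ R)
    (hc : c ∈ R) (hd' : Rel 2 (mat (E.a * E.u)) (mat d)) (hj' : Rel 2 (mat E.j) (mat j))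
    (hc' : Rel 2 (mat E.c) (mat c)) : par 2 (1 : F) ≤ R := by
  have two := E.two
  -- the order of `R`
  have hd4 : Rel 2 (mat E.a) (mat (d ^ 4)) := by
    have := Rel.pow hd' 4
    rwa [← mat_pow', ← mat_pow', E.d4] at this
  have hd3 : Rel 2 (mat (E.a * E.u) ^ 3) (mat (d ^ 3)) := by
    have := Rel.pow hd' 3
    rwa [← mat_pow' d] at this
  have hd6 : R1 (mat (d ^ 6)) := by
    have h1 := Rel.pow hd' 18
    rw [← mat_pow', ← mat_pow', show (E.a * E.u) ^ 18 = ((E.a * E.u) ^ 9) ^ 2 by rw [← pow_mul], E.d9] at h1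
    have h2 : d ^ 18 = d ^ 6 := by
      have h3 : d ^ 12 = 1 := by
        rw [← E.od, ← orderOf_rel hd', pow_orderOf_eq_one]
      rw [show (18 : ℕ) = 12 + 6 from rfl, pow_add, h3, one_mul]
    rw [h2] at h1
    refine R1.rel ?_ h1
    rw [E.hu]
    exact r1_Tr two
  have od : orderOf d = 12 := by rw [orderOf_rel hd', E.od]
  have oj : orderOf j = 4 := by rw [orderOf_rel hj', E.oj]
  have oc : orderOf c = 3 := by rw [orderOf_rel hc', E.oc]
  have hj2 : ¬ R1 (mat (j ^ 2)) := by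
    intro h
    have h1 := Rel.pow hj' 2
    rw [← mat_pow', ← mat_pow', E.mj2] at h1
    obtain ⟨A, B, ρ, hAB, hY⟩ := rel42 h1
    have hBA : B * A = 1 := _root_.mul_eq_one_comm.1 hAB
    have h2 : Rel 2 (mat (j ^ 2)) (P22 F) := by
      refine ⟨B, A, RingEquiv.refl F, 1, hBA, one_pow _, one_pow _, ?_⟩
      rw [one_smul, hY]
      have hP : (P22 F).map ρ = P22 F := by
        ext i j
        fin_cases i <;> fin_cases j <;> simp [P22]
      rw [hP]
      have : (A * P22 F * B).map (RingEquiv.refl F) = A * P22 F * B := rfl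
      rw [this]
      calc P22 F = (B * A) * P22 F * (B * A) := by rw [hBA, Matrix.one_mul, Matrix.mul_one]
        _ = _ := by simp only [Matrix.mul_assoc]
    have h3 := (h.rel h2).minor 0 1 0 1
    simp [P22, Matrix.sub_apply] at h3
  have h9 : 9 ∣ Nat.card R := by
    obtain ⟨h1, h2⟩ := not_conj E (H := R) (s := ⟨d ^ 4, R.pow_mem hd 4⟩) (t := ⟨c, hc⟩) hd4 hc'
    refine nine_dvd (s := (⟨d ^ 4, R.pow_mem hd 4⟩ : R)) (t := ⟨c, hc⟩) ?_ ?_ h1 h2
    · rw [Subgroup.orderOf_mk, orderOf_pow' _ (by norm_num), od]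
      rfl
    · rw [Subgroup.orderOf_mk, oc]
  have h16 : 16 ∣ Nat.card R := by
    refine sixteen_dvd (x := (⟨d ^ 3, R.pow_mem hd 3⟩ : R)) (y := ⟨j, hj⟩) ?_ ?_ ?_
    · rw [Subgroup.orderOf_mk, orderOf_pow' _ (by norm_num), od]
      rfl
    · rw [Subgroup.orderOf_mk, oj]
    · intro h
      apply hj2
      have h1 := r1_of_isConj h (by
        rw [SubmonoidClass.coe_pow]
        change R1 (mat ((d ^ 3) ^ 2))
        rw [← pow_mul]
        exact hd6)
      exact h1
  have hcard : 144 ∣ Nat.card R := Nat.Coprime.mul_dvd_of_dvd_of_dvd (by norm_num : Nat.Coprime 9 16) h9 h16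
  -- the data
  obtain ⟨N, hN, hRc, ⟨k, hk⟩, hl3, ht6⟩ := par_data hF (R.subgroupOf (par 2 (1 : F)))
  have hRR : Nat.card (R.subgroupOf (par 2 (1 : F))) = Nat.card R :=
    Nat.card_congr (Subgroup.subgroupOfEquivOfLe hR).toEquiv
  set lc := Nat.card ((R.subgroupOf (par 2 (1 : F))).map (lamHom 2 1)) with hlc
  set tc := Nat.card (((R.subgroupOf (par 2 (1 : F))).subgroupOf (lamHom 2 1).ker).map (thHom hF (zeta hF))) with htc
  have h9' : 9 ∣ lc * tc := by
    rw [← hRR, hRc, hk, ← mul_assoc] at h9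
    have h1 : Nat.Coprime 9 (2 ^ k) := Nat.Coprime.pow_right k (by norm_num)
    exact h1.dvd_of_dvd_mul_right h9
  obtain ⟨hlc3, htc3⟩ := nat_aux hl3 ht6 h9'
  have hinR : ∀ g (hg : g ∈ R), (⟨g, hR hg⟩ : par 2 (1 : F)) ∈ R.subgroupOf (par 2 (1 : F)) := fun g hg => hg
  have hker : ∀ g (hg : g ∈ R), lam 1 g = 1 → (⟨g, hR hg⟩ : par 2 (1 : F)) ∈ (lamHom 2 (1 : F)).ker := by
    intro g hg h
    rw [MonoidHom.mem_ker]
    apply Units.ext
    rw [coe_lamHom, Units.val_one]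
    exact h
  -- `th` of elements of `R`
  have hthm : ∀ g (hg : g ∈ R) (h : lam 1 g = 1), thHom hF (zeta hF) ⟨⟨g, hR hg⟩, hker g hg h⟩ ∈
      ((R.subgroupOf (par 2 (1 : F))).subgroupOf (lamHom 2 1).ker).map (thHom hF (zeta hF)) := by
    intro g hg h
    exact ⟨⟨⟨g, hR hg⟩, hker g hg h⟩, hinR g hg, rfl⟩
  have hthp : ∀ g (hg : g ∈ R) (h : lam 1 g = 1) (m : ℕ),
      thHom hF (zeta hF) ⟨⟨g, hR hg⟩, hker g hg h⟩ ^ m = 1 → th (g ^ m) = 1 := by
    intro g hg h m hm
    rw [← map_pow] at hm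
    have h1 := mat_thHom hF (zeta hF) ((⟨⟨g, hR hg⟩, hker g hg h⟩ : (lamHom 2 (1 : F)).ker) ^ m)
    rw [hm, mat_one] at h1
    exact h1.symm
  -- `lam` of 2-elements
  have hlam : ∀ g (hg : g ∈ R), g ^ 4 = 1 → lam 1 g = 1 := by
    intro g hg h
    have h1 : (lamHom 2 (1 : F)) ⟨g, hR hg⟩ ^ 4 = 1 := by
      rw [← map_pow]
      have : (⟨g, hR hg⟩ : par 2 (1 : F)) ^ 4 = 1 := Subtype.ext h
      rw [this, map_one]
    have h2 := congrArg (fun x : Fˣ => (x : F)) h1
    simp only [Units.val_pow_eq_pow_val, Units.val_one] at h2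
    rw [coe_lamHom] at h2
    have h3 : lam 1 g ^ 3 = 1 := H251.Der.Geo.cube hF (lam_ne (hR hg))
    change lam 1 g ^ 4 = 1 at h2
    rwa [pow_succ, h3, one_mul] at h2
  have htc6 : tc = 6 := by
    rcases htc3 with h | h
    swap
    · exact h
    exfalso
    have hj4 : j ^ 4 = 1 := orderOf_dvd_iff_pow_eq_one.1 (by rw [oj])
    have hlj := hlam j hj hj4
    have h1 : thHom hF (zeta hF) ⟨⟨j, hR hj⟩, hker j hj hlj⟩ ^ 3 = 1 := by
      have h2 := pow_card_eq_one' (G := ((R.subgroupOf (par 2 (1 : F))).subgroupOf (lamHom 2 1).ker).map (thHom hF (zeta hF)))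
        (x := ⟨_, hthm j hj hlj⟩)
      rw [← htc, h] at h2
      exact congrArg Subtype.val h2
    have h2 : thHom hF (zeta hF) ⟨⟨j, hR hj⟩, hker j hj hlj⟩ ^ 4 = 1 := by
      rw [← map_pow]
      have : (⟨⟨j, hR hj⟩, hker j hj hlj⟩ : (lamHom 2 (1 : F)).ker) ^ 4 = 1 := Subtype.ext (Subtype.ext hj4)
      rw [this, map_one]
    have h3 : thHom hF (zeta hF) ⟨⟨j, hR hj⟩, hker j hj hlj⟩ ^ 1 = 1 := by
      rw [pow_succ, h1, one_mul] at h2
      rw [pow_one, h2]
    have h4 := hthp j hj hlj 1 h3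
    rw [pow_one] at h4
    have h5 := (mem_N_four (hR hj) hlj h4 hF).2
    rw [E.hj] at hj'
    exact J4_cube (zero_of_rel (Rel.pow (Rel.sub_one hj') 3) h5)
  have hltop : (R.subgroupOf (par 2 (1 : F))).map (lamHom 2 1) = ⊤ := by
    apply Subgroup.eq_top_of_card_eq
    rw [← hlc, hlc3, Nat.card_units, Nat.card_eq_fintype_card (α := F), hF]
    rfl
  have httop : ((R.subgroupOf (par 2 (1 : F))).subgroupOf (lamHom 2 1).ker).map (thHom hF (zeta hF)) = ⊤ := by
    apply Subgroup.eq_top_of_card_eq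
    rw [← htc, htc6, card_SU2 hF]
  -- the centre
  have hd3 : d ^ 12 = 1 := orderOf_dvd_iff_pow_eq_one.1 (by rw [od])
  have hl3' : lam 1 (d ^ 3) = 1 := hlam _ (R.pow_mem hd 3) (by rw [← pow_mul, hd3])
  have ht3 : th ((d ^ 3) ^ 2) = 1 := by
    apply hthp (d ^ 3) (R.pow_mem hd 3) hl3' 2
    set x := thHom hF (zeta hF) ⟨⟨d ^ 3, hR (R.pow_mem hd 3)⟩, hker _ (R.pow_mem hd 3) hl3'⟩ with hx
    have h1 : x ^ 6 = 1 := by
      rw [← card_SU2 hF]
      exact pow_card_eq_one'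
    have h2 : x ^ 4 = 1 := by
      rw [hx, ← map_pow]
      have : (⟨⟨d ^ 3, hR (R.pow_mem hd 3)⟩, hker _ (R.pow_mem hd 3) hl3'⟩ : (lamHom 2 (1 : F)).ker) ^ 4 = 1 :=
        Subtype.ext (Subtype.ext (by
          change (d ^ 3) ^ 4 = 1
          rw [← pow_mul, hd3]))
      rw [this, map_one]
    rwa [show (6 : ℕ) = 4 + 2 from rfl, pow_add, h2, one_mul] at h1
  have hd6m : d ^ 6 ∈ R := R.pow_mem hd 6
  have e6 : (d ^ 3) ^ 2 = d ^ 6 := by rw [← pow_mul]
  have hl6 : lam 1 (d ^ 6) = 1 := by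
    rw [← e6, pow_two, lam_mul (hR (R.pow_mem hd 3)) (hR (R.pow_mem hd 3)), hl3', one_mul]
  rw [e6] at ht3
  have hu6 := act_u0 (hR hd6m)
  rw [hl6, one_smul] at hu6
  obtain ⟨a, b, μ, hs, he⟩ := exists_siegel hF (zeta hF) hu6 ht3
  rw [he] at hd6
  obtain ⟨rfl, rfl⟩ := siegel_r1 hF hs hd6
  have h01 : ∀ (ν : F), IsSiegel 2 (u0 (1 : F)) (wv 0 0) ν → ν = 0 ∨ ν = 1 := by
    intro ν h
    have h1 := h.tr
    rw [wv_zero, herm_zero_left, add_zero] at h1
    have h2 : ν * (ν + 1) = 0 := by linear_combination h1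
    rcases mul_eq_zero.1 h2 with h3 | h3
    · exact Or.inl h3
    · right
      linear_combination h3 - two
  have hμ : μ = 1 := by
    refine (h01 μ hs).resolve_left ?_
    rintro rfl
    have h1 : d ^ 6 = 1 := by
      rw [he, siegel_congr hF hs (IsSiegel.zero hF hs.iso) rfl wv_zero rfl, siegel_zero]
    have h2 := orderOf_dvd_of_pow_eq_one h1
    rw [od] at h2
    norm_num at h2
  subst hμ
  have hZ : ∀ (ν : F) (h : IsSiegel 2 (u0 (1 : F)) (wv 0 0) ν), siegel hF (u0 (1 : F)) (wv 0 0) ν h ∈ R := by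
    intro ν h
    rcases h01 ν h with rfl | rfl
    · rw [siegel_congr hF h (IsSiegel.zero hF h.iso) rfl wv_zero rfl, siegel_zero]
      exact R.one_mem
    · rw [← he]
      exact hd6m
  -- a nonzero vector
  obtain ⟨a, b, hab, hne⟩ : ∃ a b : F, Nb (ζ := (1 : F)) hF R a b ∧ ¬ (a = 0 ∧ b = 0) := by
    by_contra hcon
    push Not at hcon
    have h1 := card_N_dvd hF (zeta hF) (R := R) (fun a b h => ?_) hN
    · rw [hRR, hlc3, htc6] at hRc
      have h2 : 144 ∣ 3 * (6 * Nat.card N) := by rw [← hRc]; exact hcard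
      have h3 := Nat.le_of_dvd (by have := Nat.card_pos (α := N); positivity) h2
      omega
    · by_contra h2
      exact h2 (hcon a b h)
  refine core hF (zeta hF) hltop httop hZ fun hst => ?_
  -- the actions of the elements of the torus
  have hlw : ∀ g : SU 4 F 2, ∀ l : F, act g (u0 (1 : F)) = l • u0 1 → lam 1 g = l := fun g l h => lam_eq h
  obtain ⟨s, hs1, hs2, hs3, hs4, hs5⟩ := exists_swap hF
  have hswap : ∀ a b, Nb (ζ := (1 : F)) hF R a b → Nb (ζ := (1 : F)) hF R b a := by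
    intro a b h
    have h1 := hst s ⟨1, by rw [one_smul]; exact hs1⟩ a b h
    rw [lam_eq (l := 1) (by rw [one_smul]; exact hs1), hs2, hs3, hs4, hs5] at h1
    simpa using h1
  have hca : ∀ a b, Nb (ζ := (1 : F)) hF R a b → Nb (ζ := (1 : F)) hF R (E.w * a) (E.w * E.w * b) := by
    intro a b h
    have h1 := hst E.c E.c_mem a b h
    rw [lam_eq (l := 1) (g := E.c) (by
      rw [one_smul, act_def, E.mc]
      funext i
      rw [Matrix.mulVec_diagonal]
      fin_cases i <;> simp [u0]), E.mc] at h1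
    simpa using h1
  have haa : ∀ a b, Nb (ζ := (1 : F)) hF R a b → Nb (ζ := (1 : F)) hF R (E.w ^ 2 * (E.w * a)) (E.w ^ 2 * b) := by
    intro a b h
    have h1 := hst E.a E.a_mem a b h
    rw [lam_eq (l := E.w) (g := E.a) (by
      rw [act_def, E.ha]
      funext i
      rw [Matrix.mulVec_diagonal]
      fin_cases i <;> simp [u0]), E.ha] at h1
    simpa using h1
  -- a vector with second coordinate zero
  obtain ⟨a', ha', ha0⟩ : ∃ a' : F, Nb (ζ := (1 : F)) hF R a' 0 ∧ a' ≠ 0 := by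
    by_cases hb : b = 0
    · subst hb
      exact ⟨a, hab, fun h => hne ⟨h, rfl⟩⟩
    · have h1 := (haa a b hab).add hF hab
      refine ⟨E.w * b, hswap _ _ ?_, mul_ne_zero E.w0 hb⟩
      convert h1 using 1
      · have h3 := E.w3
        linear_combination (-a) * h3 - a * two
      · have h3 := E.ww
        linear_combination (-b) * h3 - b * two
  have hx : ∀ x : F, Nb (ζ := (1 : F)) hF R x 0 := by
    intro x
    have h1 : ∀ k : F, k = 0 ∨ k = 1 ∨ k = E.w ∨ k = E.w * E.w → Nb (ζ := (1 : F)) hF R (k * a') 0 := by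
      intro k hk
      rcases hk with rfl | rfl | rfl | rfl
      · have := ha'.add hF (ha'.neg hF)
        rw [zero_mul]
        simpa using this
      · rwa [one_mul]
      · have := hca _ _ ha'
        rwa [mul_zero] at this
      · have := hca _ _ (hca _ _ ha')
        rw [mul_zero, mul_zero, ← mul_assoc] at this
        exact this
    have h2 := h1 (x / a') (el_four hF E.w E.ww _)
    rwa [div_mul_cancel₀ _ ha0] at h2
  intro x y
  have := (hx x).add hF (hswap _ _ (hx y))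
  simpa using this

end data

end Cfsg.Agent.H44.Der.U42
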