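import Cfsg.Agent.H44.Der.Diag
import Cfsg.Agent.H44.Der.Syl
import Cfsg.Agent.H251.Small.U43
import Cfsg.Agent.H372.Unit
import Cfsg.Agent.H914.Sub

/-!
# `U₄(3)`: elements (helper44)
-/

set_option autoImplicit false
set_option linter.unusedSectionVars false
set_option linter.unusedSimpArgs false

namespace Cfsg.Agent.H44.Der.U43

open Subgroup Cfsg Cfsg.Geo Matrix Module Cfsg.Agent.H251.Small Cfsg.Agent.H439.Der Cfsg.Agent.H938.Sax
open Cfsg.Agent.LieClassical.HermSiegel Cfsg.Agent.LieClassical.SUBasic Cfsg.Agent.LieClassical.HermBasic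
open Cfsg.Agent.ClassicalGeometry.PSUAutBasic
open Cfsg.Agent.H372 (herm_of_mul)
open Cfsg.Agent.H251.GeoU (pre)

variable {F : Type} [Field F] [Fintype F]

/-- conjugate up to a field automorphism -/
def Rel1 (X Y : Matrix (Fin 4) (Fin 4) F) : Prop :=
  ∃ (A B : Matrix (Fin 4) (Fin 4) F) (ρ : F ≃+* F), A * B = 1 ∧ Y = A * X.map ρ * B

section rel

theorem map_one' (ρ : F ≃+* F) : (1 : Matrix (Fin 4) (Fin 4) F).map ρ = 1 := by
  ext a b
  rw [Matrix.map_apply, Matrix.one_apply]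
  split_ifs <;> simp

theorem map_sub_one (X : Matrix (Fin 4) (Fin 4) F) (ρ : F ≃+* F) : (X - 1).map ρ = X.map ρ - 1 := by
  ext a b
  simp only [Matrix.map_apply, Matrix.sub_apply, map_sub, sub_right_inj]
  rw [Matrix.one_apply]
  split_ifs <;> simp

variable {X Y : Matrix (Fin 4) (Fin 4) F}

theorem Rel1.sub_one (h : Rel1 X Y) : Rel1 (X - 1) (Y - 1) := by
  obtain ⟨A, B, ρ, hAB, hY⟩ := h
  refine ⟨A, B, ρ, hAB, ?_⟩
  rw [map_sub_one, Matrix.mul_sub, Matrix.sub_mul, Matrix.mul_one, hAB, hY]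

theorem Rel1.pow (h : Rel1 X Y) (k : ℕ) : Rel1 (X ^ k) (Y ^ k) := by
  obtain ⟨A, B, ρ, hAB, hY⟩ := h
  refine ⟨A, B, ρ, hAB, ?_⟩
  have hBA : B * A = 1 := _root_.mul_eq_one_comm.1 hAB
  induction k with
  | zero => rw [pow_zero, pow_zero, map_one', Matrix.mul_one, hAB]
  | succ k ih =>
    rw [pow_succ, pow_succ, Matrix.map_mul, ih, hY]
    calc A * (X ^ k).map ρ * B * (A * X.map ρ * B) = A * (X ^ k).map ρ * (B * A) * X.map ρ * B := by
          simp only [Matrix.mul_assoc]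
      _ = _ := by rw [hBA, Matrix.mul_one, Matrix.mul_assoc A]

theorem Rel1.zero (h : Rel1 X Y) (h0 : Y = 0) : X = 0 := by
  obtain ⟨A, B, ρ, hAB, hY⟩ := h
  have hBA : B * A = 1 := _root_.mul_eq_one_comm.1 hAB
  have e4 : X.map ρ = 0 := by
    calc X.map ρ = (B * A) * X.map ρ * (B * A) := by rw [hBA, Matrix.one_mul, Matrix.mul_one]
      _ = B * (A * X.map ρ * B) * A := by simp only [Matrix.mul_assoc]
      _ = 0 := by rw [← hY, h0, Matrix.mul_zero, Matrix.zero_mul]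
  ext a b
  have := congrFun (congrFun e4 a) b
  rw [Matrix.map_apply] at this
  exact (map_eq_zero_iff ρ ρ.injective).1 this

theorem Rel1.zero' (h : Rel1 X Y) (h0 : X = 0) : Y = 0 := by
  obtain ⟨A, B, ρ, hAB, hY⟩ := h
  rw [hY, h0]
  have : (0 : Matrix (Fin 4) (Fin 4) F).map ρ = 0 := by
    ext a b
    simp
  rw [this, Matrix.mul_zero, Matrix.zero_mul]

theorem Rel1.trace (h : Rel1 X Y) : ∃ ρ : F ≃+* F, Y.trace = ρ X.trace := by
  obtain ⟨A, B, ρ, hAB, hY⟩ := h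
  refine ⟨ρ, ?_⟩
  rw [hY, H251.Small.trace_conj hAB, Matrix.trace, Matrix.trace, map_sum]
  rfl

theorem Rel1.pow_eq_one {x y : SU 4 F 3} (h : Rel1 (mat x) (mat y)) (k : ℕ) : y ^ k = 1 ↔ x ^ k = 1 := by
  have h1 := (h.pow k).sub_one
  rw [← mat_pow', ← mat_pow'] at h1
  constructor
  · intro h0
    apply mat_injective
    exact sub_eq_zero.1 (h1.zero (by rw [h0, mat_one, sub_self]))
  · intro h0
    apply mat_injective
    exact sub_eq_zero.1 (h1.zero' (by rw [h0, mat_one, sub_self]))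

end rel

section lift

variable (hF : Fintype.card F = 3 ^ 2)

/-- scalar elements -/
theorem exists_scalar {c : F} (hc : c ^ 4 = 1) : ∃ z : SU 4 F 3, mat z = c • 1 ∧ pr 4 F 3 z = 1 := by
  have hd : ∏ i, (fun _ : Fin 4 => c) i = 1 := by simp [hc]
  refine ⟨suDiag 3 (fun _ => c) hd (fun _ => hc), ?_, ?_⟩
  · rw [mat_suDiag, ← Matrix.smul_one_eq_diagonal]
  · rw [pr_eq_one_iff, Subgroup.mem_center_iff]
    intro g
    apply mat_injective
    rw [mat_mul, mat_mul, mat_suDiag, ← Matrix.smul_one_eq_diagonal, Matrix.mul_smul, Matrix.smul_mul, Matrix.mul_one,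
      Matrix.one_mul]

include hF in
/-- lifts -/
theorem exists_lift (x : SU 4 F 3) (φ : PSU 4 F 3 ≃* PSU 4 F 3) :
    ∃ y : SU 4 F 3, pr 4 F 3 y = φ (pr 4 F 3 x) ∧ Rel1 (mat x) (mat y) := by
  obtain ⟨y, hy⟩ := pr_surjective (φ (pr 4 F 3 x))
  obtain ⟨A, B, ρ, c, hAB, h4, -, hY⟩ := aut_mat hF (by norm_num) (by norm_num) φ hy.symm
  have hc0 : c ≠ 0 := by
    rintro rfl
    norm_num at h4
  obtain ⟨z, hz, hz1⟩ := exists_scalar (c := c⁻¹) (by rw [inv_pow, h4, inv_one])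
  refine ⟨z * y, by rw [map_mul, hz1, one_mul, hy], A, B, ρ, hAB, ?_⟩
  rw [mat_mul, hz, hY, Matrix.smul_mul, Matrix.one_mul, smul_smul, inv_mul_cancel₀ hc0, one_smul]

include hF in
theorem miss1 {M : Subgroup (PSU 4 F 3)} {x : SU 4 F 3}
    (h : ∀ y : SU 4 F 3, Rel1 (mat x) (mat y) → pr 4 F 3 y ∉ M) : ∀ φ : PSU 4 F 3 ≃* PSU 4 F 3, φ (pr 4 F 3 x) ∉ M := by
  intro φ hφ
  obtain ⟨y, hy, hr⟩ := exists_lift hF x φ
  rw [← hy] at hφ
  exact h y hr hφ

include hF in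
theorem pr_ne_one {x : SU 4 F 3} {i j : Fin 4} (hij : i ≠ j) (h : mat x i j ≠ 0) : pr 4 F 3 x ≠ 1 := by
  intro h1
  obtain ⟨c, -, -, h4⟩ := mat_pr hF (by norm_num) ((map_one (pr 4 F 3)).trans h1.symm)
  rw [mat_one] at h4
  apply h
  rw [h4]
  simp [hij]

include hF in
theorem pr_ne_one' {x : SU 4 F 3} {i j : Fin 4} (h : mat x i i ≠ mat x j j) : pr 4 F 3 x ≠ 1 := by
  intro h1
  obtain ⟨c, -, -, h4⟩ := mat_pr hF (by norm_num) ((map_one (pr 4 F 3)).trans h1.symm)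
  rw [mat_one] at h4
  apply h
  rw [h4]
  simp

end lift

def TV (z : F) : Matrix (Fin 4) (Fin 4) F := !![-z - 1, -z, 0, 0; -z - 1, z, 0, 0; 0, 0, 1, 0; 0, 0, 0, 1]

def Y22 (z : F) : Matrix (Fin 4) (Fin 4) F :=
  !![-z - 1, -z, 0, 0; -z - 1, z, 0, 0; 0, 0, -z - 1, -z; 0, 0, -z - 1, z]

def RR (z : F) : Matrix (Fin 4) (Fin 4) F := !![0, 1, 0, 0; z - 1, 0, 0, 0; 0, 0, 1, 0; 0, 0, 0, z - 1]

def P31 (F : Type) [Field F] : Matrix (Fin 4) (Fin 4) F := !![0, 0, 1, 0; 1, 0, 0, 0; 0, 1, 0, 0; 0, 0, 0, 1]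

def B4 (F : Type) [Field F] : Matrix (Fin 4) (Fin 4) F := !![0, 0, 0, -1; 1, 0, 0, 0; 0, 1, 0, 0; 0, 0, 1, 0]

/-- the elements -/
structure El (F : Type) [Field F] [Fintype F] where
  z : F
  zz : z * z = 1 - z
  three : (3 : F) = 0
  t : SU 4 F 3
  y : SU 4 F 3
  r : SU 4 F 3
  p : SU 4 F 3
  b : SU 4 F 3
  mt : mat t = TV z
  my : mat y = Y22 z
  mr : mat r = RR z
  mp : mat p = P31 F
  mb : mat b = B4 F

theorem three0 (hF : Fintype.card F = 3 ^ 2) : (3 : F) = 0 := by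
  have h9 : (9 : F) = 0 := by
    have := FiniteField.cast_card_eq_zero F
    rw [hF] at this
    exact_mod_cast this
  have : (3 : F) * 3 = 0 := by rw [← h9]; norm_num
  rcases mul_eq_zero.1 this with h | h <;> exact h

theorem exists_El (hF : Fintype.card F = 3 ^ 2) : Nonempty (El F) := by
  have h3 := three0 hF
  obtain ⟨i, hi⟩ : ∃ i : F, i * i = -1 := by
    have := (FiniteField.isSquare_neg_one_iff (F := F)).2 (by rw [hF]; norm_num)
    obtain ⟨r, hr⟩ := this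
    exact ⟨r, hr.symm⟩
  obtain ⟨z, hz⟩ : ∃ z : F, z * z = 1 - z := ⟨1 - i, by linear_combination hi - i * h3⟩
  have hc : conj hF z = -z - 1 := by
    rw [conj_apply, pow_succ, pow_two, hz]
    linear_combination -hz + z * h3
  have key : ∀ X : Matrix (Fin 4) (Fin 4) F, ∀ hd : X.det = 1, ∀ hX : Xᵀ * X.map (conj hF) = 1, ∃ x : SU 4 F 3, mat x = X :=
    fun X hd hX => ⟨mkSU X hd (herm_of_mul hF hX), mat_mkSU _ _ _⟩
  obtain ⟨t, ht⟩ := key (TV z) (by
    rw [TV]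
    simp [Matrix.det_succ_row_zero, Fin.sum_univ_succ, Fin.succAbove]
    grind) (by
    ext a b
    fin_cases a <;> fin_cases b <;> simp [TV, Matrix.mul_apply, Fin.sum_univ_four, hc] <;> grind)
  obtain ⟨y, hy⟩ := key (Y22 z) (by
    rw [Y22]
    simp [Matrix.det_succ_row_zero, Fin.sum_univ_succ, Fin.succAbove]
    grind) (by
    ext a b
    fin_cases a <;> fin_cases b <;> simp [Y22, Matrix.mul_apply, Fin.sum_univ_four, hc] <;> grind)
  obtain ⟨r, hr⟩ := key (RR z) (by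
    rw [RR]
    simp [Matrix.det_succ_row_zero, Fin.sum_univ_succ, Fin.succAbove]
    grind) (by
    ext a b
    fin_cases a <;> fin_cases b <;> simp [RR, Matrix.mul_apply, Fin.sum_univ_four, hc] <;> grind)
  obtain ⟨p, hp⟩ := key (P31 F) (by
    rw [P31]
    simp [Matrix.det_succ_row_zero, Fin.sum_univ_succ, Fin.succAbove]) (by
    ext a b
    fin_cases a <;> fin_cases b <;> simp [P31, Matrix.mul_apply, Fin.sum_univ_four])
  obtain ⟨b, hb⟩ := key (B4 F) (by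
    rw [B4]
    simp [Matrix.det_succ_row_zero, Fin.sum_univ_succ, Fin.succAbove]
    norm_num) (by
    ext a b
    fin_cases a <;> fin_cases b <;> simp [B4, Matrix.mul_apply, Fin.sum_univ_four])
  exact ⟨⟨z, hz, h3, t, y, r, p, b, ht, hy, hr, hp, hb⟩⟩

section orders

variable (E : El F) (hF : Fintype.card F = 3 ^ 2)

theorem El.z0 : E.z ≠ 0 := by
  intro h
  have := E.zz
  rw [h] at this
  norm_num at this

theorem El.mr2 : mat (E.r ^ 2) = diagonal ![E.z - 1, E.z - 1, 1, -1] := by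
  have h1 := E.zz
  have h3 := E.three
  rw [pow_two, mat_mul, E.mr]
  ext a b
  fin_cases a <;> fin_cases b <;> simp [RR, Matrix.mul_apply, Fin.sum_univ_four] <;> grind

theorem El.mr4 : mat (E.r ^ 4) = diagonal ![-1, -1, 1, 1] := by
  have h1 := E.zz
  have h3 := E.three
  rw [show E.r ^ 4 = E.r ^ 2 * E.r ^ 2 by rw [← pow_add], mat_mul, E.mr2, Matrix.diagonal_mul_diagonal]
  congr 1
  funext i
  fin_cases i <;> simp <;> grind

theorem El.r8 : E.r ^ 8 = 1 := by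
  apply mat_injective
  rw [show E.r ^ 8 = E.r ^ 4 * E.r ^ 4 by rw [← pow_add], mat_mul, E.mr4, Matrix.diagonal_mul_diagonal, mat_one,
    ← Matrix.diagonal_one]
  congr 1
  funext i
  fin_cases i <;> simp

theorem El.t3 : E.t ^ 3 = 1 := by
  have h1 := E.zz
  have h3 := E.three
  apply mat_injective
  have h2 : TV E.z * TV E.z = !![E.z, E.z, 0, 0; E.z + 1, -E.z - 1, 0, 0; 0, 0, 1, 0; 0, 0, 0, 1] := by
    ext a b
    fin_cases a <;> fin_cases b <;> simp [TV, Matrix.mul_apply, Fin.sum_univ_four] <;> grind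
  rw [pow_succ, pow_two, mat_mul, mat_mul, E.mt, h2, mat_one]
  ext a b
  fin_cases a <;> fin_cases b <;> simp [TV, Matrix.mul_apply, Fin.sum_univ_four] <;> grind

theorem El.y3 : E.y ^ 3 = 1 := by
  have h1 := E.zz
  have h3 := E.three
  apply mat_injective
  have h2 : Y22 E.z * Y22 E.z = !![E.z, E.z, 0, 0; E.z + 1, -E.z - 1, 0, 0; 0, 0, E.z, E.z; 0, 0, E.z + 1, -E.z - 1] := by
    ext a b
    fin_cases a <;> fin_cases b <;> simp [Y22, Matrix.mul_apply, Fin.sum_univ_four] <;> grind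
  rw [pow_succ, pow_two, mat_mul, mat_mul, E.my, h2, mat_one]
  ext a b
  fin_cases a <;> fin_cases b <;> simp [Y22, Matrix.mul_apply, Fin.sum_univ_four] <;> grind

theorem P31_sq : P31 F * P31 F = !![0, 1, 0, 0; 0, 0, 1, 0; 1, 0, 0, 0; 0, 0, 0, 1] := by
  ext a b
  fin_cases a <;> fin_cases b <;> simp [P31, Matrix.mul_apply, Fin.sum_univ_four]

theorem El.p3 : E.p ^ 3 = 1 := by
  apply mat_injective
  rw [pow_succ, pow_two, mat_mul, mat_mul, E.mp, P31_sq, mat_one]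
  ext a b
  fin_cases a <;> fin_cases b <;> simp [P31, Matrix.mul_apply, Fin.sum_univ_four]

theorem El.mb2 : mat (E.b ^ 2) = !![0, 0, -1, 0; 0, 0, 0, -1; 1, 0, 0, 0; 0, 1, 0, 0] := by
  rw [pow_two, mat_mul, E.mb]
  ext a b
  fin_cases a <;> fin_cases b <;> simp [B4, Matrix.mul_apply, Fin.sum_univ_four]

theorem El.mb4 : mat (E.b ^ 4) = (-1 : F) • (1 : Matrix (Fin 4) (Fin 4) F) := by
  rw [show E.b ^ 4 = E.b ^ 2 * E.b ^ 2 by rw [← pow_add], mat_mul, E.mb2]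
  ext a b
  fin_cases a <;> fin_cases b <;> simp [Matrix.mul_apply, Fin.sum_univ_four]

theorem comm_of_mat {x y : SU 4 F 3} (h : mat x * mat y = mat y * mat x) : Commute x y := by
  apply mat_injective
  rw [mat_mul, mat_mul, h]

theorem El.ctr2 : Commute E.t (E.r ^ 2) := by
  apply comm_of_mat
  rw [E.mt, E.mr2]
  ext a b
  rw [Matrix.mul_diagonal, Matrix.diagonal_mul]
  fin_cases a <;> fin_cases b <;> simp [TV, mul_comm]

theorem El.ctr4 : Commute E.t (E.r ^ 4) := by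
  apply comm_of_mat
  rw [E.mt, E.mr4]
  ext a b
  rw [Matrix.mul_diagonal, Matrix.diagonal_mul]
  fin_cases a <;> fin_cases b <;> simp [TV, mul_comm]

theorem El.cyr4 : Commute E.y (E.r ^ 4) := by
  apply comm_of_mat
  rw [E.my, E.mr4]
  ext a b
  rw [Matrix.mul_diagonal, Matrix.diagonal_mul]
  fin_cases a <;> fin_cases b <;> simp [Y22, mul_comm]

include hF in
theorem El.ot : orderOf (pr 4 F 3 E.t) = 3 := by
  have := Fact.mk Nat.prime_three
  refine orderOf_eq_prime (by rw [← map_pow, E.t3, map_one]) (pr_ne_one hF (i := 0) (j := 1) (by decide) ?_)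
  rw [E.mt]
  simp [TV, E.z0]

include hF in
theorem El.oy : orderOf (pr 4 F 3 E.y) = 3 := by
  have := Fact.mk Nat.prime_three
  refine orderOf_eq_prime (by rw [← map_pow, E.y3, map_one]) (pr_ne_one hF (i := 0) (j := 1) (by decide) ?_)
  rw [E.my]
  simp [Y22, E.z0]

include hF in
theorem El.op : orderOf (pr 4 F 3 E.p) = 3 := by
  have := Fact.mk Nat.prime_three
  refine orderOf_eq_prime (by rw [← map_pow, E.p3, map_one]) (pr_ne_one hF (i := 0) (j := 2) (by decide) ?_)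
  rw [E.mp]
  simp [P31]

theorem two0 (h3 : (3 : F) = 0) : (2 : F) ≠ 0 := by
  intro h
  exact one_ne_zero (α := F) (by linear_combination h3 - h)

include hF in
theorem El.or : orderOf (pr 4 F 3 E.r) = 8 := by
  have := Fact.mk Nat.prime_two
  refine orderOf_eq_prime_pow (p := 2) (n := 2) ?_ ?_
  · rw [← map_pow]
    refine pr_ne_one' hF (i := 0) (j := 2) ?_
    change mat (E.r ^ 4) 0 0 ≠ mat (E.r ^ 4) 2 2
    rw [E.mr4]
    simp
    intro h
    exact two0 E.three (by linear_combination -h)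
  · rw [← map_pow]
    change pr 4 F 3 (E.r ^ 8) = 1
    rw [E.r8, map_one]

include hF in
theorem El.or2 : orderOf (pr 4 F 3 (E.r ^ 2)) = 4 := by
  rw [map_pow, orderOf_pow' _ (by norm_num), E.or hF]
  rfl

include hF in
theorem El.or4 : orderOf (pr 4 F 3 (E.r ^ 4)) = 2 := by
  rw [map_pow, orderOf_pow' _ (by norm_num), E.or hF]
  rfl

include hF in
theorem El.ob : orderOf (pr 4 F 3 E.b) = 4 := by
  have := Fact.mk Nat.prime_two
  refine orderOf_eq_prime_pow (p := 2) (n := 1) ?_ ?_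
  · rw [← map_pow]
    refine pr_ne_one hF (i := 2) (j := 0) (by decide) ?_
    change mat (E.b ^ 2) 2 0 ≠ 0
    rw [E.mb2]
    simp
  · obtain ⟨c, hc, hc1⟩ := exists_scalar (F := F) (c := -1) (by norm_num)
    rw [← map_pow]
    change pr 4 F 3 (E.b ^ 4) = 1
    rw [← hc1]
    congr 1
    apply mat_injective
    rw [E.mb4, hc]

include hF in
theorem El.otr2 : orderOf (pr 4 F 3 (E.t * E.r ^ 2)) = 12 := by
  rw [map_mul, (E.ctr2.map (pr 4 F 3)).orderOf_mul_eq_mul_orderOf_of_coprime (by rw [E.ot hF, E.or2 hF]; norm_num),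
    E.ot hF, E.or2 hF]

include hF in
theorem El.otr4 : orderOf (pr 4 F 3 (E.t * E.r ^ 4)) = 6 := by
  rw [map_mul, (E.ctr4.map (pr 4 F 3)).orderOf_mul_eq_mul_orderOf_of_coprime (by rw [E.ot hF, E.or4 hF]; norm_num),
    E.ot hF, E.or4 hF]

include hF in
theorem El.oyr4 : orderOf (pr 4 F 3 (E.y * E.r ^ 4)) = 6 := by
  rw [map_mul, (E.cyr4.map (pr 4 F 3)).orderOf_mul_eq_mul_orderOf_of_coprime (by rw [E.oy hF, E.or4 hF]; norm_num),
    E.oy hF, E.or4 hF]

theorem El.r16 : E.r ^ 16 = 1 := by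
  rw [show E.r ^ 16 = (E.r ^ 8) ^ 2 by rw [← pow_mul], E.r8, one_pow]

include hF in
/-- if `t` is missing -/
theorem three_t {R : Subgroup (PSU 4 F 3)} (h : ∀ φ : PSU 4 F 3 ≃* PSU 4 F 3, φ (pr 4 F 3 E.t) ∉ R) :
    Three (PSU 4 F 3) R := by
  refine three_of_ne h (miss_of_pow (y := pr 4 F 3 (E.t * E.r ^ 4)) h (k := 4) ?_)
    (miss_of_pow (y := pr 4 F 3 (E.t * E.r ^ 2)) h (k := 4) ?_) ?_ ?_ ?_
  · rw [← map_pow, E.ctr4.mul_pow, show (E.r ^ 4) ^ 4 = E.r ^ 16 by rw [← pow_mul], E.r16, mul_one,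
      show E.t ^ 4 = E.t ^ 3 * E.t by rw [← pow_succ], E.t3, one_mul]
  · rw [← map_pow, E.ctr2.mul_pow, show (E.r ^ 2) ^ 4 = E.r ^ 8 by rw [← pow_mul], E.r8, mul_one,
      show E.t ^ 4 = E.t ^ 3 * E.t by rw [← pow_succ], E.t3, one_mul]
  all_goals simp only [E.ot hF, E.otr4 hF, E.otr2 hF]; norm_num

include hF in
/-- if `r ^ 2` is missing -/
theorem three_r2 {R : Subgroup (PSU 4 F 3)} (h : ∀ φ : PSU 4 F 3 ≃* PSU 4 F 3, φ (pr 4 F 3 (E.r ^ 2)) ∉ R) :
    Three (PSU 4 F 3) R := by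
  refine three_of_ne h (miss_of_pow (y := pr 4 F 3 (E.t * E.r ^ 2)) h (k := 9) ?_)
    (miss_of_pow (y := pr 4 F 3 E.r) h (k := 2) ?_) ?_ ?_ ?_
  · rw [← map_pow, E.ctr2.mul_pow, show (E.r ^ 2) ^ 9 = E.r ^ 16 * E.r ^ 2 by rw [← pow_mul, ← pow_add], E.r16, one_mul,
      show E.t ^ 9 = (E.t ^ 3) ^ 3 by rw [← pow_mul], E.t3, one_pow, one_mul]
  · rw [← map_pow]
  all_goals simp only [E.or2 hF, E.otr2 hF, E.or hF]; norm_num

end orders

end Cfsg.Agent.H44.Der.U43
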