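import Cfsg.Agent.H44.Der.U43a
import Cfsg.Agent.H251.Der.U43

/-!
# `U₄(3)`: geometric maximal subgroups (helper44)
-/

set_option autoImplicit false
set_option linter.unusedSectionVars false
set_option linter.unusedSimpArgs false

namespace Cfsg.Agent.H44.Der.U43

open Subgroup Cfsg Cfsg.Geo Matrix Module Cfsg.Agent.H251.Small Cfsg.Agent.H439.Der Cfsg.Agent.H938.Sax
open Cfsg.Agent.LieClassical.HermSiegel Cfsg.Agent.LieClassical.SUBasic Cfsg.Agent.LieClassical.HermBasic
open Cfsg.Agent.ClassicalGeometry.PSUAutBasic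
open Cfsg.Agent.H251.GeoU (pre)

variable {F : Type} [Field F] [Fintype F]

section types

variable (E : El F) (hF : Fintype.card F = 3 ^ 2)

include hF in
theorem fin_u43 : Finite (PSU 4 F 3) := by
  have hcard := H844.USeven.card_psu (F := F) (by rw [hF]; norm_num)
  exact Nat.finite_of_card_ne_zero (by rw [hcard]; norm_num)

include hF in
theorem exists_prime_el {p : ℕ} (hp : p.Prime) (h : p ∣ 3265920) : ∃ x : PSU 4 F 3, orderOf x = p := by
  have hcard := H844.USeven.card_psu (F := F) (by rw [hF]; norm_num)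
  have := fin_u43 hF
  have := Fact.mk hp
  exact exists_prime_orderOf_dvd_card' p (by rw [hcard]; exact h)

include E hF in
/-- isotropic 2-spaces -/
theorem three_iso {M : Subgroup (PSU 4 F 3)} {W : Submodule F (Fin 4 → F)}
    (hW : IsTotallySingularFor (hermForm 4 F 3) W) (h2 : finrank F W = 2) {K : Subgroup (GL (Fin 4) F)}
    (hM : pre M = subspaceStabilizer W ⊓ K) : Three (PSU 4 F 3) M := by
  have h1 := E.zz
  have h3 := E.three
  apply three_r2 E hF
  intro φ
  refine miss hF (by norm_num) (by norm_num) ?_ φ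
  rw [hM]
  have hne1 : (1 : F) ≠ -1 := by
    intro h
    exact two0 h3 (by linear_combination h)
  have hz0 := E.z0
  have hz1 : E.z - 1 ≠ 1 := by
    intro h
    have h2 : E.z = 2 := by linear_combination h
    rw [h2] at h1
    apply one_ne_zero (α := F)
    linear_combination -h1 + 2 * h3
  have hz2 : E.z - 1 ≠ -1 := by
    intro h
    exact hz0 (by linear_combination h)
  refine miss_diag_iso (K := K) hF (a := ![E.z - 1, E.z - 1, 1, -1]) ?_ E.mr2 (J := {2, 3}) ?_ hW (by rw [h2]; simp)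
  · intro i
    fin_cases i <;> simp <;> grind
  · intro j hj i hij
    rw [Finset.mem_insert, Finset.mem_singleton] at hj
    rcases hj with rfl | rfl
    · fin_cases i
      · simpa using hz1
      · simpa using hz1
      · exact absurd rfl hij
      · simpa using hne1.symm
    · fin_cases i
      · simpa using hz2
      · simpa using hz2
      · simpa using hne1
      · exact absurd rfl hij

theorem ord_neg5 : orderOf (-((3 : ℕ) : ZMod 5)) = 4 := by
  have := Fact.mk Nat.prime_two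
  exact orderOf_eq_prime_pow (p := 2) (n := 1) (by decide) (by decide)

theorem ord_neg7 : orderOf (-((3 : ℕ) : ZMod 7)) = 3 := by
  have := Fact.mk Nat.prime_three
  exact orderOf_eq_prime (by decide) (by decide)

/-- elements with `Rel1` to `y` -/
theorem exists_of_rel {z : F} (hz : z * z = 1 - z) (h3 : (3 : F) = 0) {x : SU 4 F 3} (h : Rel1 (Y22 z) (mat x))
    {e : Fin 4 → F} (hc : act x e = e) : ∃ v, act x v - v = e := by
  obtain ⟨A, B, ρ, hAB, hY⟩ := h
  have hBA : B * A = 1 := _root_.mul_eq_one_comm.1 hAB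
  set w := ρ z with hw
  have hww : w * w = 1 - w := by
    rw [hw, ← map_mul, hz, map_sub, map_one]
  have hP : (Y22 z).map ρ = Y22 w := by
    ext i j
    fin_cases i <;> fin_cases j <;> simp [Y22, hw]
  rw [hP] at hY
  have hw0 : w ≠ 0 := by
    intro h
    rw [h] at hww
    norm_num at hww
  set v := B *ᵥ e with hv
  have h4 : Y22 w *ᵥ v = v := by
    rw [act_def, hY] at hc
    calc Y22 w *ᵥ v = (B * (A * Y22 w * B)) *ᵥ e := by
          rw [← Matrix.mul_assoc, ← Matrix.mul_assoc, hBA, Matrix.one_mul, hv, Matrix.mulVec_mulVec]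
      _ = v := by rw [← Matrix.mulVec_mulVec, hc]
  have h01 : v 1 = w * v 0 := by
    have := congrFun h4 1
    simp [Y22, Matrix.mulVec, dotProduct, Fin.sum_univ_four] at this
    grind
  have h23 : v 3 = w * v 2 := by
    have := congrFun h4 3
    simp [Y22, Matrix.mulVec, dotProduct, Fin.sum_univ_four] at this
    grind
  refine ⟨A *ᵥ ![(w - 1) * v 0, 0, (w - 1) * v 2, 0], ?_⟩
  have h4 : Y22 w *ᵥ ![(w - 1) * v 0, 0, (w - 1) * v 2, 0] - ![(w - 1) * v 0, 0, (w - 1) * v 2, 0] = v := by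
    funext i
    fin_cases i
    · simp [Y22, Matrix.mulVec, dotProduct, Fin.sum_univ_four]
      grind
    · simp [Y22, Matrix.mulVec, dotProduct, Fin.sum_univ_four, h01]
      grind
    · simp [Y22, Matrix.mulVec, dotProduct, Fin.sum_univ_four]
      grind
    · simp [Y22, Matrix.mulVec, dotProduct, Fin.sum_univ_four, h23]
      grind
  have h5 : act x (A *ᵥ ![(w - 1) * v 0, 0, (w - 1) * v 2, 0]) = A *ᵥ (Y22 w *ᵥ ![(w - 1) * v 0, 0, (w - 1) * v 2, 0]) := by
    rw [act_def, hY, Matrix.mulVec_mulVec, Matrix.mulVec_mulVec]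
    congr 1
    rw [Matrix.mul_assoc, Matrix.mul_assoc, hBA, Matrix.mul_one]
  rw [h5, ← Matrix.mulVec_sub, h4, hv, Matrix.mulVec_mulVec, hAB, Matrix.one_mulVec]

include E hF in
/-- nonisotropic points -/
theorem three_point {M : Subgroup (PSU 4 F 3)} {W : Submodule F (Fin 4 → F)}
    (hW : IsNondegenerateOn (hermForm 4 F 3) W) (h2 : finrank F W = 1)
    (hM : pre M = subspaceStabilizer W ⊓ (Cfsg.GU 4 F 3 ⊓ specialLinear (Fin 4) F)) : Three (PSU 4 F 3) M := by
  obtain ⟨x5, hx5⟩ := exists_prime_el hF (p := 5) (by norm_num) (by norm_num)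
  have h5 : ¬ 5 ∣ Nat.card M := by
    intro h
    refine H251.GeoU.kill_point hF (s := 5) (by norm_num) ord_neg5 (by decide) le_rfl h2 ?_
    refine h.trans ((H251.GeoU.card_dvd_pre M).trans ?_)
    rw [hM]
    exact Subgroup.card_dvd_of_le (inf_le_inf_left _ inf_le_left)
  have hy : ∀ φ : PSU 4 F 3 ≃* PSU 4 F 3, φ (pr 4 F 3 E.y) ∉ M := by
    refine miss1 hF fun x hx hm => ?_
    have hm' := mem_pre hm
    rw [hM] at hm'
    have hst := act_of_stab hm'
    obtain ⟨⟨e, heW⟩, he0, he1⟩ := finrank_eq_one_iff'.1 h2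
    have he0' : e ≠ 0 := fun h => he0 (Subtype.ext h)
    have hspan : ∀ x ∈ W, ∃ c : F, x = c • e := by
      intro x hx
      obtain ⟨c, hc⟩ := he1 ⟨x, hx⟩
      exact ⟨c, (congrArg Subtype.val hc).symm⟩
    have hee : hermForm 4 F 3 e e ≠ 0 := by
      intro h0
      obtain ⟨⟨x, hx, hx'⟩, -⟩ := hW e heW he0'
      obtain ⟨c, rfl⟩ := hspan x hx
      rw [herm_smul_left, h0, mul_zero] at hx'
      exact hx' rfl
    obtain ⟨c, hc⟩ := hspan _ (hst e heW)
    have hx3 : x ^ 3 = 1 := (hx.pow_eq_one 3).2 E.y3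
    have hc3 : c ^ 3 = 1 := by
      have h3 : act (x ^ 3) e = (c ^ 3) • e := by
        rw [pow_succ, pow_two, act_mul, act_mul, hc, act_smul, act_smul, hc, act_smul, hc, smul_smul, smul_smul]
        congr 1
        ring
      rw [hx3, act_one] at h3
      have h4 : (c ^ 3 - 1) • e = 0 := by rw [sub_smul, ← h3, one_smul, sub_self]
      exact sub_eq_zero.1 ((smul_eq_zero.1 h4).resolve_right he0')
    have hc1 : c = 1 := by
      have h3 := E.three
      have : (c - 1) ^ 3 = 0 := by linear_combination hc3 + (c - c ^ 2) * h3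
      exact sub_eq_zero.1 (pow_eq_zero_iff (by norm_num) |>.1 this)
    rw [hc1, one_smul] at hc
    rw [E.my] at hx
    obtain ⟨v, hv⟩ := exists_of_rel E.zz E.three hx hc
    apply hee
    have h5 := herm_act x v e
    rw [hc] at h5
    have h6 : hermForm 4 F 3 (act x v - v) e = hermForm 4 F 3 e e := by rw [hv]
    rw [← h6, herm_sub_left, h5, sub_self]
  refine three_of_ne (not_mem_of_card h5 (x := x5) (by rw [hx5])) hy
    (miss_of_pow (y := pr 4 F 3 (E.y * E.r ^ 4)) hy (k := 4) ?_) ?_ ?_ ?_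
  · rw [← map_pow, E.cyr4.mul_pow, show (E.r ^ 4) ^ 4 = E.r ^ 16 by rw [← pow_mul], E.r16, mul_one,
      show E.y ^ 4 = E.y ^ 3 * E.y by rw [← pow_succ], E.y3, one_mul]
  all_goals simp only [hx5, E.oy hF, E.oyr4 hF]; norm_num

include hF in
/-- lifts of elements of order 9 -/
theorem exists_lift9 {x : PSU 4 F 3} (hx : x ^ 9 = 1) : ∃ y : SU 4 F 3, pr 4 F 3 y = x ∧ y ^ 9 = 1 := by
  obtain ⟨y, rfl⟩ := pr_surjective x
  rw [← map_pow] at hx
  obtain ⟨c, h4, -, h1⟩ := mat_pr hF (by norm_num) ((map_one (pr 4 F 3)).trans hx.symm)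
  rw [mat_one] at h1
  have hc0 : c ≠ 0 := by
    rintro rfl
    norm_num at h4
  obtain ⟨z, hz, hz1⟩ := exists_scalar (c := c⁻¹) (by rw [inv_pow, h4, inv_one])
  refine ⟨z * y, by rw [map_mul, hz1, one_mul], ?_⟩
  have hzy : Commute z y := by
    apply comm_of_mat
    rw [hz, Matrix.smul_mul, Matrix.mul_smul, Matrix.one_mul, Matrix.mul_one]
  apply mat_injective
  rw [hzy.mul_pow, mat_mul, h1, mat_pow', hz, smul_pow, one_pow, Matrix.smul_mul, Matrix.one_mul, smul_smul, mat_one]
  have : c⁻¹ ^ 9 * c = 1 := by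
    have h8 : c⁻¹ ^ 8 = 1 := by
      rw [show (8 : ℕ) = 4 * 2 from rfl, pow_mul, inv_pow, h4, inv_one, one_pow]
    rw [pow_succ, h8, one_mul, inv_mul_cancel₀ hc0]
  rw [this, one_smul]

/-- nilpotent maps of a plane -/
theorem sq_zero_of_nilp {V : Type*} [AddCommGroup V] [Module F V] {W : Submodule F V} (hW : finrank F W = 2)
    {N : V →ₗ[F] V} (hN : ∀ w ∈ W, N w ∈ W) {k : ℕ} (hk : ∀ w ∈ W, (N ^ k) w = 0) : ∀ w ∈ W, N (N w) = 0 := by
  have : FiniteDimensional F W := FiniteDimensional.of_finrank_pos (by omega)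
  set N' : W →ₗ[F] W := N.restrict hN with hN'
  have h1 : IsNilpotent N' := by
    refine ⟨k, ?_⟩
    ext w
    rw [hN', Module.End.pow_restrict]
    exact hk w w.2
  have h2 := (LinearMap.isNilpotent_iff_charpoly N').1 h1
  have h3 := LinearMap.aeval_self_charpoly N'
  rw [h2, hW, map_pow, Polynomial.aeval_X] at h3
  intro w hw
  have h4 := congrArg (fun f : W →ₗ[F] W => ((f ⟨w, hw⟩ : W) : V)) h3
  simp only [pow_two] at h4
  exact h4

theorem cube_sub_one {n : ℕ} (h3 : (3 : F) = 0) (X : Matrix (Fin n) (Fin n) F) : (X - 1) ^ 3 = X ^ 3 - 1 := by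
  have h1 : (X - 1) ^ 3 = X ^ 3 - 3 • X ^ 2 + 3 • X - 1 := by noncomm_ring
  have h2 : ∀ Y : Matrix (Fin n) (Fin n) F, 3 • Y = 0 := by
    intro Y
    ext i j
    rw [Matrix.smul_apply, nsmul_eq_mul]
    push_cast
    rw [h3, zero_mul]
    rfl
  rw [h1, h2, h2, sub_zero, add_zero]

theorem P31_sub_sq : (P31 F - 1) ^ 2 ≠ 0 := by
  intro h
  have h1 : (P31 F - 1) ^ 2 = P31 F * P31 F - P31 F - P31 F + 1 := by noncomm_ring
  rw [h1, P31_sq] at h
  have h2 := congrFun (congrFun h 0) 1
  simp [P31, Matrix.sub_apply, Matrix.add_apply] at h2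

include hF in
/-- missing classes from a bound for the unipotent elements -/
theorem miss_of_sq {M : Subgroup (PSU 4 F 3)}
    (h : ∀ x : SU 4 F 3, pr 4 F 3 x ∈ M → x ^ 9 = 1 → (mat x - 1) ^ 2 = 0) :
    (∀ φ : PSU 4 F 3 ≃* PSU 4 F 3, φ (pr 4 F 3 E.p) ∉ M) ∧ ∀ m ∈ M, orderOf m ≠ 9 := by
  constructor
  · refine miss1 hF fun x hx hm => ?_
    have h9 : x ^ 9 = 1 := (hx.pow_eq_one 9).2 (by
      rw [show E.p ^ 9 = (E.p ^ 3) ^ 3 by rw [← pow_mul], E.p3, one_pow])
    have h1 := ((hx.sub_one).pow 2).zero (h x hm h9)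
    rw [E.mp] at h1
    exact P31_sub_sq h1
  · intro m hm h9
    obtain ⟨y, rfl, hy⟩ := exists_lift9 hF (x := m) (orderOf_dvd_iff_pow_eq_one.1 (by rw [h9]))
    have h1 := h y hm hy
    have h2 : y ^ 3 = 1 := by
      apply mat_injective
      rw [mat_pow', mat_one, ← sub_eq_zero, ← cube_sub_one E.three, pow_succ, h1, Matrix.zero_mul]
    have h3 : orderOf (pr 4 F 3 y) ∣ 3 := orderOf_dvd_of_pow_eq_one (by rw [← map_pow, h2, map_one])
    rw [h9] at h3
    norm_num at h3

include E hF in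
/-- decompositions into two nondegenerate planes -/
theorem three_decomp {M : Subgroup (PSU 4 F 3)} {D : Fin 2 → Submodule F (Fin 4 → F)}
    (hD : IsNondegenerateMDecomposition (hermForm 4 F 3) 2 D)
    (hM : pre M = decompositionStabilizer D ⊓ (Cfsg.GU 4 F 3 ⊓ specialLinear (Fin 4) F)) : Three (PSU 4 F 3) M := by
  have h3 := E.three
  obtain ⟨x7, hx7⟩ := exists_prime_el hF (p := 7) (by norm_num) (by norm_num)
  obtain ⟨x9, hx9⟩ := H251.Der.UNine.exists_nine (F := F) (by rw [hF]; norm_num)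
  have h7 : ¬ 7 ∣ Nat.card M := by
    intro h
    refine H251.GeoU.kill_decomp hF (s := 7) (by norm_num) ord_neg7 (by decide) le_rfl le_rfl (by norm_num) hD.decomp ?_
    refine h.trans ((H251.GeoU.card_dvd_pre M).trans ?_)
    rw [hM]
    exact Subgroup.card_dvd_of_le inf_le_left
  have key : ∀ x : SU 4 F 3, pr 4 F 3 x ∈ M → x ^ 9 = 1 → (mat x - 1) ^ 2 = 0 := by
    intro x hx h9
    have h1 := mem_pre hx
    rw [hM] at h1
    obtain ⟨σ, hσ⟩ := h1.1
    have hσ' : ∀ i, ∀ v ∈ D i, act x v ∈ D (σ i) := by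
      intro i v hv
      rw [← hσ i]
      exact ⟨v, hv, rfl⟩
    have hpow : ∀ (k : ℕ) (i), ∀ v ∈ D i, act (x ^ k) v ∈ D ((σ ^ k) i) := by
      intro k
      induction k with
      | zero =>
        intro i v hv
        rw [pow_zero x, act_one]
        exact hv
      | succ k ih =>
        intro i v hv
        rw [pow_succ' x, act_mul, pow_succ' σ]
        exact hσ' _ _ (ih i v hv)
    have hσ1 : σ = 1 := by
      have hdec : ∀ σ : Equiv.Perm (Fin 2), σ = 1 ∨ (σ ^ 9) 0 = 1 := by decide +kernel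
      rcases hdec σ with h | h
      · exact h
      · exfalso
        have h2 : ∀ v ∈ D 0, v = 0 := by
          intro v hv
          have h3 := hpow 9 0 v hv
          rw [h9, act_one, h] at h3
          have h4 : Disjoint (D 0) (D 1) := hD.decomp.indep.pairwiseDisjoint (by decide)
          exact Submodule.disjoint_def.1 h4 v hv h3
        have h3 : D 0 = ⊥ := (Submodule.eq_bot_iff _).2 h2
        have h4 := hD.decomp.finrank_eq 0
        rw [h3, finrank_bot] at h4
        omega
    have h99 : (mat x - 1) ^ 9 = 0 := by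
      rw [show (9 : ℕ) = 3 * 3 from rfl, pow_mul, cube_sub_one h3, cube_sub_one h3, ← pow_mul, ← mat_pow', h9, mat_one,
        sub_self]
    set N : (Fin 4 → F) →ₗ[F] (Fin 4 → F) := Matrix.toLin' (mat x - 1) with hN
    have hNw : ∀ w, N w = act x w - w := by
      intro w
      rw [hN, Matrix.toLin'_apply, Matrix.sub_mulVec, Matrix.one_mulVec, act_def]
    have hsq : ∀ i, ∀ w ∈ D i, N (N w) = 0 := by
      intro i
      refine sq_zero_of_nilp (hD.decomp.finrank_eq i) (k := 9) ?_ ?_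
      · intro w hw
        rw [hNw]
        have := hσ' i w hw
        rw [hσ1] at this
        exact (D i).sub_mem this hw
      · intro w _
        rw [hN, ← Matrix.toLin'_pow, h99, map_zero, LinearMap.zero_apply]
    have hker : (⊤ : Submodule F (Fin 4 → F)) ≤ LinearMap.ker (N ∘ₗ N) := by
      rw [← hD.decomp.iSup_eq_top]
      exact iSup_le fun i w hw => hsq i w hw
    apply Matrix.ext_of_mulVec_single
    intro i
    rw [Matrix.zero_mulVec, pow_two, ← Matrix.mulVec_mulVec]
    exact hker (x := Pi.single i 1) Submodule.mem_top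
  obtain ⟨hp, h9⟩ := miss_of_sq E hF key
  refine three_of_ne hp (not_mem_of_card h7 (x := x7) (by rw [hx7])) (z := x9) (fun φ hφ => h9 _ hφ ?_) ?_ ?_ ?_
  · rw [orderOf_mulEquiv, hx9]
  all_goals simp only [hx7, hx9, E.op hF]; norm_num

end types

end Cfsg.Agent.H44.Der.U43
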