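import Cfsg.Agent.H44.Der.U43b
import Cfsg.Agent.H44.Der.Para

/-!
# `U₄(3)`: the stabilizer of an isotropic point (helper44)
-/

set_option autoImplicit false
set_option linter.unusedSectionVars false
set_option linter.unusedSimpArgs false

namespace Cfsg.Agent.H44.Der.U43

open Subgroup Cfsg Cfsg.Geo Matrix Module Cfsg.Agent.H251.Small Cfsg.Agent.H439.Der Cfsg.Agent.H938.Sax
open Cfsg.Agent.LieClassical.HermSiegel Cfsg.Agent.LieClassical.SUBasic Cfsg.Agent.LieClassical.HermBasic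
open Cfsg.Agent.ClassicalGeometry.PSUAutBasic
open Cfsg.Agent.H372 (herm_of_mul)
open Cfsg.Agent.H251.GeoU (pre)
open Cfsg.Agent.H44.Der.Para

variable {F : Type} [Field F] [Fintype F]

section siegel

variable (hF : Fintype.card F = 3 ^ 2) (E : El F)

theorem El.zeta : E.z ^ (3 + 1) = -1 := by
  have h1 := E.zz
  have h3 := E.three
  grind

include hF in
theorem card_SU2 : Nat.card (SU 2 F 3) = 24 := by
  have h := Cfsg.Agent.S0278.result hF 2 (by norm_num)
  simp only [Finset.prod_range_succ, Finset.prod_range_zero] at h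
  norm_num [Nat.even_iff] at h
  omega

theorem siegel_three {w : Fin 4 → F} {μ : F} (h : IsSiegel 3 (u0 E.z) w μ) :
    siegel hF (u0 E.z) w μ h ^ 3 = 1 := by
  have h3 := E.three
  rw [pow_succ, pow_two, siegel_mul, siegel_mul]
  have h0 : IsSiegel 3 (u0 E.z) 0 (0 : F) := IsSiegel.zero hF h.iso
  rw [siegel_congr hF _ h0 rfl ?_ ?_, siegel_zero]
  · funext i
    simp only [Pi.add_apply, Pi.zero_apply]
    linear_combination w i * h3
  · rw [herm_add_right hF]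
    linear_combination (μ - hermForm 4 F 3 w w) * h3

theorem mem_N_three {g : SU 4 F 3} (hg : g ∈ par 3 E.z) (hl : lam E.z g = 1) (ht : th g = 1)
    (hF : Fintype.card F = 3 ^ 2) : g ^ 3 = 1 := by
  have h1 := act_u0 hg
  rw [hl, one_smul] at h1
  obtain ⟨a, b, μ, h, rfl⟩ := exists_siegel hF E.zeta h1 ht
  exact siegel_three hF E h

include hF in
theorem par_data (R : Subgroup (par 3 E.z)) : ∃ N : Subgroup (par 3 E.z),
    (∀ g : par 3 E.z, g ∈ N ↔ g ∈ R ∧ lam E.z (g : SU 4 F 3) = 1 ∧ th (g : SU 4 F 3) = 1) ∧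
      Nat.card R = Nat.card (R.map (lamHom 3 E.z)) *
        (Nat.card ((R.subgroupOf (lamHom 3 E.z).ker).map (thHom hF E.zeta)) * Nat.card N) ∧
      (∃ k, Nat.card N = 3 ^ k) ∧ Nat.card (R.map (lamHom 3 E.z)) ∣ 8 ∧
      Nat.card ((R.subgroupOf (lamHom 3 E.z).ker).map (thHom hF E.zeta)) ∣ 24 := by
  obtain ⟨N, hN, hcard⟩ := exists_N hF E.zeta R
  refine ⟨N, hN, hcard, ?_, ?_, ?_⟩
  · have hp : IsPGroup 3 N := by
      intro g
      refine ⟨1, ?_⟩
      obtain ⟨h1, h2, h3⟩ := (hN g).1 g.2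
      apply Subtype.ext
      apply Subtype.ext
      exact mem_N_three E (g : par 3 E.z).2 h2 h3 hF
    have := Fact.mk Nat.prime_three
    exact IsPGroup.iff_card.1 hp
  · have h1 := Subgroup.card_subgroup_dvd_card (R.map (lamHom 3 E.z))
    rw [Nat.card_units, Nat.card_eq_fintype_card (α := F), hF] at h1
    exact h1
  · have h1 := Subgroup.card_subgroup_dvd_card ((R.subgroupOf (lamHom 3 E.z).ker).map (thHom hF E.zeta))
    rwa [card_SU2 hF] at h1

include hF in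
theorem card_par_dvd (R : Subgroup (par 3 E.z)) : ∃ k, Nat.card R ∣ 192 * 3 ^ k := by
  obtain ⟨N, -, h1, ⟨k, hk⟩, h2, h3⟩ := par_data hF E R
  refine ⟨k, ?_⟩
  rw [h1, hk, ← mul_assoc]
  exact Nat.mul_dvd_mul (Nat.mul_dvd_mul h2 h3) dvd_rfl

include hF in
/-- no elements of order 5 or 7 -/
theorem par_ord {y : SU 4 F 3} (hy : y ∈ par 3 E.z) : orderOf (pr 4 F 3 y) ≠ 5 ∧ orderOf (pr 4 F 3 y) ≠ 7 := by
  obtain ⟨k, hk⟩ := card_par_dvd hF E (⊤ : Subgroup (par 3 E.z))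
  rw [Subgroup.card_top] at hk
  have h0 : orderOf (pr 4 F 3 y) ∣ 192 * 3 ^ k := by
    refine (orderOf_map_dvd (pr 4 F 3) y).trans (dvd_trans ?_ hk)
    rw [← Subgroup.orderOf_mk y hy]
    exact orderOf_dvd_natCard _
  constructor
  · intro h
    rw [h] at h0
    have h1 : Nat.Coprime 5 (3 ^ k) := Nat.Coprime.pow_right k (by norm_num)
    have h2 := h1.dvd_of_dvd_mul_right h0
    norm_num at h2
  · intro h
    rw [h] at h0
    have h1 : Nat.Coprime 7 (3 ^ k) := Nat.Coprime.pow_right k (by norm_num)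
    have h2 := h1.dvd_of_dvd_mul_right h0
    norm_num at h2

end siegel

section sep

theorem not_isConj_of_sep {T : Type*} [Group T] {R : Subgroup T} {a b : T} (h : ∀ χ : T ≃* T, χ a ≠ b)
    {φ ψ : T ≃* T} (ha : φ a ∈ R) (hb : ψ b ∈ R) : ¬ IsConj (⟨φ a, ha⟩ : R) ⟨ψ b, hb⟩ := by
  intro hc
  obtain ⟨g, hg⟩ := isConj_iff.1 hc
  have h1 : (g : T) * φ a * (g : T)⁻¹ = ψ b := congrArg Subtype.val hg
  apply h ((φ.trans (MulAut.conj (g : T))).trans ψ.symm)
  change ψ.symm ((g : T) * φ a * (g : T)⁻¹) = b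
  rw [h1, MulEquiv.symm_apply_apply]

variable (E : El F) (hF : Fintype.card F = 3 ^ 2)

include hF in
theorem exists_c {x y : SU 4 F 3} (h : pr 4 F 3 x = pr 4 F 3 y) : ∃ c : F, c ≠ 0 ∧ mat y = c • mat x := by
  obtain ⟨c, h4, -, h1⟩ := mat_pr hF (by norm_num) h
  refine ⟨c, ?_, h1⟩
  rintro rfl
  norm_num at h4

include E hF in
theorem sep_trace {x y : SU 4 F 3} (hx : (mat x).trace ≠ 0) (hy : (mat y).trace = 0) :
    ∀ χ : PSU 4 F 3 ≃* PSU 4 F 3, χ (pr 4 F 3 x) ≠ pr 4 F 3 y := by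
  intro χ h
  obtain ⟨x', hx', hr⟩ := exists_lift hF x χ
  rw [h] at hx'
  obtain ⟨c, hc0, hc⟩ := exists_c hF hx'
  obtain ⟨ρ, h1⟩ := hr.trace
  rw [hc, Matrix.trace_smul, h1, smul_eq_mul] at hy
  have h2 := (mul_eq_zero.1 hy).resolve_left hc0
  exact hx ((map_eq_zero_iff ρ ρ.injective).1 h2)

theorem El.tr_b : (mat E.b).trace = 0 := by
  rw [E.mb, Matrix.trace, Fin.sum_univ_four]
  simp [B4]

theorem El.zm1 : E.z - 1 ≠ 0 := by
  intro h
  have h1 : E.z = 1 := by linear_combination h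
  have h2 := E.zz
  rw [h1] at h2
  norm_num at h2

theorem El.tr_r2 : (mat (E.r ^ 2)).trace ≠ 0 := by
  rw [E.mr2, Matrix.trace_diagonal, Fin.sum_univ_four]
  simp
  intro h
  have h1 : 2 * (E.z - 1) = 0 := by linear_combination h
  exact E.zm1 ((mul_eq_zero.1 h1).resolve_left (two0 E.three))

theorem El.tr_r6 : (mat (E.r ^ 6)).trace ≠ 0 := by
  rw [show E.r ^ 6 = E.r ^ 4 * E.r ^ 2 by rw [← pow_add], mat_mul, E.mr4, E.mr2, Matrix.diagonal_mul_diagonal,
    Matrix.trace_diagonal, Fin.sum_univ_four]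
  simp
  intro h
  have h1 : 2 * (E.z - 1) = 0 := by linear_combination -h
  exact E.zm1 ((mul_eq_zero.1 h1).resolve_left (two0 E.three))

include E hF in
theorem sep_p {x : SU 4 F 3} (hx : (mat x - 1) ^ 2 = 0) :
    ∀ χ : PSU 4 F 3 ≃* PSU 4 F 3, χ (pr 4 F 3 x) ≠ pr 4 F 3 E.p := by
  intro χ h
  obtain ⟨x', hx', hr⟩ := exists_lift hF x χ
  rw [h] at hx'
  obtain ⟨c, hc0, hc⟩ := exists_c hF hx'
  have h1 := (hr.sub_one.pow 2).zero' hx
  rw [E.mp] at hc
  have h2 : (P31 F - c • (1 : Matrix (Fin 4) (Fin 4) F)) * (P31 F - c • (1 : Matrix (Fin 4) (Fin 4) F)) = 0 := by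
    rw [hc, ← smul_sub, Matrix.smul_mul, Matrix.mul_smul, ← pow_two, h1, smul_zero, smul_zero]
  have h3 : P31 F * P31 F - c • P31 F - c • P31 F + (c * c) • (1 : Matrix (Fin 4) (Fin 4) F) = 0 := by
    rw [← h2, Matrix.sub_mul, Matrix.mul_sub, Matrix.mul_sub, Matrix.smul_mul, Matrix.mul_smul, Matrix.smul_mul,
      Matrix.mul_smul, Matrix.one_mul, Matrix.mul_one, Matrix.one_mul, smul_smul]
    abel
  rw [P31_sq] at h3
  have h4 := congrFun (congrFun h3 0) 1
  simp [P31, Matrix.sub_apply, Matrix.add_apply] at h4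

theorem El.t_sq : (mat E.t - 1) ^ 2 = 0 := by
  have h1 := E.zz
  have h3 := E.three
  rw [E.mt, pow_two]
  have h2 : TV E.z - 1 = !![1 - E.z, -E.z, 0, 0; -E.z - 1, E.z - 1, 0, 0; 0, 0, 0, 0; 0, 0, 0, 0] := by
    ext i j
    fin_cases i <;> fin_cases j <;> simp [TV, Matrix.sub_apply] <;> grind
  rw [h2]
  ext i j
  fin_cases i <;> fin_cases j <;> simp [Matrix.mul_apply, Fin.sum_univ_four] <;> grind

theorem El.tinv_sq : (mat (E.t⁻¹) - 1) ^ 2 = 0 := by
  have h1 : E.t⁻¹ = E.t * E.t := by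
    rw [inv_eq_iff_mul_eq_one, ← pow_two, ← pow_succ', E.t3]
  rw [h1, mat_mul]
  have h2 : (mat E.t * mat E.t - 1) ^ 2 = (mat E.t - 1) ^ 2 * (mat E.t + 1) ^ 2 := by noncomm_ring
  rw [h2, E.t_sq, Matrix.zero_mul]

end sep

section data

variable (E : El F) (hF : Fintype.card F = 3 ^ 2)

theorem El.ii : (1 - E.z) ^ 4 = 1 := by
  have h1 := E.zz
  have h3 := E.three
  grind

theorem El.ii2 : (1 - E.z) ^ 2 = -1 := by
  have h1 := E.zz
  have h3 := E.three
  grind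

include hF in
theorem El.conj_z : conj hF E.z = -E.z - 1 := by
  have h1 := E.zz
  have h3 := E.three
  rw [conj_apply, pow_succ, pow_two, h1]
  linear_combination -h1 + E.z * h3

include hF in
theorem exists_g2 : ∃ g : SU 4 F 3, act g (u0 E.z) = u0 E.z ∧ mat g 2 2 = 0 ∧ mat g 2 3 = -1 ∧
    mat g 3 2 = 1 ∧ mat g 3 3 = 0 := by
  set X : Matrix (Fin 4) (Fin 4) F := !![1, 0, 0, 0; 0, 1, 0, 0; 0, 0, 0, -1; 0, 0, 1, 0] with hX
  have hdet : X.det = 1 := by
    rw [hX]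
    simp [Matrix.det_succ_row_zero, Fin.sum_univ_succ, Fin.succAbove]
  have hh : Xᵀ * X.map (conj hF) = 1 := by
    ext a b
    fin_cases a <;> fin_cases b <;> simp [hX, Matrix.mul_apply, Fin.sum_univ_four]
  refine ⟨mkSU X hdet (herm_of_mul hF hh), ?_, ?_, ?_, ?_, ?_⟩
  · rw [act_def, mat_mkSU]
    funext i
    fin_cases i <;> simp [hX, u0, Matrix.mulVec, dotProduct, Fin.sum_univ_four]
  all_goals rw [mat_mkSU]; simp [hX]

include hF in
theorem exists_g3 : ∃ g : SU 4 F 3, act g (u0 E.z) = E.z • u0 E.z ∧ mat g 2 2 = 1 - E.z ∧ mat g 2 3 = 0 ∧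
    mat g 3 2 = 0 ∧ mat g 3 3 = 1 := by
  have h1 := E.zz
  have h3 := E.three
  have hc := E.conj_z hF
  set X : Matrix (Fin 4) (Fin 4) F := !![0, 1, 0, 0; 1 - E.z, 0, 0, 0; 0, 0, 1 - E.z, 0; 0, 0, 0, 1] with hX
  have hdet : X.det = 1 := by
    rw [hX]
    simp [Matrix.det_succ_row_zero, Fin.sum_univ_succ, Fin.succAbove]
    grind
  have hh : Xᵀ * X.map (conj hF) = 1 := by
    ext a b
    fin_cases a <;> fin_cases b <;> simp [hX, Matrix.mul_apply, Fin.sum_univ_four, hc] <;> grind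
  refine ⟨mkSU X hdet (herm_of_mul hF hh), ?_, ?_, ?_, ?_, ?_⟩
  · rw [act_def, mat_mkSU]
    funext i
    fin_cases i <;> simp [hX, u0, Matrix.mulVec, dotProduct, Fin.sum_univ_four]
    grind
  all_goals rw [mat_mkSU]; simp [hX]

include hF in
theorem El.nine (x : F) : x = 0 ∨ x = 1 ∨ x = -1 ∨ x = E.z ∨ x = -E.z ∨ x = E.z ^ 2 ∨ x = -E.z ^ 2 ∨ x = E.z ^ 3 ∨
    x = -E.z ^ 3 := by
  have h1 := E.zz
  have h3 := E.three
  by_cases hx : x = 0
  · exact Or.inl hx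
  right
  have h8 : x ^ 8 = 1 := by
    have := FiniteField.pow_card_sub_one_eq_one x hx
    rwa [hF] at this
  have h4 : (x - 1) * ((x + 1) * ((x - E.z) * ((x + E.z) * ((x - E.z ^ 2) * ((x + E.z ^ 2) * ((x - E.z ^ 3) *
      (x + E.z ^ 3))))))) = 0 := by
    have h4 : E.z ^ 4 = -1 := E.zeta
    have : (x - 1) * ((x + 1) * ((x - E.z) * ((x + E.z) * ((x - E.z ^ 2) * ((x + E.z ^ 2) * ((x - E.z ^ 3) *
      (x + E.z ^ 3))))))) = (x ^ 2 - 1) * (x ^ 2 - E.z ^ 4) * (x ^ 4 - (E.z ^ 2 + E.z ^ 4 * E.z ^ 2) * x ^ 2 +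
        E.z ^ 4 * E.z ^ 4) := by ring
    rw [this, h4]
    linear_combination h8
  rcases mul_eq_zero.1 h4 with h | h4
  · left; linear_combination h
  right
  rcases mul_eq_zero.1 h4 with h | h4
  · left; linear_combination h
  right
  rcases mul_eq_zero.1 h4 with h | h4
  · left; linear_combination h
  right
  rcases mul_eq_zero.1 h4 with h | h4
  · left; linear_combination h
  right
  rcases mul_eq_zero.1 h4 with h | h4
  · left; linear_combination h
  right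
  rcases mul_eq_zero.1 h4 with h | h4
  · left; linear_combination h
  right
  rcases mul_eq_zero.1 h4 with h | h
  · left; linear_combination h
  · right; linear_combination h

theorem nat_aux3 {l t : ℕ} (hl : l ∣ 8) (ht : t ∣ 24) (h : 64 ∣ l * t) : l = 8 ∧ (t = 8 ∨ t = 24) := by
  have h1 := Nat.le_of_dvd (by norm_num) hl
  have h2 := Nat.le_of_dvd (by norm_num) ht
  interval_cases l <;> interval_cases t <;> revert hl ht h <;> decide

include E in
theorem card_comap_dvd (R : Subgroup (PSU 4 F 3)) : Nat.card R * 4 ∣ Nat.card (R.comap (pr 4 F 3)) := by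
  have h1 := card_map_mul (pr 4 F 3) (R.comap (pr 4 F 3))
  rw [Subgroup.map_comap_eq_self_of_surjective pr_surjective] at h1
  rw [h1]
  apply Nat.mul_dvd_mul_left
  obtain ⟨s, hs, hs1⟩ := exists_scalar (c := 1 - E.z) E.ii
  have h2 : orderOf s = 4 := by
    have := Fact.mk Nat.prime_two
    refine orderOf_eq_prime_pow (p := 2) (n := 1) ?_ ?_
    · intro h
      have h2 := congrArg (fun g : SU 4 F 3 => mat g 0 0) h
      simp only [mat_pow', hs, smul_pow, one_pow, mat_one] at h2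
      rw [show (2 : ℕ) ^ 1 = 2 from rfl, E.ii2] at h2
      simp at h2
      exact two0 E.three (by linear_combination -h2)
    · apply mat_injective
      rw [mat_pow', hs, smul_pow, one_pow, mat_one, show (2 : ℕ) ^ (1 + 1) = 4 from rfl, E.ii, one_smul]
  have h5 : orderOf s ∣ Nat.card (R.comap (pr 4 F 3) ⊓ (pr 4 F 3).ker : Subgroup (SU 4 F 3)) := by
    rw [← Nat.card_zpowers]
    apply Subgroup.card_dvd_of_le
    rw [Subgroup.zpowers_le, Subgroup.mem_inf]
    refine ⟨?_, hs1⟩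
    change pr 4 F 3 s ∈ R
    rw [hs1]
    exact R.one_mem
  rwa [h2] at h5

include E in
/-- unipotent matrices of size 2 -/
theorem sq_zero_two {X : Matrix (Fin 2) (Fin 2) F} (h : X ^ 9 = 1) : (X - 1) * (X - 1) = 0 := by
  have h99 : (X - 1) ^ 9 = 0 := by
    rw [show (9 : ℕ) = 3 * 3 from rfl, pow_mul, cube_sub_one E.three, cube_sub_one E.three, ← pow_mul, h, sub_self]
  set N : (Fin 2 → F) →ₗ[F] (Fin 2 → F) := Matrix.toLin' (X - 1) with hN
  have h1 := sq_zero_of_nilp (W := (⊤ : Submodule F (Fin 2 → F))) (by simp) (N := N) (fun _ _ => Submodule.mem_top)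
    (k := 9) (by
      intro w _
      rw [hN, ← Matrix.toLin'_pow, h99, map_zero, LinearMap.zero_apply])
  apply Matrix.ext_of_mulVec_single
  intro i
  rw [Matrix.zero_mulVec, ← Matrix.mulVec_mulVec]
  exact h1 (Pi.single i 1) Submodule.mem_top

include E hF in
theorem card_dvd {R : Subgroup (PSU 4 F 3)} {x9 : PSU 4 F 3} (h9 : x9 ∈ R) (o9 : orderOf x9 = 9)
    {φ ψ χ ω : PSU 4 F 3 ≃* PSU 4 F 3} (hr : φ (pr 4 F 3 E.r) ∈ R) (hb : ψ (pr 4 F 3 E.b) ∈ R)
    (ht : χ (pr 4 F 3 E.t) ∈ R) (hp : ω (pr 4 F 3 E.p) ∈ R) : 432 ∣ Nat.card R := by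
  have := fin_u43 hF
  have h16 : 16 ∣ Nat.card R := by
    refine sixteen_dvd' (x := (⟨φ (pr 4 F 3 E.r), hr⟩ : R)) (y := ⟨ψ (pr 4 F 3 E.b), hb⟩) ?_ ?_ ?_ ?_
    · rw [Subgroup.orderOf_mk, orderOf_mulEquiv, E.or hF]
    · rw [Subgroup.orderOf_mk, orderOf_mulEquiv, E.ob hF]
    · have h1 : φ (pr 4 F 3 (E.r ^ 2)) ∈ R := by
        rw [map_pow, map_pow]
        exact R.pow_mem hr 2
      have h2 : (⟨φ (pr 4 F 3 E.r), hr⟩ : R) ^ 2 = ⟨φ (pr 4 F 3 (E.r ^ 2)), h1⟩ := by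
        apply Subtype.ext
        change φ (pr 4 F 3 E.r) ^ 2 = φ (pr 4 F 3 (E.r ^ 2))
        rw [map_pow, map_pow]
      rw [h2]
      exact not_isConj_of_sep (sep_trace E hF E.tr_r2 E.tr_b) h1 hb
    · have h1 : φ (pr 4 F 3 (E.r ^ 6)) ∈ R := by
        rw [map_pow, map_pow]
        exact R.pow_mem hr 6
      have h2 : (⟨φ (pr 4 F 3 E.r), hr⟩ : R) ^ 6 = ⟨φ (pr 4 F 3 (E.r ^ 6)), h1⟩ := by
        apply Subtype.ext
        change φ (pr 4 F 3 E.r) ^ 6 = φ (pr 4 F 3 (E.r ^ 6))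
        rw [map_pow, map_pow]
      rw [h2]
      exact not_isConj_of_sep (sep_trace E hF E.tr_r6 E.tr_b) h1 hb
  have h27 : 27 ∣ Nat.card R := by
    refine twentyseven_dvd (y := (⟨x9, h9⟩ : R)) (s := ⟨χ (pr 4 F 3 E.t), ht⟩) (t := ⟨ω (pr 4 F 3 E.p), hp⟩) ?_ ?_ ?_ ?_ ?_
    · rw [Subgroup.orderOf_mk, o9]
    · rw [Subgroup.orderOf_mk, orderOf_mulEquiv, E.ot hF]
    · rw [Subgroup.orderOf_mk, orderOf_mulEquiv, E.op hF]
    · exact not_isConj_of_sep (sep_p E hF E.t_sq) ht hp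
    · have h1 : χ (pr 4 F 3 (E.t⁻¹)) ∈ R := by
        rw [map_inv, map_inv]
        exact R.inv_mem ht
      have h2 : (⟨χ (pr 4 F 3 E.t), ht⟩ : R)⁻¹ = ⟨χ (pr 4 F 3 (E.t⁻¹)), h1⟩ := by
        apply Subtype.ext
        change (χ (pr 4 F 3 E.t))⁻¹ = χ (pr 4 F 3 (E.t⁻¹))
        rw [map_inv, map_inv]
      rw [h2]
      exact not_isConj_of_sep (sep_p E hF E.tinv_sq) h1 hp
  exact Nat.Coprime.mul_dvd_of_dvd_of_dvd (by norm_num : Nat.Coprime 16 27) h16 h27

set_option maxHeartbeats 1000000 in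
include E hF in
/-- **A subgroup of the point stabilizer containing elements of five classes is the whole stabilizer.** -/
theorem par_le3 {R : Subgroup (PSU 4 F 3)} (hR : R.comap (pr 4 F 3) ≤ par 3 E.z) {x9 : PSU 4 F 3} (h9 : x9 ∈ R)
    (o9 : orderOf x9 = 9) (h432 : 432 ∣ Nat.card R) : par 3 E.z ≤ R.comap (pr 4 F 3) := by
  have h3 := E.three
  have hcard : 1728 ∣ Nat.card (R.comap (pr 4 F 3)) :=
    (Nat.mul_dvd_mul_right h432 4).trans (card_comap_dvd E R)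
  set T : Subgroup (SU 4 F 3) := R.comap (pr 4 F 3) with hT
  -- the data
  obtain ⟨N, hN, hRc, ⟨k, hk⟩, hl3, ht6⟩ := par_data hF E (T.subgroupOf (par 3 E.z))
  have hRR : Nat.card (T.subgroupOf (par 3 E.z)) = Nat.card T :=
    Nat.card_congr (Subgroup.subgroupOfEquivOfLe hR).toEquiv
  set lc := Nat.card ((T.subgroupOf (par 3 E.z)).map (lamHom 3 E.z)) with hlc
  set tc := Nat.card (((T.subgroupOf (par 3 E.z)).subgroupOf (lamHom 3 E.z).ker).map (thHom hF E.zeta)) with htc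
  have h64 : 64 ∣ lc * tc := by
    have h1 : 64 ∣ Nat.card T := (by norm_num : 64 ∣ 1728).trans hcard
    rw [← hRR, hRc, hk, ← mul_assoc] at h1
    have h2 : Nat.Coprime 64 (3 ^ k) := Nat.Coprime.pow_right k (by norm_num)
    exact h2.dvd_of_dvd_mul_right h1
  obtain ⟨hlc8, htc2⟩ := nat_aux3 hl3 ht6 h64
  have hinR : ∀ g (hg : g ∈ T), (⟨g, hR hg⟩ : par 3 E.z) ∈ T.subgroupOf (par 3 E.z) := fun g hg => hg
  have hker : ∀ g (hg : g ∈ T), lam E.z g = 1 → (⟨g, hR hg⟩ : par 3 E.z) ∈ (lamHom 3 E.z).ker := by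
    intro g hg h
    rw [MonoidHom.mem_ker]
    apply Units.ext
    rw [coe_lamHom, Units.val_one]
    exact h
  -- `th` of elements of `R`
  have hthm : ∀ g (hg : g ∈ T) (h : lam E.z g = 1), thHom hF E.zeta ⟨⟨g, hR hg⟩, hker g hg h⟩ ∈
      ((T.subgroupOf (par 3 E.z)).subgroupOf (lamHom 3 E.z).ker).map (thHom hF E.zeta) := by
    intro g hg h
    exact ⟨⟨⟨g, hR hg⟩, hker g hg h⟩, hinR g hg, rfl⟩
  have hthp : ∀ g (hg : g ∈ T) (h : lam E.z g = 1) (m : ℕ),
      thHom hF E.zeta ⟨⟨g, hR hg⟩, hker g hg h⟩ ^ m = 1 → th (g ^ m) = 1 := by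
    intro g hg h m hm
    rw [← map_pow] at hm
    have h1 := mat_thHom hF E.zeta ((⟨⟨g, hR hg⟩, hker g hg h⟩ : (lamHom 3 E.z).ker) ^ m)
    rw [hm, mat_one] at h1
    exact h1.symm
  -- the lift of the element of order 9
  obtain ⟨Y, hY, hY9⟩ := exists_lift9 hF (x := x9) (orderOf_dvd_iff_pow_eq_one.1 (by rw [o9]))
  have hYT : Y ∈ T := by
    rw [hT, Subgroup.mem_comap, hY]
    exact h9
  have hlY : lam E.z Y = 1 := by
    have h1 : (lamHom 3 E.z) ⟨Y, hR hYT⟩ ^ 9 = 1 := by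
      rw [← map_pow]
      have : (⟨Y, hR hYT⟩ : par 3 E.z) ^ 9 = 1 := Subtype.ext hY9
      rw [this, map_one]
    have h2 := congrArg (fun x : Fˣ => (x : F)) h1
    simp only [Units.val_pow_eq_pow_val, Units.val_one] at h2
    rw [coe_lamHom] at h2
    have h4 : lam E.z Y ^ 8 = 1 := by
      have := FiniteField.pow_card_sub_one_eq_one (lam E.z Y) (lam_ne (hR hYT))
      rwa [hF] at this
    change lam E.z Y ^ 9 = 1 at h2
    rwa [pow_succ, h4, one_mul] at h2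
  have hY3 : Y ^ 3 ≠ 1 := by
    intro h
    have h1 : x9 ^ 3 = 1 := by rw [← hY, ← map_pow, h, map_one]
    have h2 := orderOf_dvd_of_pow_eq_one h1
    rw [o9] at h2
    norm_num at h2
  have htY9 : thHom hF E.zeta ⟨⟨Y, hR hYT⟩, hker Y hYT hlY⟩ ^ 9 = 1 := by
    rw [← map_pow]
    have : (⟨⟨Y, hR hYT⟩, hker Y hYT hlY⟩ : (lamHom 3 E.z).ker) ^ 9 = 1 := Subtype.ext (Subtype.ext hY9)
    rw [this, map_one]
  have htc24 : tc = 24 := by
    rcases htc2 with h | h
    swap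
    · exact h
    exfalso
    have h1 : thHom hF E.zeta ⟨⟨Y, hR hYT⟩, hker Y hYT hlY⟩ ^ 8 = 1 := by
      have h2 := pow_card_eq_one' (G := ((T.subgroupOf (par 3 E.z)).subgroupOf (lamHom 3 E.z).ker).map (thHom hF E.zeta))
        (x := ⟨_, hthm Y hYT hlY⟩)
      rw [← htc, h] at h2
      exact congrArg Subtype.val h2
    have h2 : thHom hF E.zeta ⟨⟨Y, hR hYT⟩, hker Y hYT hlY⟩ ^ 1 = 1 := by
      have h4 := htY9
      rw [pow_succ, h1, one_mul] at h4
      rw [pow_one, h4]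
    have h4 := hthp Y hYT hlY 1 h2
    rw [pow_one] at h4
    exact hY3 (mem_N_three E (hR hYT) hlY h4 hF)
  have hltop : (T.subgroupOf (par 3 E.z)).map (lamHom 3 E.z) = ⊤ := by
    apply Subgroup.eq_top_of_card_eq
    rw [← hlc, hlc8, Nat.card_units, Nat.card_eq_fintype_card (α := F), hF]
    rfl
  have httop : ((T.subgroupOf (par 3 E.z)).subgroupOf (lamHom 3 E.z).ker).map (thHom hF E.zeta) = ⊤ := by
    apply Subgroup.eq_top_of_card_eq
    rw [← htc, htc24, card_SU2 hF]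
  -- the centre
  have ht3 : th (Y ^ 3) = 1 := by
    apply hthp Y hYT hlY 3
    have h1 : thHom hF E.zeta ⟨⟨Y, hR hYT⟩, hker Y hYT hlY⟩ ^ 24 = 1 := by
      rw [← card_SU2 hF]
      exact pow_card_eq_one'
    have h2 : thHom hF E.zeta ⟨⟨Y, hR hYT⟩, hker Y hYT hlY⟩ ^ 27 = 1 := by
      rw [show (27 : ℕ) = 9 * 3 from rfl, pow_mul, htY9, one_pow]
    rwa [show (27 : ℕ) = 24 + 3 from rfl, pow_add, h1, one_mul] at h2
  have hY3T : Y ^ 3 ∈ T := T.pow_mem hYT 3
  have hu0 : act Y (u0 E.z) = u0 E.z := by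
    have := act_u0 (hR hYT)
    rwa [hlY, one_smul] at this
  have hl3' : act (Y ^ 3) (u0 E.z) = u0 E.z := by
    rw [pow_succ, pow_two, act_mul, act_mul, hu0, hu0, hu0]
  obtain ⟨a, b, μ, hs, he⟩ := exists_siegel hF E.zeta hl3' ht3
  -- `a = b = 0`
  have htY : (th Y - 1) * (th Y - 1) = 0 := by
    apply sq_zero_two E
    have h1 := congrArg mat htY9
    rw [mat_pow', mat_thHom, mat_one] at h1
    exact h1
  have hab0 : a = 0 ∧ b = 0 := by
    have hsub : ∀ v, (mat Y - 1) *ᵥ v = act Y v - v := by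
      intro v
      rw [Matrix.sub_mulVec, Matrix.one_mulVec, act_def]
    have hw : ∀ c d : F, ∃ κ : F, (mat Y - 1) *ᵥ wv c d = κ • u0 E.z +
        wv (((th Y - 1) *ᵥ ![c, d]) 0) (((th Y - 1) *ᵥ ![c, d]) 1) := by
      intro c d
      obtain ⟨κ, hκ⟩ := act_wv hF E.zeta (hR hYT) c d
      refine ⟨κ, ?_⟩
      rw [hsub, hκ]
      funext i
      fin_cases i <;> simp [u0, wv, th, Matrix.mulVec, dotProduct, Fin.sum_univ_two, Matrix.sub_apply] <;> ring
    have hu : (mat Y - 1) *ᵥ (u0 E.z) = 0 := by rw [hsub, hu0, sub_self]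
    have h1 : ∃ κ c d : F, (mat Y - 1) *ᵥ ![1, 0, 0, 0] = κ • u0 E.z + wv c d := by
      have h2 : hermForm 4 F 3 (act Y ![1, 0, 0, 0] - ![1, 0, 0, 0]) (u0 E.z) = 0 := by
        rw [herm_sub_left]
        have h4 := herm_act Y ![1, 0, 0, 0] (u0 E.z)
        rw [hu0] at h4
        rw [h4, sub_self]
      have h5 := decomp hF E.zeta h2
      rw [← hsub] at h5 h2
      exact ⟨_, _, _, h5⟩
    obtain ⟨κ, c, d, h1⟩ := h1
    obtain ⟨κ1, h2⟩ := hw c d
    obtain ⟨κ2, h4⟩ := hw (((th Y - 1) *ᵥ ![c, d]) 0) (((th Y - 1) *ᵥ ![c, d]) 1)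
    have h5 : (th Y - 1) *ᵥ ![((th Y - 1) *ᵥ ![c, d]) 0, ((th Y - 1) *ᵥ ![c, d]) 1] = 0 := by
      have : ![((th Y - 1) *ᵥ ![c, d]) 0, ((th Y - 1) *ᵥ ![c, d]) 1] = (th Y - 1) *ᵥ ![c, d] := by
        funext i
        fin_cases i <;> rfl
      rw [this, Matrix.mulVec_mulVec, htY, Matrix.zero_mulVec]
    rw [h5] at h4
    have h6 : (mat Y - 1) ^ 3 *ᵥ ![1, 0, 0, 0] = κ2 • u0 E.z := by
      rw [show (mat Y - 1) ^ 3 = (mat Y - 1) * ((mat Y - 1) * (mat Y - 1)) by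
        simp only [pow_succ, pow_zero, one_mul, mul_assoc], ← Matrix.mulVec_mulVec, ← Matrix.mulVec_mulVec, h1,
        Matrix.mulVec_add, Matrix.mulVec_smul, hu, smul_zero, zero_add, h2, Matrix.mulVec_add, Matrix.mulVec_smul, hu,
        smul_zero, zero_add, h4]
      simp [wv_zero]
    rw [cube_sub_one h3, ← mat_pow', he, Matrix.sub_mulVec, Matrix.one_mulVec, ← act_def, act_siegel] at h6
    have g2 := congrFun h6 2
    have g3 := congrFun h6 3
    have hz : hermForm 4 F 3 ![1, 0, 0, 0] (u0 E.z) = 1 := by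
      rw [herm_u0 hF]
      simp
    rw [hz] at g2 g3
    simp [u0, wv] at g2 g3
    exact ⟨g2, g3⟩
  obtain ⟨rfl, rfl⟩ := hab0
  have htr : ∀ (ν : F), IsSiegel 3 (u0 E.z) (wv 0 0) ν → ν * (1 + ν ^ 2) = 0 := by
    intro ν h
    have h1 := h.tr
    rw [wv_zero, herm_zero_left, add_zero] at h1
    linear_combination h1
  have hμ0 : μ ≠ 0 := by
    rintro rfl
    apply hY3
    rw [he, siegel_congr hF hs (IsSiegel.zero hF hs.iso) rfl wv_zero rfl, siegel_zero]
  have hμ2 : 1 + μ ^ 2 = 0 := (mul_eq_zero.1 (htr μ hs)).resolve_left hμ0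
  have hZ : ∀ (ν : F) (h : IsSiegel 3 (u0 E.z) (wv 0 0) ν), siegel hF (u0 E.z) (wv 0 0) ν h ∈ T := by
    intro ν h
    rcases mul_eq_zero.1 (htr ν h) with h0 | h0
    · subst h0
      rw [siegel_congr hF h (IsSiegel.zero hF h.iso) rfl wv_zero rfl, siegel_zero]
      exact T.one_mem
    · have h1 : (ν - μ) * (ν + μ) = 0 := by linear_combination h0 - hμ2
      rcases mul_eq_zero.1 h1 with h2 | h2
      · have h4 : ν = μ := sub_eq_zero.1 h2
        subst h4
        rw [← he]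
        exact hY3T
      · have h4 : ν = μ ^ 3 := by linear_combination h2 - μ * hμ2
        have h5 : siegel hF (u0 E.z) (wv 0 0) ν h = (siegel hF (u0 E.z) (wv 0 0) μ hs)⁻¹ := by
          rw [siegel_inv]
          apply siegel_congr hF _ _ rfl _ h4
          rw [wv_zero, neg_zero]
        rw [h5, ← he]
        exact T.inv_mem hY3T
  -- a nonzero vector
  obtain ⟨a, b, hab, hne⟩ : ∃ a b : F, Nb (ζ := E.z) hF T a b ∧ ¬ (a = 0 ∧ b = 0) := by
    by_contra hcon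
    push Not at hcon
    have h1 := card_N_dvd hF E.zeta (R := T) (fun a b h => ?_) hN
    · rw [hRR, hlc8, htc24] at hRc
      have h2 : 1728 ∣ 8 * (24 * Nat.card N) := by rw [← hRc]; exact hcard
      have h3 := Nat.le_of_dvd (by have := Nat.card_pos (α := N); positivity) h2
      omega
    · by_contra h2
      exact h2 (hcon a b h)
  refine core hF E.zeta hltop httop hZ fun hst => ?_
  obtain ⟨s, hs1, hs2, hs3, hs4, hs5⟩ := exists_g2 E hF
  obtain ⟨g, hg1, hg2, hg3, hg4, hg5⟩ := exists_g3 E hF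
  have hswap : ∀ a b, Nb (ζ := E.z) hF T a b → Nb (ζ := E.z) hF T (-b) a := by
    intro a b h
    have h1 := hst s ⟨1, by rw [one_smul]; exact hs1⟩ a b h
    rw [lam_eq (l := 1) (by rw [one_smul]; exact hs1), hs2, hs3, hs4, hs5] at h1
    simpa using h1
  have hz5 : E.z ^ 3 * (1 - E.z) = -E.z := by
    have h1 := E.zz
    grind
  have hD : ∀ a b, Nb (ζ := E.z) hF T a b → Nb (ζ := E.z) hF T (-E.z * a) (E.z ^ 3 * b) := by
    intro a b h
    have h1 := hst g ⟨E.z, hg1⟩ a b h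
    rw [lam_eq (l := E.z) hg1, hg2, hg3, hg4, hg5] at h1
    have e1 : E.z ^ 3 * ((1 - E.z) * a + 0 * b) = -E.z * a := by linear_combination a * hz5
    have e2 : E.z ^ 3 * (0 * a + 1 * b) = E.z ^ 3 * b := by ring
    rwa [e1, e2] at h1
  have hD2 : ∀ a b, Nb (ζ := E.z) hF T a b → Nb (ζ := E.z) hF T (E.z * a) 0 := by
    intro a b h
    have h1 := ((hD _ _ (hD a b h)).add hF (hD a b h)).add hF (h.neg hF)
    have hzz := E.zz
    convert h1 using 1
    · grind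
    · grind
  -- a vector with second coordinate zero
  obtain ⟨a', ha', ha0⟩ : ∃ a' : F, Nb (ζ := E.z) hF T a' 0 ∧ a' ≠ 0 := by
    by_cases ha : a = 0
    · refine ⟨E.z * (-b), hD2 _ _ (hswap _ _ hab), mul_ne_zero E.z0 (neg_ne_zero.2 fun h => hne ⟨ha, h⟩)⟩
    · exact ⟨E.z * a, hD2 _ _ hab, mul_ne_zero E.z0 ha⟩
  have hneg : ∀ c, Nb (ζ := E.z) hF T c 0 → Nb (ζ := E.z) hF T (-c) 0 := by
    intro c h
    have := h.neg hF
    rwa [neg_zero] at this
  have hm : ∀ c, Nb (ζ := E.z) hF T c 0 → Nb (ζ := E.z) hF T (E.z * c) 0 := fun c h => hD2 _ _ h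
  have hx : ∀ x : F, Nb (ζ := E.z) hF T x 0 := by
    intro x
    have z1 := hm _ ha'
    have z2 := hm _ z1
    have z3 := hm _ z2
    have h1 : ∀ k : F, (k = 0 ∨ k = 1 ∨ k = -1 ∨ k = E.z ∨ k = -E.z ∨ k = E.z ^ 2 ∨ k = -E.z ^ 2 ∨ k = E.z ^ 3 ∨
        k = -E.z ^ 3) → Nb (ζ := E.z) hF T (k * a') 0 := by
      intro k hk
      rcases hk with rfl | rfl | rfl | rfl | rfl | rfl | rfl | rfl | rfl
      · have := ha'.add hF (ha'.neg hF)
        rw [zero_mul]
        simpa using this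
      · rwa [one_mul]
      · have := hneg _ ha'
        convert this using 1
        ring
      · exact z1
      · have := hneg _ z1
        convert this using 1
        ring
      · convert z2 using 1
        ring
      · have := hneg _ z2
        convert this using 1
        ring
      · convert z3 using 1
        ring
      · have := hneg _ z3
        convert this using 1
        ring
    have h2 := h1 (x / a') (E.nine hF _)
    rwa [div_mul_cancel₀ _ ha0] at h2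
  intro x y
  have h1 := hswap _ _ (hx (y))
  rw [neg_zero] at h1
  have := (hx x).add hF h1
  simpa using this

end data

end Cfsg.Agent.H44.Der.U43
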