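import Cfsg.Agent.H44.Der.U43s
import Cfsg.Agent.H44.Der.U43p
import Cfsg.Agent.H44.Der.U42c
import Cfsg.Agent.S5784

/-!
# `RowS` for `U₄(3)`, up to the residual class (helper44, for S3502)
-/

set_option autoImplicit false
set_option linter.unusedSectionVars false
set_option linter.unusedSimpArgs false

namespace Cfsg.Agent.H44.Der.U43

open Subgroup Cfsg Cfsg.Geo Matrix Module Cfsg.Agent.H251.Small Cfsg.Agent.H439.Der Cfsg.Agent.H938.Sax
open Cfsg.Agent.H396 Cfsg.Agent.OrdDiv Cfsg.Agent.H325.Loc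
open Cfsg.Agent.LieClassical.HermSiegel Cfsg.Agent.LieClassical.SUBasic Cfsg.Agent.LieClassical.HermBasic
open Cfsg.Agent.LieClassical.HermGen
open Cfsg.Agent.ClassicalGeometry.PSUAutBasic
open Cfsg.Agent.H251.GeoU (pre)
open Cfsg.Agent.H251.Der (mem_of_equiv alt_seven l34)
open Cfsg.Agent.H44.Der.Para

variable {F : Type} [Field F] [Fintype F]

/-- subgroups of the stabilizer of `u0` -/
theorem p1_aux (hF : Fintype.card F = 3 ^ 2) (E : El F) {R : Subgroup (PSU 4 F 3)}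
    (hR : R.comap (pr 4 F 3) ≤ par 3 E.z) :
    Two (PSU 4 F 3) R ∧ (Three (PSU 4 F 3) R ∨ Nat.card R = Nat.card ((par 3 E.z).map (pr 4 F 3))) := by
  obtain ⟨x5, hx5⟩ := exists_prime_el hF (p := 5) (by norm_num) (by norm_num)
  obtain ⟨x7, hx7⟩ := exists_prime_el hF (p := 7) (by norm_num) (by norm_num)
  obtain ⟨x9, hx9⟩ := H251.Der.UNine.exists_nine (F := F) (by rw [hF]; norm_num)
  have h5 : ∀ φ : PSU 4 F 3 ≃* PSU 4 F 3, φ x5 ∉ R := by
    intro φ hφ
    obtain ⟨y, hy⟩ := pr_surjective (φ x5)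
    rw [← hy] at hφ
    apply (par_ord hF E (hR hφ)).1
    rw [hy, orderOf_mulEquiv, hx5]
  have h7 : ∀ φ : PSU 4 F 3 ≃* PSU 4 F 3, φ x7 ∉ R := by
    intro φ hφ
    obtain ⟨y, hy⟩ := pr_surjective (φ x7)
    rw [← hy] at hφ
    apply (par_ord hF E (hR hφ)).2
    rw [hy, orderOf_mulEquiv, hx7]
  refine ⟨⟨x5, x7, h5, h7, fun φ h => ?_⟩, ?_⟩
  · have h1 : orderOf x5 = orderOf x7 := by rw [← h, orderOf_mulEquiv]
    rw [hx5, hx7] at h1
    norm_num at h1
  by_cases h9 : ∀ φ : PSU 4 F 3 ≃* PSU 4 F 3, φ x9 ∉ R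
  · left
    refine three_of_ne h5 h7 h9 ?_ ?_ ?_
    all_goals simp only [hx9, hx5, hx7]; norm_num
  by_cases hr : ∀ φ : PSU 4 F 3 ≃* PSU 4 F 3, φ (pr 4 F 3 E.r) ∉ R
  · left
    refine three_of_ne h5 h7 hr ?_ ?_ ?_
    all_goals simp only [E.or hF, hx5, hx7]; norm_num
  by_cases hb : ∀ φ : PSU 4 F 3 ≃* PSU 4 F 3, φ (pr 4 F 3 E.b) ∉ R
  · left
    refine three_of_ne h5 h7 hb ?_ ?_ ?_
    all_goals simp only [E.ob hF, hx5, hx7]; norm_num
  by_cases ht : ∀ φ : PSU 4 F 3 ≃* PSU 4 F 3, φ (pr 4 F 3 E.t) ∉ R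
  · left
    refine three_of_ne h5 h7 ht ?_ ?_ ?_
    all_goals simp only [E.ot hF, hx5, hx7]; norm_num
  by_cases hp : ∀ φ : PSU 4 F 3 ≃* PSU 4 F 3, φ (pr 4 F 3 E.p) ∉ R
  · left
    refine three_of_ne h5 h7 hp ?_ ?_ ?_
    all_goals simp only [E.op hF, hx5, hx7]; norm_num
  right
  push Not at h9 hr hb ht hp
  obtain ⟨φ9, h9⟩ := h9
  obtain ⟨φ, hr⟩ := hr
  obtain ⟨ψ, hb⟩ := hb
  obtain ⟨χ, ht⟩ := ht
  obtain ⟨ω, hp⟩ := hp
  have o9 : orderOf (φ9 x9) = 9 := by rw [orderOf_mulEquiv, hx9]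
  have h1 := par_le3 E hF hR (x9 := φ9 x9) h9 o9 (card_dvd E hF h9 o9 hr hb ht hp)
  have h2 : R.comap (pr 4 F 3) = par 3 E.z := le_antisymm hR h1
  rw [← h2, Subgroup.map_comap_eq_self_of_surjective pr_surjective]

/-- subgroups of the point stabilizers -/
theorem p1 (hF : Fintype.card F = 3 ^ 2) (E : El F) {R : Subgroup (PSU 4 F 3)} {e : Fin 4 → F} (he0 : e ≠ 0)
    (he : hermForm 4 F 3 e e = 0) (hR : ∀ y : SU 4 F 3, pr 4 F 3 y ∈ R → ∃ c : F, act y e = c • e) :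
    Two (PSU 4 F 3) R ∧ (Three (PSU 4 F 3) R ∨ Nat.card R = Nat.card ((par 3 E.z).map (pr 4 F 3))) := by
  obtain ⟨g, -, hg⟩ := exists_map_iso hF (k := 4) (n := 4) (by norm_num) le_rfl (mem_coordSub_top e)
    (mem_coordSub_top (u0 E.z)) he0 u0_ne he (u0_iso hF E.zeta)
  obtain ⟨h1, h2⟩ := p1_aux hF E (R := R.map (MulAut.conj (pr 4 F 3 g)).toMonoidHom) (by
    rintro z ⟨r, hr, hz⟩
    obtain ⟨y, rfl⟩ := pr_surjective r
    have h1 : pr 4 F 3 (g * y * g⁻¹) = pr 4 F 3 z := by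
      rw [← hz, map_mul, map_mul, map_inv]
      rfl
    obtain ⟨c0, -, hc0⟩ := exists_c hF h1
    obtain ⟨c, hc⟩ := hR y hr
    refine ⟨c0 * c, ?_⟩
    rw [act_def, hc0, Matrix.smul_mulVec, ← act_def, act_mul, act_mul, ← hg, act_inv_act, hc, act_smul, smul_smul])
  refine ⟨U42.two_of_conj _ h1, h2.imp (U42.of_conj _) fun h3 => ?_⟩
  rw [← h3, U42.card_map_conj]

theorem dvd_of_pre (hF : Fintype.card F = 3 ^ 2) {M : Subgroup (PSU 4 F 3)} {p : ℕ} (hp : p.Prime) (hp4 : ¬ p ∣ 4)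
    (h : p ∣ Nat.card (pre M)) : p ∣ Nat.card M := by
  have h1 : Nat.card (M.comap (pr 4 F 3)) = Nat.card (pre M) :=
    Nat.card_congr ((M.comap (pr 4 F 3)).equivMapOfInjective _ H918.suHom_injective).toEquiv
  have h2 := card_map_mul (pr 4 F 3) (M.comap (pr 4 F 3))
  rw [Subgroup.map_comap_eq_self_of_surjective pr_surjective, h1] at h2
  rw [h2] at h
  refine ((Nat.Prime.dvd_mul hp).1 h).resolve_right fun h3 => hp4 ?_
  have := Fact.mk hp
  obtain ⟨x, hx⟩ := exists_prime_orderOf_dvd_card' p h3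
  have h4 : x ^ 4 = 1 := by
    apply Subtype.ext
    have h5 : pr 4 F 3 (x : SU 4 F 3) = 1 := x.2.2
    obtain ⟨c, h4, -, h6⟩ := mat_pr hF (by norm_num) ((map_one (pr 4 F 3)).trans h5.symm)
    rw [mat_one] at h6
    apply mat_injective
    change mat ((x : SU 4 F 3) ^ 4) = mat (1 : SU 4 F 3)
    rw [mat_pow', h6, smul_pow, one_pow, h4, one_smul, mat_one]
  rw [← hx]
  exact orderOf_dvd_of_pow_eq_one h4

/-- subgroups of order divisible by `35` -/
theorem three_res (OT : OrderTable.{0})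
    (hS : ∀ (X : Type) [Group X] [Finite X] [IsSimpleGroup X], Cfsg.IsKnownSimple' X)
    (hF : Fintype.card F = 3 ^ 2) (E : El F) {M : Subgroup (PSU 4 F 3)} (hM : M ≠ ⊤) (h5 : 5 ∣ Nat.card M)
    (h7 : 7 ∣ Nat.card M) : Three (PSU 4 F 3) M := by
  have h9 : Fintype.card F = 9 := by rw [hF]; norm_num
  have hcard := H844.USeven.card_psu h9
  have := fin_u43 hF
  have h5p : Fact (Nat.Prime 5) := ⟨by norm_num⟩
  have h7p : Fact (Nat.Prime 7) := ⟨by norm_num⟩
  obtain ⟨x9, hx9⟩ := H251.Der.UNine.exists_nine (F := F) h9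
  rcases pgap_u43 OT hS hF M hM with hp | ⟨⟨e⟩⟩ | ⟨K, _, _, hK, ⟨e⟩⟩
  · obtain ⟨r, hr, hr1, hr2⟩ := hp
    have hr3 : r = 2 ∨ r = 3 := by
      rw [hcard] at hr1
      have h1 : r ∈ Nat.primeFactors 3265920 := Nat.mem_primeFactors.2 ⟨hr, hr1, by norm_num⟩
      rw [show (3265920 : ℕ) = 2 ^ 7 * 3 ^ 6 * 5 * 7 by norm_num] at h1
      rw [Nat.mem_primeFactors] at h1
      obtain ⟨-, h1, -⟩ := h1
      rcases (Nat.Prime.dvd_mul hr).1 h1 with h1 | h1
      · rcases (Nat.Prime.dvd_mul hr).1 h1 with h1 | h1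
        · rcases (Nat.Prime.dvd_mul hr).1 h1 with h1 | h1
          · exact Or.inl ((Nat.prime_dvd_prime_iff_eq hr Nat.prime_two).1 (hr.dvd_of_dvd_pow h1))
          · exact Or.inr ((Nat.prime_dvd_prime_iff_eq hr Nat.prime_three).1 (hr.dvd_of_dvd_pow h1))
        · rw [(Nat.prime_dvd_prime_iff_eq hr h5p.out).1 h1] at hr2
          exact absurd h5 hr2
      · rw [(Nat.prime_dvd_prime_iff_eq hr h7p.out).1 h1] at hr2
        exact absurd h7 hr2
    rcases hr3 with rfl | rfl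
    · refine Three.of_not_dvd hr2 (not_SCC_of_orders (x := pr 4 F 3 E.r) (y := pr 4 F 3 (E.r ^ 2))
        (z := pr 4 F 3 (E.r ^ 4)) ?_ ?_ ?_ ?_ ?_ ?_) ⟨pr 4 F 3 E.r, ?_⟩
      all_goals simp only [E.or hF, E.or2 hF, E.or4 hF]; norm_num
    · refine Three.of_not_dvd hr2 (not_SCC_of_orders (x := pr 4 F 3 E.t) (y := x9)
        (z := pr 4 F 3 (E.t * E.r ^ 2)) ?_ ?_ ?_ ?_ ?_ ?_) ⟨pr 4 F 3 E.t, ?_⟩
      all_goals simp only [E.ot hF, hx9, E.otr2 hF]; norm_num
  · have h1 := mem_of_equiv e alt_seven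
    refine Three.of_orders (a := 8) (b := 9) (c := 12) (by norm_num) (by norm_num) (by norm_num) (E.or hF) hx9
      (E.otr2 hF) ?_ ?_ ?_
    all_goals
      intro m hm h
      have := h1 ⟨m, hm⟩
      rw [Subgroup.orderOf_mk, h] at this
      simp at this
  · have h1 := mem_of_equiv e (l34 hK)
    refine Three.of_orders (a := 8) (b := 9) (c := 12) (by norm_num) (by norm_num) (by norm_num) (E.or hF) hx9
      (E.otr2 hF) ?_ ?_ ?_
    all_goals
      intro m hm h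
      have := h1 ⟨m, hm⟩
      rw [Subgroup.orderOf_mk, h] at this
      simp at this

/-- the maximal subgroups in the residual class -/
def Res (F : Type) [Field F] [Fintype F] : Prop :=
  ∀ H : Subgroup (GL (Fin 4) F), IsMaximalIn (Cfsg.GU 4 F 3 ⊓ specialLinear (Fin 4) F) H → InUnitaryResidualClass H →
    5 ∣ Nat.card H ∧ 7 ∣ Nat.card H

/-- **The maximal subgroups** -/
theorem types (OT : OrderTable.{0})
    (hS : ∀ (X : Type) [Group X] [Finite X] [IsSimpleGroup X], Cfsg.IsKnownSimple' X)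
    (hF : Fintype.card F = 3 ^ 2) (hres : Res F) (E : El F) {M : Subgroup (PSU 4 F 3)} (hM : IsCoatom M) :
    Three (PSU 4 F 3) M ∨ ∃ e : Fin 4 → F, e ≠ 0 ∧ hermForm 4 F 3 e e = 0 ∧
      ∀ y : SU 4 F 3, pr 4 F 3 y ∈ M → ∃ c : F, act y e = c • e := by
  rcases Cfsg.Agent.S5784.result 3 hF _ (isMaximalIn_pre hM) with ⟨W, hW0, hW, hH⟩ | ⟨W, hW0, hW, hW1, hH⟩ |
    ⟨h3, -⟩ | ⟨-, D, hD, hH⟩ | ⟨h4, -⟩ | ⟨F₀, r, P, hr, hrodd, hc, -, -⟩ | ⟨F₀, P, ζ, hc, -, -, -, halt, hH⟩ |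
    ⟨-, F₀, P, hc, hf, hH⟩ | ⟨p, R, -, -, -, hR, habs, -, -, -, hH⟩ | h
  · -- totally isotropic subspaces
    have hpos : 0 < finrank F W := by
      rw [Nat.pos_iff_ne_zero, Ne, Submodule.finrank_eq_zero]
      exact hW0
    have hle : 2 * finrank F W ≤ 4 := by
      have h1 := finrank_of_diag (q := 3) hF (y := (1 : SU 4 F 3)) (A := 1) (B := 1) (b := 1) (one_mul _)
        (by rw [mat_one, Matrix.one_mul, Matrix.mul_one]; exact Matrix.diagonal_one.symm) (fun i => one_pow _) (J := ∅) (by simp)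
        (fun w hw => by rwa [act_one]) hW
      simpa using h1
    have h12 : finrank F W = 1 ∨ finrank F W = 2 := by omega
    rcases h12 with h1 | h2
    · right
      obtain ⟨⟨e, heW⟩, he0, he1⟩ := finrank_eq_one_iff'.1 h1
      refine ⟨e, fun h => he0 (Subtype.ext h), hW e heW e heW, fun y hy => ?_⟩
      have h2 := mem_pre hy
      rw [hH] at h2
      obtain ⟨c, hc⟩ := he1 ⟨_, act_of_stab h2 e heW⟩
      exact ⟨c, (congrArg Subtype.val hc).symm⟩
    · left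
      exact three_iso E hF hW h2 hH
  · left
    have hpos : 0 < finrank F W := by
      rw [Nat.pos_iff_ne_zero, Ne, Submodule.finrank_eq_zero]
      exact hW0
    exact three_point E hF hW (by omega) hH
  · omega
  · left
    exact three_decomp E hF hD hH
  · omega
  · exfalso
    have h3 : 3 ≤ r := by
      rcases hr.eq_two_or_odd with h | h
      · subst h
        exact absurd hrodd (by decide)
      · have := hr.two_le
        omega
    rw [hF] at hc
    have h2 : 2 ≤ Nat.card F₀ := Finite.one_lt_card (α := F₀)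
    have h4 : Nat.card F₀ < 3 := by
      by_contra hcon
      push Not at hcon
      have h5 : 3 ^ 3 ≤ Nat.card F₀ ^ r :=
        (Nat.pow_le_pow_left hcon 3).trans (Nat.pow_le_pow_right (by omega) h3)
      omega
    have h5 : Nat.card F₀ = 2 := by omega
    have h6 : 2 ∣ Nat.card F₀ ^ r := dvd_pow (by rw [h5]) (by omega)
    rw [← hc] at h6
    norm_num at h6
  · left
    refine three_symp E hF ?_ halt hH
    rw [hF] at hc
    exact (Nat.pow_left_injective (n := 2) (by norm_num) hc).symm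
  · left
    refine three_orth E hF ?_ hf hH
    rw [hF] at hc
    exact (Nat.pow_left_injective (n := 2) (by norm_num) hc).symm
  · left
    exact three_sg E hF hR habs hH
  · left
    obtain ⟨h5, h7⟩ := hres _ (isMaximalIn_pre hM) h
    exact three_res OT hS hF E hM.1 (dvd_of_pre hF (by norm_num) (by norm_num) h5)
      (dvd_of_pre hF (by norm_num) (by norm_num) h7)

/-- **`RowS` for `U₄(3)`.** -/
theorem rowS_u43 (OT : OrderTable.{0})
    (hS : ∀ (X : Type) [Group X] [Finite X] [IsSimpleGroup X], Cfsg.IsKnownSimple' X)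
    (hF : Fintype.card F = 3 ^ 2) (hres : Res F) : RowS (PSU 4 F 3) := by
  obtain ⟨E⟩ := exists_El hF
  have := fin_u43 hF
  refine rowS_of_card (N := Nat.card ((par 3 E.z).map (pr 4 F 3))) fun R hR => ?_
  rcases eq_top_or_exists_le_coatom R with h1 | ⟨M, hM, h1⟩
  · exact absurd h1 hR
  rcases types OT hS hF hres E hM with h2 | ⟨e, he0, he, h2⟩
  · exact Or.inl (h2.mono h1)
  · obtain ⟨h3, h4⟩ := p1 hF E he0 he (R := R) fun y hy => h2 y (h1 hy)
    rcases h4 with h4 | h4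
    · exact Or.inl h4
    · exact Or.inr ⟨h3, h4⟩

end Cfsg.Agent.H44.Der.U43
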