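import Cfsg.Agent.H44.Der.U43b
import Cfsg.Agent.H921.SympDim

/-!
# `U₄(3)`: subfield groups and symplectic type groups (helper44)
-/

set_option autoImplicit false
set_option linter.unusedSectionVars false
set_option linter.unusedSimpArgs false

namespace Cfsg.Agent.H44.Der.U43

open Subgroup Cfsg Cfsg.Geo Matrix Module Cfsg.Agent.H251.Small Cfsg.Agent.H439.Der Cfsg.Agent.H938.Sax
open Cfsg.Agent.LieClassical.HermSiegel Cfsg.Agent.LieClassical.SUBasic Cfsg.Agent.LieClassical.HermBasic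
open Cfsg.Agent.ClassicalGeometry.PSUAutBasic
open Cfsg.Agent.H251.GeoU (pre)

variable {F : Type} [Field F] [Fintype F]

/-- transvections -/
def R1 (X : Matrix (Fin 4) (Fin 4) F) : Prop := ∃ p l : Fin 4 → F, X - 1 = vecMulVec p l ∧ l ⬝ᵥ p = 0

theorem R1.rel {X Y : Matrix (Fin 4) (Fin 4) F} (h : R1 X) (hXY : Rel1 X Y) : R1 Y := by
  obtain ⟨p, l, h1, h2⟩ := h
  obtain ⟨A, B, ρ, hAB, hY⟩ := hXY.sub_one
  have hBA : B * A = 1 := _root_.mul_eq_one_comm.1 hAB
  refine ⟨A *ᵥ (ρ ∘ p), (ρ ∘ l) ᵥ* B, ?_, ?_⟩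
  · rw [hY, h1]
    have : (vecMulVec p l).map ρ = vecMulVec (ρ ∘ p) (ρ ∘ l) := by
      ext i j
      simp [vecMulVec_apply]
    rw [this, Matrix.mul_vecMulVec, Matrix.vecMulVec_mul]
  · rw [← Matrix.dotProduct_mulVec, Matrix.mulVec_mulVec, hBA, Matrix.one_mulVec]
    have h3 := congrArg ρ h2
    rw [map_zero] at h3
    rw [← h3]
    simp only [dotProduct, map_sum, map_mul, Function.comp]

theorem r1_TV {z : F} (hz : z * z = 1 - z) (h3 : (3 : F) = 0) : R1 (TV z) := by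
  refine ⟨![1, z, 0, 0], ![1 - z, -z, 0, 0], ?_, ?_⟩
  · ext i j
    fin_cases i <;> fin_cases j <;> simp [TV, vecMulVec_apply, Matrix.sub_apply] <;> grind
  · simp [dotProduct, Fin.sum_univ_four]
    grind

theorem TV_ne {z : F} (hz : z * z = 1 - z) : TV z - 1 ≠ 0 := by
  intro h
  have h1 := congrFun (congrFun h 0) 1
  simp [TV, Matrix.sub_apply] at h1
  rw [h1] at hz
  norm_num at hz

/-- the action of a transvection -/
theorem exists_transv {y : SU 4 F 3} {z : F} (hz : z * z = 1 - z) (h3 : (3 : F) = 0) (h : Rel1 (TV z) (mat y)) :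
    ∃ p l : Fin 4 → F, p ≠ 0 ∧ l ≠ 0 ∧ l ⬝ᵥ p = 0 ∧ mat y = 1 + vecMulVec p l ∧
      ∀ v, act y v = v + (l ⬝ᵥ v) • p := by
  obtain ⟨p, l, h1, h2⟩ := (r1_TV hz h3).rel h
  have hne : mat y - 1 ≠ 0 := fun h0 => TV_ne hz (h.sub_one.zero h0)
  have hy : mat y = 1 + vecMulVec p l := by rw [← h1]; abel
  refine ⟨p, l, ?_, ?_, h2, hy, fun v => ?_⟩
  · rintro rfl
    apply hne
    rw [h1]
    ext i j
    simp [vecMulVec_apply]
  · rintro rfl
    apply hne
    rw [h1]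
    ext i j
    simp [vecMulVec_apply]
  · rw [act_def, hy, Matrix.add_mulVec, Matrix.one_mulVec]
    congr 1
    funext k
    simp [Matrix.mulVec, vecMulVec_apply, dotProduct, Finset.sum_mul, mul_comm, mul_left_comm, Finset.mul_sum]

section sub

variable {F₀ : Subfield F} {P : GL (Fin 4) F} {K : Subgroup (GL (Fin 4) F)}

theorem fix_F0 (hc : Nat.card F₀ = 3) {x : F} (hx : x ∈ F₀) : x ^ 3 = x := by
  have : Fintype F₀ := Fintype.ofFinite F₀
  have h1 := FiniteField.pow_card (⟨x, hx⟩ : F₀)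
  rw [← Nat.card_eq_fintype_card, hc] at h1
  exact congrArg Subtype.val h1

theorem PP : (P : Matrix (Fin 4) (Fin 4) F) * ((P⁻¹ : GL (Fin 4) F) : Matrix (Fin 4) (Fin 4) F) = 1 := by
  rw [← Units.val_mul, mul_inv_cancel, Units.val_one]

theorem PP' : ((P⁻¹ : GL (Fin 4) F) : Matrix (Fin 4) (Fin 4) F) * (P : Matrix (Fin 4) (Fin 4) F) = 1 := by
  rw [← Units.val_mul, inv_mul_cancel, Units.val_one]

/-- the matrix in the new basis -/
theorem exists_Z {y : SU 4 F 3} (h : H918.suHom 4 F 3 y ∈ subfieldSubgroup F₀ P ⊓ K) :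
    ∃ (Z : Matrix (Fin 4) (Fin 4) F) (c : F), c ≠ 0 ∧ (∀ i j, c * Z i j ∈ F₀) ∧ Z.det = 1 ∧
      Z.trace = (mat y).trace ∧ ∀ u, act y ((P : Matrix (Fin 4) (Fin 4) F) *ᵥ u) = (P : Matrix (Fin 4) (Fin 4) F) *ᵥ (Z *ᵥ u) := by
  obtain ⟨c, hc0, hce⟩ := H914.mem_subfieldSubgroup_iff.1 h.1
  set Z : Matrix (Fin 4) (Fin 4) F := ((P⁻¹ * H918.suHom 4 F 3 y * P : GL (Fin 4) F) : Matrix (Fin 4) (Fin 4) F) with hZ
  have hZe : Z = ((P⁻¹ : GL (Fin 4) F) : Matrix (Fin 4) (Fin 4) F) * mat y * (P : Matrix (Fin 4) (Fin 4) F) := by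
    rw [hZ, Units.val_mul, Units.val_mul]
    rfl
  refine ⟨Z, c, hc0, hce, ?_, ?_, fun u => ?_⟩
  · rw [hZe, Matrix.det_mul, Matrix.det_mul, det_mat, mul_one, ← Matrix.det_mul, PP', Matrix.det_one]
  · rw [hZe, Matrix.trace_mul_comm, ← Matrix.mul_assoc, PP, Matrix.one_mul]
  · rw [act_def, Matrix.mulVec_mulVec, Matrix.mulVec_mulVec, hZe, ← Matrix.mul_assoc, ← Matrix.mul_assoc, PP,
      Matrix.one_mul]

/-- elements of trace one preserve the rational structure -/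
theorem exists_rat {y : SU 4 F 3} (h : H918.suHom 4 F 3 y ∈ subfieldSubgroup F₀ P ⊓ K)
    (ht : (mat y).trace = 1) {u : Fin 4 → F} (hu : ∀ i, u i ∈ F₀) :
    ∃ u' : Fin 4 → F, (∀ i, u' i ∈ F₀) ∧
      act y ((P : Matrix (Fin 4) (Fin 4) F) *ᵥ u) = (P : Matrix (Fin 4) (Fin 4) F) *ᵥ u' := by
  obtain ⟨Z, c, hc0, hce, hd, htr, hact⟩ := exists_Z h
  have hc1 : c ∈ F₀ := by
    have h1 : c * Z.trace ∈ F₀ := by
      rw [Matrix.trace, Finset.mul_sum]
      exact sum_mem fun i _ => hce i i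
    rwa [htr, ht, mul_one] at h1
  have hZ : ∀ i j, Z i j ∈ F₀ := by
    intro i j
    have h1 := F₀.mul_mem (F₀.inv_mem hc1) (hce i j)
    rwa [← mul_assoc, inv_mul_cancel₀ hc0, one_mul] at h1
  refine ⟨Z *ᵥ u, fun i => ?_, hact u⟩
  rw [Matrix.mulVec, dotProduct]
  exact sum_mem fun j _ => F₀.mul_mem (hZ i j) (hu j)

/-- vectors orthogonal to the rational vectors -/
theorem eq_zero_of_orth (hF : Fintype.card F = 3 ^ 2) {w : Fin 4 → F}
    (h : ∀ u : Fin 4 → F, (∀ i, u i ∈ F₀) → hermForm 4 F 3 ((P : Matrix (Fin 4) (Fin 4) F) *ᵥ u) w = 0) : w = 0 := by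
  by_contra hne
  obtain ⟨v, hv⟩ := exists_herm_ne_zero hF hne
  apply hv
  apply herm_eq_zero_swap hF
  have h1 : v = (P : Matrix (Fin 4) (Fin 4) F) *ᵥ (((P⁻¹ : GL (Fin 4) F) : Matrix (Fin 4) (Fin 4) F) *ᵥ v) := by
    rw [Matrix.mulVec_mulVec, PP, Matrix.one_mulVec]
  rw [h1, single_sum (A := (P : Matrix (Fin 4) (Fin 4) F)), herm_sum_left]
  apply Finset.sum_eq_zero
  intro i _
  rw [herm_smul_left, h, mul_zero]
  intro j
  by_cases hij : j = i
  · subst hij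
    rw [Pi.single_eq_same]
    exact F₀.one_mem
  · rw [Pi.single_eq_of_ne hij]
    exact F₀.zero_mem

/-- rational vectors not in a hyperplane -/
theorem exists_rat_ne {l : Fin 4 → F} (hl : l ≠ 0) : ∃ u : Fin 4 → F, (∀ i, u i ∈ F₀) ∧
    l ⬝ᵥ ((P : Matrix (Fin 4) (Fin 4) F) *ᵥ u) ≠ 0 := by
  by_contra hcon
  push Not at hcon
  apply hl
  have h1 : l ᵥ* (P : Matrix (Fin 4) (Fin 4) F) = 0 := by
    funext i
    have h2 := hcon (Pi.single i 1) (by
      intro j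
      by_cases hij : j = i
      · subst hij
        rw [Pi.single_eq_same]
        exact F₀.one_mem
      · rw [Pi.single_eq_of_ne hij]
        exact F₀.zero_mem)
    rw [Matrix.dotProduct_mulVec, dotProduct_single, mul_one] at h2
    exact h2
  have h2 := congrArg (fun v => v ᵥ* ((P⁻¹ : GL (Fin 4) F) : Matrix (Fin 4) (Fin 4) F)) h1
  simp only [Matrix.vecMul_vecMul, PP, Matrix.vecMul_one, Matrix.zero_vecMul] at h2
  exact h2

variable (E : El F) (hF : Fintype.card F = 3 ^ 2)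

theorem El.tr_t : (mat E.t).trace = 1 := by
  rw [E.mt, Matrix.trace, Fin.sum_univ_four]
  simp [TV]
  linear_combination (0 : F) * E.three

theorem El.tr_p : (mat E.p).trace = 1 := by
  rw [E.mp, Matrix.trace, Fin.sum_univ_four]
  simp [P31]

theorem El.tr_r : (mat E.r).trace = E.z := by
  rw [E.mr, Matrix.trace, Fin.sum_univ_four]
  simp [RR]

include E hF in
/-- **orthogonal subfield groups** -/
theorem three_orth {M : Subgroup (PSU 4 F 3)} (hc : Nat.card F₀ = 3)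
    (hf : IsFormRationalStructure (hermForm 4 F 3) F₀ 1 P) (hM : pre M = subfieldSubgroup F₀ P ⊓ K) :
    Three (PSU 4 F 3) M := by
  apply three_t E hF
  refine miss1 hF fun y hy hm => ?_
  have hm' := mem_pre hm
  rw [hM] at hm'
  have htr : (mat y).trace = 1 := by
    obtain ⟨ρ, h1⟩ := hy.trace
    rw [h1, E.tr_t, map_one]
  rw [E.mt] at hy
  obtain ⟨p, l, hp0, hl0, hlp, -, hact⟩ := exists_transv E.zz E.three hy
  obtain ⟨u, hu, hlu⟩ := exists_rat_ne (F₀ := F₀) (P := P) hl0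
  obtain ⟨u', hu', hact'⟩ := exists_rat hm' htr hu
  have hsym : ∀ u v : Fin 4 → F, (∀ i, u i ∈ F₀) → (∀ i, v i ∈ F₀) →
      hermForm 4 F 3 ((P : Matrix (Fin 4) (Fin 4) F) *ᵥ u) ((P : Matrix (Fin 4) (Fin 4) F) *ᵥ v) =
      hermForm 4 F 3 ((P : Matrix (Fin 4) (Fin 4) F) *ᵥ v) ((P : Matrix (Fin 4) (Fin 4) F) *ᵥ u) := by
    intro u v hu hv
    have h1 := hf v u hv hu
    rw [one_mul] at h1
    rw [herm_swap hF, fix_F0 hc h1]
  set v := (P : Matrix (Fin 4) (Fin 4) F) *ᵥ u with hv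
  set p1 := (l ⬝ᵥ v) • p with hp1
  have hp1e : p1 = (P : Matrix (Fin 4) (Fin 4) F) *ᵥ (u' - u) := by
    rw [Matrix.mulVec_sub, ← hact', hact]
    abel
  have hu'' : ∀ i, (u' - u) i ∈ F₀ := fun i => F₀.sub_mem (hu' i) (hu i)
  have hp10 : p1 ≠ 0 := smul_ne_zero hlu hp0
  have hyp : act y p1 = p1 := by
    rw [hact, hp1, dotProduct_smul, hlp, smul_zero, zero_smul, add_zero]
  have hyv : act y v = v + p1 := hact v
  have e1 : hermForm 4 F 3 p1 p1 = 0 := by
    have h1 := herm_act y v p1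
    rw [hyp, hyv, herm_add_left] at h1
    linear_combination h1
  have e2 : hermForm 4 F 3 v p1 = 0 := by
    have h1 := herm_act y v v
    rw [hyv, herm_add_left, herm_add_right hF, herm_add_right hF, e1] at h1
    have h2 : hermForm 4 F 3 p1 v = hermForm 4 F 3 v p1 := by
      rw [hp1e, hv]
      exact hsym _ _ hu'' hu
    rw [h2] at h1
    have h3 := E.three
    linear_combination -h1 + hermForm 4 F 3 v p1 * h3
  have e3 : hermForm 4 F 3 p1 v = 0 := herm_eq_zero_swap hF e2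
  apply hp10
  refine eq_zero_of_orth (F₀ := F₀) (P := P) hF fun u1 hu1 => ?_
  set v1 := (P : Matrix (Fin 4) (Fin 4) F) *ᵥ u1 with hv1
  have hyv1 : act y v1 = v1 + ((l ⬝ᵥ v1) / (l ⬝ᵥ v)) • p1 := by
    rw [hact, hp1, smul_smul, div_mul_cancel₀ _ hlu]
  have h1 := herm_act y v1 v
  clear_value p1
  rw [hyv1, hyv, herm_add_left, herm_add_right hF, herm_add_right hF, herm_smul_left, herm_smul_left, e1, e3] at h1
  linear_combination h1

theorem P31_sub_cube (h3 : (3 : F) = 0) : (P31 F - 1) ^ 2 = vecMulVec ![1, 1, 1, 0] ![1, 1, 1, 0] := by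
  have h1 : (P31 F - 1) ^ 2 = P31 F * P31 F - P31 F - P31 F + 1 := by noncomm_ring
  rw [h1, P31_sq]
  ext i j
  fin_cases i <;> fin_cases j <;> simp [P31, vecMulVec_apply, Matrix.sub_apply, Matrix.add_apply] <;> grind

/-- the square of `N` for elements like `p` -/
theorem exists_N2 {y : SU 4 F 3} (h3 : (3 : F) = 0) (h : Rel1 (P31 F) (mat y)) :
    ∃ p l : Fin 4 → F, p ≠ 0 ∧ l ≠ 0 ∧ (mat y - 1) ^ 2 = vecMulVec p l := by
  have h1 := h.sub_one.pow 2
  obtain ⟨A, B, ρ, hAB, hY⟩ := h1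
  have hne : (mat y - 1) ^ 2 ≠ 0 := fun h0 => P31_sub_sq ((h.sub_one.pow 2).zero h0)
  rw [P31_sub_cube h3] at hY
  have e : ∀ p l : Fin 4 → F, (vecMulVec p l : Matrix (Fin 4) (Fin 4) F).map ρ =
      vecMulVec (ρ ∘ p) (ρ ∘ l) := by
    intro p l
    ext i j
    simp [vecMulVec_apply]
  rw [e, Matrix.mul_vecMulVec, Matrix.vecMulVec_mul] at hY
  refine ⟨_, _, ?_, ?_, hY⟩
  · intro h0
    rw [h0] at hY
    apply hne
    rw [hY]
    ext i j
    simp [vecMulVec_apply]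
  · intro h0
    rw [h0] at hY
    apply hne
    rw [hY]
    ext i j
    simp [vecMulVec_apply]

include hF in
/-- `p` is not in the symplectic subfield groups -/
theorem sub_p {M : Subgroup (PSU 4 F 3)}
    (hsk : ∀ u v : Fin 4 → F, (∀ i, u i ∈ F₀) → (∀ i, v i ∈ F₀) →
      hermForm 4 F 3 ((P : Matrix (Fin 4) (Fin 4) F) *ᵥ u) ((P : Matrix (Fin 4) (Fin 4) F) *ᵥ v) =
      -hermForm 4 F 3 ((P : Matrix (Fin 4) (Fin 4) F) *ᵥ v) ((P : Matrix (Fin 4) (Fin 4) F) *ᵥ u))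
    (hM : pre M = subfieldSubgroup F₀ P ⊓ K) :
    ∀ φ : PSU 4 F 3 ≃* PSU 4 F 3, φ (pr 4 F 3 E.p) ∉ M := by
  refine miss1 hF fun y hy hm => ?_
  have h3 := E.three
  have hm' := mem_pre hm
  rw [hM] at hm'
  have htr : (mat y).trace = 1 := by
    obtain ⟨ρ, h1⟩ := hy.trace
    rw [h1, E.tr_p, map_one]
  have hy3 : y ^ 3 = 1 := (hy.pow_eq_one 3).2 E.p3
  rw [E.mp] at hy
  obtain ⟨p, l, hp0, hl0, hpl⟩ := exists_N2 h3 hy
  set N : (Fin 4 → F) →ₗ[F] (Fin 4 → F) := Matrix.toLin' (mat y - 1) with hN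
  have hNv : ∀ v, N v = act y v - v := by
    intro w
    rw [hN, Matrix.toLin'_apply, Matrix.sub_mulVec, Matrix.one_mulVec, act_def]
  have hN2 : ∀ v, N (N v) = (l ⬝ᵥ v) • p := by
    intro v
    rw [hN, Matrix.toLin'_apply, Matrix.toLin'_apply, Matrix.mulVec_mulVec, ← pow_two, hpl]
    funext k
    simp [Matrix.mulVec, vecMulVec_apply, dotProduct, Finset.sum_mul, mul_comm, mul_left_comm, Finset.mul_sum]
  have hN3 : ∀ v, N (N (N v)) = 0 := by
    intro v
    have h1 : (mat y - 1) ^ 3 = 0 := by rw [cube_sub_one h3, ← mat_pow', hy3, mat_one, sub_self]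
    rw [hN, Matrix.toLin'_apply, Matrix.toLin'_apply, Matrix.toLin'_apply, Matrix.mulVec_mulVec, Matrix.mulVec_mulVec,
      show (mat y - 1) * (mat y - 1) * (mat y - 1) = (mat y - 1) ^ 3 by
        simp only [pow_succ, pow_zero, one_mul], h1, Matrix.zero_mulVec]
  -- the form
  have star : ∀ u v, hermForm 4 F 3 (N u) v = -hermForm 4 F 3 u (N v) - hermForm 4 F 3 (N u) (N v) := by
    intro u v
    have h1 := herm_act y u v
    have h2 : ∀ w, act y w = w + N w := by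
      intro w
      rw [hNv]
      abel
    rw [h2, h2, herm_add_left, herm_add_right hF, herm_add_right hF] at h1
    linear_combination h1
  have e1 : ∀ u v, hermForm 4 F 3 (N (N u)) v = hermForm 4 F 3 u (N (N v)) := by
    intro u v
    have a1 := star (N u) v
    have a2 := star (N u) (N v)
    have a3 := star u (N (N v))
    have a4 := star (N u) (N (N v))
    have a5 := star u (N v)
    rw [hN3, herm_zero_right hF, herm_zero_right hF] at a3 a4
    linear_combination a1 - a5 - a2 + 2 * a3 + a4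
  obtain ⟨u, hu, hlu⟩ := exists_rat_ne (F₀ := F₀) (P := P) hl0
  have hrat : ∀ u : Fin 4 → F, (∀ i, u i ∈ F₀) → ∃ u' : Fin 4 → F, (∀ i, u' i ∈ F₀) ∧
      N ((P : Matrix (Fin 4) (Fin 4) F) *ᵥ u) = (P : Matrix (Fin 4) (Fin 4) F) *ᵥ u' := by
    intro u hu
    obtain ⟨u', hu', h1⟩ := exists_rat hm' htr hu
    exact ⟨u' - u, fun i => F₀.sub_mem (hu' i) (hu i), by rw [hNv, h1, Matrix.mulVec_sub]⟩
  have hskew : ∀ u v : Fin 4 → F, (∀ i, u i ∈ F₀) → (∀ i, v i ∈ F₀) →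
      hermForm 4 F 3 ((P : Matrix (Fin 4) (Fin 4) F) *ᵥ u) (N (N ((P : Matrix (Fin 4) (Fin 4) F) *ᵥ v))) =
      -hermForm 4 F 3 ((P : Matrix (Fin 4) (Fin 4) F) *ᵥ v) (N (N ((P : Matrix (Fin 4) (Fin 4) F) *ᵥ u))) := by
    intro u v hu hv
    obtain ⟨v', hv', h1⟩ := hrat v hv
    obtain ⟨v'', hv'', h2⟩ := hrat v' hv'
    rw [← e1 ((P : Matrix (Fin 4) (Fin 4) F) *ᵥ v), h1, h2]
    exact hsk _ _ hu hv''
  set v := (P : Matrix (Fin 4) (Fin 4) F) *ᵥ u with hv
  have hp10 : (l ⬝ᵥ v) • p ≠ 0 := smul_ne_zero hlu hp0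
  have e2 : hermForm 4 F 3 v ((l ⬝ᵥ v) • p) = 0 := by
    have h1 := hskew u u hu hu
    rw [← hv, hN2] at h1
    linear_combination -h1 + hermForm 4 F 3 v ((l ⬝ᵥ v) • p) * h3
  apply hp10
  refine eq_zero_of_orth (F₀ := F₀) (P := P) hF fun u1 hu1 => ?_
  have h1 := hskew u1 u hu1 hu
  rw [← hv, hN2, hN2] at h1
  rw [h1]
  have h2 : (l ⬝ᵥ ((P : Matrix (Fin 4) (Fin 4) F) *ᵥ u1)) • p =
      ((l ⬝ᵥ ((P : Matrix (Fin 4) (Fin 4) F) *ᵥ u1)) / (l ⬝ᵥ v)) • ((l ⬝ᵥ v) • p) := by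
    rw [smul_smul, div_mul_cancel₀ _ hlu]
  rw [h2, herm_smul_right, e2, mul_zero, neg_zero]

/-- alternating matrices -/
def AltM (a b c d e f : F) : Matrix (Fin 4) (Fin 4) F :=
  !![0, a, b, c; -a, 0, d, e; -b, -d, 0, f; -c, -e, -f, 0]

theorem pf_aux (h : Matrix (Fin 4) (Fin 4) F) (a b c d e f : F) :
    (hᵀ * AltM a b c d e f * h) 0 1 * (hᵀ * AltM a b c d e f * h) 2 3 - (hᵀ * AltM a b c d e f * h) 0 2 * (hᵀ * AltM a b c d e f * h) 1 3 +
      (hᵀ * AltM a b c d e f * h) 0 3 * (hᵀ * AltM a b c d e f * h) 1 2 = h.det * (a * f - b * e + c * d) := by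
  simp [Matrix.mul_apply, Fin.sum_univ_four, AltM, Matrix.det_succ_row_zero, Fin.sum_univ_succ, Fin.succAbove]
  ring

theorem det_altM (a b c d e f : F) : (AltM a b c d e f).det = (a * f - b * e + c * d) ^ 2 := by
  simp [AltM, Matrix.det_succ_row_zero, Fin.sum_univ_succ, Fin.succAbove]
  ring

include E hF in
/-- `r` is not in the symplectic subfield groups -/
theorem sub_r {M : Subgroup (PSU 4 F 3)} (hc : Nat.card F₀ = 3)
    (halt : ∀ u : Fin 4 → F, (∀ i, u i ∈ F₀) →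
      hermForm 4 F 3 ((P : Matrix (Fin 4) (Fin 4) F) *ᵥ u) ((P : Matrix (Fin 4) (Fin 4) F) *ᵥ u) = 0)
    (hsk : ∀ u v : Fin 4 → F, (∀ i, u i ∈ F₀) → (∀ i, v i ∈ F₀) →
      hermForm 4 F 3 ((P : Matrix (Fin 4) (Fin 4) F) *ᵥ u) ((P : Matrix (Fin 4) (Fin 4) F) *ᵥ v) =
      -hermForm 4 F 3 ((P : Matrix (Fin 4) (Fin 4) F) *ᵥ v) ((P : Matrix (Fin 4) (Fin 4) F) *ᵥ u))
    (hM : pre M = subfieldSubgroup F₀ P ⊓ K) :
    ∀ φ : PSU 4 F 3 ≃* PSU 4 F 3, φ (pr 4 F 3 E.r) ∉ M := by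
  refine miss1 hF fun y hy hm => ?_
  have h3 := E.three
  have hm' := mem_pre hm
  rw [hM] at hm'
  obtain ⟨Z, c, hc0, hce, hdet, htr, hact⟩ := exists_Z hm'
  have hd1 : ∀ k : Fin 4, ∀ i, (Pi.single k 1 : Fin 4 → F) i ∈ F₀ := by
    intro k i
    by_cases hik : i = k
    · subst hik
      rw [Pi.single_eq_same]
      exact F₀.one_mem
    · rw [Pi.single_eq_of_ne hik]
      exact F₀.zero_mem
  set p : Fin 4 → (Fin 4 → F) := fun k => (P : Matrix (Fin 4) (Fin 4) F) *ᵥ Pi.single k 1 with hp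
  set J : Matrix (Fin 4) (Fin 4) F := fun k m => hermForm 4 F 3 (p k) (p m) with hJ
  set h : Matrix (Fin 4) (Fin 4) F := c • Z with hh
  have hhe : ∀ i j, h i j ∈ F₀ := hce
  have hJa : J = AltM (J 0 1) (J 0 2) (J 0 3) (J 1 2) (J 1 3) (J 2 3) := by
    have hs : ∀ k m, J k m = -J m k := fun k m => hsk _ _ (hd1 k) (hd1 m)
    have h0 : ∀ k, J k k = 0 := fun k => halt _ (hd1 k)
    ext k m
    fin_cases k <;> fin_cases m <;> simp [AltM, h0]
    all_goals rw [hs]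
  have hyp : ∀ k, c • act y (p k) = ∑ a, h a k • p a := by
    intro k
    rw [hp]
    simp only
    rw [hact, single_sum (A := (P : Matrix (Fin 4) (Fin 4) F)), Finset.smul_sum]
    apply Finset.sum_congr rfl
    intro a _
    rw [smul_smul, hh, Matrix.smul_apply, smul_eq_mul]
    congr 2
    rw [Matrix.mulVec_single_one]
    rfl
  have hJJ : hᵀ * J * h = (c ^ 4) • J := by
    ext k m
    have e1 : hermForm 4 F 3 (c • act y (p k)) (c • act y (p m)) = c ^ 4 * J k m := by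
      rw [herm_smul_left, herm_smul_right, herm_act]
      rw [hJ]
      ring
    rw [hyp, hyp, herm_sum_left] at e1
    rw [Matrix.smul_apply, smul_eq_mul, ← e1, Matrix.mul_apply]
    simp only [Matrix.mul_apply, Matrix.transpose_apply, herm_smul_left, herm_sum_right hF, herm_smul_right,
      Finset.sum_mul, Finset.mul_sum, fix_F0 hc (hhe _ _)]
    rw [Finset.sum_comm]
    apply Finset.sum_congr rfl
    intro a _
    apply Finset.sum_congr rfl
    intro b _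
    ring
  have hPf : (J 0 1 * J 2 3 - J 0 2 * J 1 3 + J 0 3 * J 1 2) ≠ 0 := by
    intro h0
    have h1 : J.det = 0 := by
      rw [hJa, det_altM]
      rw [h0]
      ring
    obtain ⟨w, hw0, hw⟩ := Matrix.exists_vecMul_eq_zero_iff.2 h1
    apply hw0
    have h2 : (P : Matrix (Fin 4) (Fin 4) F) *ᵥ w = 0 := by
      refine eq_zero_of_orth (F₀ := F₀) (P := P) hF fun u hu => ?_
      apply herm_eq_zero_swap hF
      rw [single_sum (A := (P : Matrix (Fin 4) (Fin 4) F)) u, herm_sum_right hF]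
      apply Finset.sum_eq_zero
      intro m _
      rw [herm_smul_right]
      have h3 := congrFun hw m
      rw [Matrix.vecMul, dotProduct] at h3
      rw [single_sum (A := (P : Matrix (Fin 4) (Fin 4) F)) w, herm_sum_left]
      simp only [herm_smul_left]
      change _ * (∑ x, w x * J x m) = 0
      rw [h3]
      simp
    have h3 := congrArg (fun v => ((P⁻¹ : GL (Fin 4) F) : Matrix (Fin 4) (Fin 4) F) *ᵥ v) h2
    simp only [Matrix.mulVec_mulVec, PP', Matrix.one_mulVec, Matrix.mulVec_zero] at h3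
    exact h3
  have hc8 : c ^ 8 = 1 := by
    have := FiniteField.pow_card_sub_one_eq_one c hc0
    rwa [hF] at this
  have hdeth : h.det = c ^ 4 := by
    rw [hh, Matrix.det_smul, hdet, mul_one, Fintype.card_fin]
  have hc4 : c ^ 4 = 1 := by
    have h1 := pf_aux h (J 0 1) (J 0 2) (J 0 3) (J 1 2) (J 1 3) (J 2 3)
    rw [← hJa, hJJ, hdeth] at h1
    simp only [Matrix.smul_apply, smul_eq_mul] at h1
    have h2 : (c ^ 4 - 1) * (J 0 1 * J 2 3 - J 0 2 * J 1 3 + J 0 3 * J 1 2) = 0 := by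
      linear_combination -h1 + (J 0 1 * J 2 3 - J 0 2 * J 1 3 + J 0 3 * J 1 2) * hc8
    exact sub_eq_zero.1 ((mul_eq_zero.1 h2).resolve_right hPf)
  have ht : c * (mat y).trace ∈ F₀ := by
    rw [← htr, Matrix.trace, Finset.mul_sum]
    exact sum_mem fun i _ => hce i i
  obtain ⟨ρ, h1⟩ := hy.trace
  rw [h1, E.tr_r] at ht
  have h2 := fix_F0 hc ht
  have hz0 : ρ E.z ≠ 0 := by
    rw [Ne, map_eq_zero_iff ρ ρ.injective]
    exact E.z0
  have h4 : (c * ρ E.z) ^ 2 = 1 := by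
    have h5 : (c * ρ E.z) * ((c * ρ E.z) ^ 2 - 1) = 0 := by linear_combination h2
    exact sub_eq_zero.1 ((mul_eq_zero.1 h5).resolve_left (mul_ne_zero hc0 hz0))
  have h5 : (ρ E.z) ^ 4 = -1 := by
    rw [← map_pow]
    have h6 : E.z ^ 4 = -1 := by
      have h7 := E.zz
      grind
    rw [h6, map_neg, map_one]
  have h6 : (1 : F) = -1 := by
    calc (1 : F) = ((c * ρ E.z) ^ 2) ^ 2 := by rw [h4, one_pow]
      _ = c ^ 4 * (ρ E.z) ^ 4 := by ring
      _ = -1 := by rw [hc4, h5, one_mul]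
  exact two0 h3 (by linear_combination h6)

include E hF in
/-- **symplectic subfield groups** -/
theorem three_symp {M : Subgroup (PSU 4 F 3)} (hc : Nat.card F₀ = 3)
    (halt : ∀ u : Fin 4 → F, (∀ i, u i ∈ F₀) →
      hermForm 4 F 3 ((P : Matrix (Fin 4) (Fin 4) F) *ᵥ u) ((P : Matrix (Fin 4) (Fin 4) F) *ᵥ u) = 0)
    (hM : pre M = subfieldSubgroup F₀ P ⊓ K) : Three (PSU 4 F 3) M := by
  have hsk : ∀ u v : Fin 4 → F, (∀ i, u i ∈ F₀) → (∀ i, v i ∈ F₀) →
      hermForm 4 F 3 ((P : Matrix (Fin 4) (Fin 4) F) *ᵥ u) ((P : Matrix (Fin 4) (Fin 4) F) *ᵥ v) =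
      -hermForm 4 F 3 ((P : Matrix (Fin 4) (Fin 4) F) *ᵥ v) ((P : Matrix (Fin 4) (Fin 4) F) *ᵥ u) := by
    intro u v hu hv
    have h1 := halt (u + v) (fun i => F₀.add_mem (hu i) (hv i))
    rw [Matrix.mulVec_add, herm_add_left, herm_add_right hF, herm_add_right hF, halt u hu, halt v hv] at h1
    linear_combination h1
  obtain ⟨x7, hx7⟩ := exists_prime_el hF (p := 7) (by norm_num) (by norm_num)
  have h7 : ¬ 7 ∣ Nat.card M := by
    intro h
    have h1 : 7 ∣ Nat.card (subfieldSubgroup F₀ P) := by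
      refine h.trans ((H251.GeoU.card_dvd_pre M).trans ?_)
      rw [hM]
      exact Subgroup.card_dvd_of_le inf_le_left
    rcases H251.GeoCard.subfield (by norm_num) (by rw [Nat.card_eq_fintype_card, hF]; norm_num) h1 with h2 | h2
    · rw [Nat.card_eq_fintype_card, hF] at h2
      norm_num at h2
    · obtain ⟨i, hi1, hi2, hi3⟩ := h2
      rw [Fintype.card_fin] at hi2
      rw [hc] at hi3
      interval_cases i <;> norm_num at hi3
  refine three_of_ne (sub_p E hF hsk hM) (not_mem_of_card h7 (x := x7) (by rw [hx7])) (sub_r E hF hc halt hsk hM) ?_ ?_ ?_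
  all_goals simp only [hx7, E.op hF, E.or hF]; norm_num

end sub

section sg

variable {R : Subgroup (GL (Fin 4) F)} {K : Subgroup (GL (Fin 4) F)}

theorem exists_common {l l' : Fin 4 → F} : ∃ v : Fin 4 → F, v ≠ 0 ∧ l ⬝ᵥ v = 0 ∧ l' ⬝ᵥ v = 0 := by
  have h1 : (Matrix.of ![l, l', 0, 0] : Matrix (Fin 4) (Fin 4) F).det = 0 := by
    apply Matrix.det_eq_zero_of_row_eq_zero (2 : Fin 4)
    intro j
    simp
  obtain ⟨v, hv0, hv⟩ := Matrix.exists_mulVec_eq_zero_iff.2 h1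
  refine ⟨v, hv0, ?_, ?_⟩
  · have := congrFun hv 0
    simpa [Matrix.mulVec] using this
  · have := congrFun hv 1
    simpa [Matrix.mulVec] using this

theorem vmv (p l v : Fin 4 → F) : vecMulVec p l *ᵥ v = (l ⬝ᵥ v) • p := by
  funext k
  simp [Matrix.mulVec, vecMulVec_apply, dotProduct, Finset.sum_mul, mul_comm, mul_left_comm, Finset.mul_sum]

theorem scalar_of_center (habs : ActsAbsolutelyIrreducibly (matrixSet R)) {g : R} (hg : g ∈ Subgroup.center R) :
    ∃ c : F, ((g : GL (Fin 4) F) : Matrix (Fin 4) (Fin 4) F) = c • (1 : Matrix (Fin 4) (Fin 4) F) := by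
  apply habs.2
  rintro _ ⟨x, hx, rfl⟩
  have h1 := Subgroup.mem_center_iff.1 hg ⟨x, hx⟩
  have h2 := congrArg (fun y : R => ((y : GL (Fin 4) F) : Matrix (Fin 4) (Fin 4) F)) h1
  simp only [Subgroup.coe_mul, Units.val_mul] at h2
  exact h2.symm

/-- commutators with transvections -/
theorem comm_eq_one (hR : IsSymplecticTypeGroup 2 R) (habs : ActsAbsolutelyIrreducibly (matrixSet R))
    (h3 : (3 : F) = 0) {g : GL (Fin 4) F} {p l : Fin 4 → F} (hlp : l ⬝ᵥ p = 0)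
    (hg : (g : Matrix (Fin 4) (Fin 4) F) = 1 + vecMulVec p l) {x : GL (Fin 4) F} (hx : x ∈ R)
    (hgx : g * x * g⁻¹ ∈ R) : g * x * g⁻¹ * x⁻¹ = 1 := by
  have : Finite (GL (Fin 4) F) := inferInstance
  have hxx : (x : Matrix (Fin 4) (Fin 4) F) * ((x⁻¹ : GL (Fin 4) F) : Matrix (Fin 4) (Fin 4) F) = 1 := by
    rw [← Units.val_mul, mul_inv_cancel, Units.val_one]
  have hxx' : ((x⁻¹ : GL (Fin 4) F) : Matrix (Fin 4) (Fin 4) F) * (x : Matrix (Fin 4) (Fin 4) F) = 1 := by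
    rw [← Units.val_mul, inv_mul_cancel, Units.val_one]
  set p' := (x : Matrix (Fin 4) (Fin 4) F) *ᵥ p with hp'
  set l' := l ᵥ* ((x⁻¹ : GL (Fin 4) F) : Matrix (Fin 4) (Fin 4) F) with hl'
  have hlp' : l' ⬝ᵥ p' = 0 := by
    rw [hl', hp', ← Matrix.dotProduct_mulVec, Matrix.mulVec_mulVec, hxx', Matrix.one_mulVec, hlp]
  have hginv : ((g⁻¹ : GL (Fin 4) F) : Matrix (Fin 4) (Fin 4) F) = 1 - vecMulVec p l := by
    have h1 : (g : Matrix (Fin 4) (Fin 4) F) * (1 - vecMulVec p l) = 1 := by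
      rw [hg, Matrix.add_mul, Matrix.one_mul, Matrix.mul_sub, Matrix.mul_one]
      have : vecMulVec p l * vecMulVec p l = 0 := by
        rw [Matrix.vecMulVec_mul_vecMulVec, hlp, zero_smul]
        simp
      rw [this]
      abel
    have h2 : ((g⁻¹ : GL (Fin 4) F) : Matrix (Fin 4) (Fin 4) F) * (g : Matrix (Fin 4) (Fin 4) F) = 1 := by
      rw [← Units.val_mul, inv_mul_cancel, Units.val_one]
    calc ((g⁻¹ : GL (Fin 4) F) : Matrix (Fin 4) (Fin 4) F) = ((g⁻¹ : GL (Fin 4) F) : Matrix (Fin 4) (Fin 4) F) *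
          ((g : Matrix (Fin 4) (Fin 4) F) * (1 - vecMulVec p l)) := by rw [h1, Matrix.mul_one]
      _ = 1 - vecMulVec p l := by rw [← Matrix.mul_assoc, h2, Matrix.one_mul]
  set zz : GL (Fin 4) F := g * x * g⁻¹ * x⁻¹ with hzz
  have hzR : zz ∈ R := R.mul_mem hgx (R.inv_mem hx)
  have hzm : (zz : Matrix (Fin 4) (Fin 4) F) = (1 + vecMulVec p l) * (1 - vecMulVec p' l') := by
    rw [hzz, show g * x * g⁻¹ * x⁻¹ = g * (x * g⁻¹ * x⁻¹) by group, Units.val_mul, Units.val_mul, Units.val_mul, hg, hginv,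
      Matrix.mul_sub, Matrix.sub_mul, Matrix.mul_one, hxx, hp', hl', Matrix.mul_vecMulVec, Matrix.vecMulVec_mul]
  have hzv : ∀ v, (zz : Matrix (Fin 4) (Fin 4) F) *ᵥ v =
      v - (l' ⬝ᵥ v) • p' + (l ⬝ᵥ (v - (l' ⬝ᵥ v) • p')) • p := by
    intro v
    rw [hzm, ← Matrix.mulVec_mulVec, Matrix.sub_mulVec, Matrix.one_mulVec, vmv, Matrix.add_mulVec, Matrix.one_mulVec, vmv]
  by_cases hcen : (⟨zz, hzR⟩ : R) ∈ Subgroup.center R
  · obtain ⟨κ, hκ⟩ := scalar_of_center habs hcen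
    obtain ⟨v, hv0, hv1, hv2⟩ := exists_common (l := l) (l' := l')
    have h1 := hzv v
    rw [hv2, zero_smul, sub_zero, hv1, zero_smul, add_zero] at h1
    change (zz : Matrix (Fin 4) (Fin 4) F) = κ • 1 at hκ
    rw [hκ, Matrix.smul_mulVec, Matrix.one_mulVec] at h1
    have h2 : κ = 1 := by
      have h4 : (κ - 1) • v = 0 := by rw [sub_smul, h1, one_smul, sub_self]
      exact sub_eq_zero.1 ((smul_eq_zero.1 h4).resolve_right hv0)
    apply Units.ext
    rw [hκ, h2, one_smul, Units.val_one]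
  · exfalso
    rw [Subgroup.mem_center_iff] at hcen
    push Not at hcen
    obtain ⟨w, hw⟩ := hcen
    have hc := Cfsg.Agent.H921.commutator_mem_center hR (fun h => absurd h (by decide)) w ⟨zz, hzR⟩
    obtain ⟨κ, hκ⟩ := scalar_of_center habs hc
    have hwm : ((w : GL (Fin 4) F) : Matrix (Fin 4) (Fin 4) F) * ((((w : GL (Fin 4) F))⁻¹ : GL (Fin 4) F) : Matrix (Fin 4) (Fin 4) F) = 1 := by
      rw [← Units.val_mul, mul_inv_cancel, Units.val_one]
    have hzz1 : (((zz)⁻¹ : GL (Fin 4) F) : Matrix (Fin 4) (Fin 4) F) * (zz : Matrix (Fin 4) (Fin 4) F) = 1 := by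
      rw [← Units.val_mul, inv_mul_cancel, Units.val_one]
    simp only [Subgroup.coe_mul, Subgroup.coe_inv, Units.val_mul] at hκ
    have h1 : ((w : GL (Fin 4) F) : Matrix (Fin 4) (Fin 4) F) * (zz : Matrix (Fin 4) (Fin 4) F) *
        ((((w : GL (Fin 4) F))⁻¹ : GL (Fin 4) F) : Matrix (Fin 4) (Fin 4) F) = κ • (zz : Matrix (Fin 4) (Fin 4) F) := by
      calc _ = ((w : GL (Fin 4) F) : Matrix (Fin 4) (Fin 4) F) * (zz : Matrix (Fin 4) (Fin 4) F) *
        ((((w : GL (Fin 4) F))⁻¹ : GL (Fin 4) F) : Matrix (Fin 4) (Fin 4) F) * ((((zz)⁻¹ : GL (Fin 4) F) : Matrix (Fin 4) (Fin 4) F) * (zz : Matrix (Fin 4) (Fin 4) F)) := by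
            rw [hzz1, Matrix.mul_one]
        _ = _ := by rw [← Matrix.mul_assoc, hκ, Matrix.smul_mul, Matrix.one_mul]
    have h2 := congrArg Matrix.trace h1
    rw [H251.Small.trace_conj hwm, Matrix.trace_smul, smul_eq_mul] at h2
    have hκ1 : κ ≠ 1 := by
      rintro rfl
      apply hw
      apply Subtype.ext
      apply Units.ext
      rw [Subgroup.coe_mul, Subgroup.coe_mul, Units.val_mul, Units.val_mul]
      rw [one_smul] at h1
      have hwm' : ((((w : GL (Fin 4) F))⁻¹ : GL (Fin 4) F) : Matrix (Fin 4) (Fin 4) F) * ((w : GL (Fin 4) F) : Matrix (Fin 4) (Fin 4) F) = 1 := by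
        rw [← Units.val_mul, inv_mul_cancel, Units.val_one]
      calc ((w : GL (Fin 4) F) : Matrix (Fin 4) (Fin 4) F) * (zz : Matrix (Fin 4) (Fin 4) F) =
          ((w : GL (Fin 4) F) : Matrix (Fin 4) (Fin 4) F) * (zz : Matrix (Fin 4) (Fin 4) F) *
            (((((w : GL (Fin 4) F))⁻¹ : GL (Fin 4) F) : Matrix (Fin 4) (Fin 4) F) * ((w : GL (Fin 4) F) : Matrix (Fin 4) (Fin 4) F)) := by
            rw [hwm', Matrix.mul_one]
        _ = _ := by
          rw [← Matrix.mul_assoc, h1]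
          rfl
    have htr0 : (zz : Matrix (Fin 4) (Fin 4) F).trace = 0 := by
      have h4 : (κ - 1) * (zz : Matrix (Fin 4) (Fin 4) F).trace = 0 := by linear_combination -h2
      exact (mul_eq_zero.1 h4).resolve_left (sub_ne_zero.2 hκ1)
    set a := l ⬝ᵥ p' with ha
    set b := l' ⬝ᵥ p with hb
    have hab : a * b = 1 := by
      rw [hzm, Matrix.add_mul, Matrix.one_mul, Matrix.mul_sub, Matrix.mul_one, Matrix.trace_add, Matrix.trace_sub,
        Matrix.trace_sub, Matrix.trace_one, Matrix.trace_vecMulVec, Matrix.trace_vecMulVec, Matrix.vecMulVec_mul_vecMulVec,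
        dotProduct_comm p' l', hlp', dotProduct_comm p l, hlp, ← ha, Fintype.card_fin] at htr0
      rw [Matrix.trace_vecMulVec, dotProduct_smul, smul_eq_mul, dotProduct_comm p l', ← hb] at htr0
      push_cast at htr0
      linear_combination -htr0 + h3
    -- the fourth power
    have hz4 : (zz : Matrix (Fin 4) (Fin 4) F) ^ 4 = 1 := by
      have h4 : (⟨zz, hzR⟩ : R) ^ 4 = 1 := by
        have h5 : Monoid.exponent R = 4 := by rw [hR.exponent_eq]; norm_num
        exact orderOf_dvd_iff_pow_eq_one.1 ((Monoid.order_dvd_exponent _).trans h5.dvd)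
      have h6 := congrArg (fun y : R => ((y : GL (Fin 4) F) : Matrix (Fin 4) (Fin 4) F)) h4
      simp only [SubmonoidClass.coe_pow, Units.val_pow_eq_pow_val, Subgroup.coe_one, Units.val_one] at h6
      exact h6
    have f1 : (zz : Matrix (Fin 4) (Fin 4) F) *ᵥ p' = p' + a • p := by
      rw [hzv, hlp', zero_smul, sub_zero]
    have f2 : (zz : Matrix (Fin 4) (Fin 4) F) *ᵥ p = -(b • p') := by
      rw [hzv, dotProduct_sub, dotProduct_smul, hlp, ← hb, ← ha, smul_eq_mul, zero_sub]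
      rw [show b * a = 1 by rw [mul_comm, hab]]
      simp
      abel
    have f3 : (zz : Matrix (Fin 4) (Fin 4) F) *ᵥ ((zz : Matrix (Fin 4) (Fin 4) F) *ᵥ p') = a • p := by
      rw [f1, Matrix.mulVec_add, Matrix.mulVec_smul, f1, f2, smul_neg, smul_smul, hab, one_smul]
      abel
    have f4 : (zz : Matrix (Fin 4) (Fin 4) F) *ᵥ ((zz : Matrix (Fin 4) (Fin 4) F) *ᵥ (a • p)) = -p' - a • p := by
      rw [Matrix.mulVec_smul, f2, Matrix.mulVec_smul, Matrix.mulVec_neg, Matrix.mulVec_smul, f1, smul_neg, smul_smul, hab,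
        one_smul]
      abel
    have f5 : p' = -p' - a • p := by
      rw [← f4, ← f3, Matrix.mulVec_mulVec, Matrix.mulVec_mulVec, Matrix.mulVec_mulVec,
        show (zz : Matrix (Fin 4) (Fin 4) F) * (zz : Matrix (Fin 4) (Fin 4) F) * (zz : Matrix (Fin 4) (Fin 4) F) * (zz : Matrix (Fin 4) (Fin 4) F) =
          (zz : Matrix (Fin 4) (Fin 4) F) ^ 4 by simp only [pow_succ, pow_zero, one_mul], hz4, Matrix.one_mulVec]
    have f6 := congrArg (fun v => l ⬝ᵥ v) f5
    simp only [dotProduct_sub, dotProduct_neg, dotProduct_smul, hlp, smul_zero, sub_zero] at f6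
    rw [← ha] at f6
    have f7 : a = 0 := by
      have h2 := two0 h3
      have h4 : 2 * a = 0 := by linear_combination f6
      exact (mul_eq_zero.1 h4).resolve_left h2
    rw [f7, zero_mul] at hab
    exact zero_ne_one hab

variable (E : El F) (hF : Fintype.card F = 3 ^ 2)

include E hF in
/-- **symplectic type groups** -/
theorem three_sg {M : Subgroup (PSU 4 F 3)} (hR : IsSymplecticTypeGroup 2 R)
    (habs : ActsAbsolutelyIrreducibly (matrixSet R)) (hM : pre M = subgroupNormalizer R ⊓ K) : Three (PSU 4 F 3) M := by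
  apply three_t E hF
  refine miss1 hF fun y hy hm => ?_
  have h3 := E.three
  have hm' := mem_pre hm
  rw [hM] at hm'
  rw [E.mt] at hy
  obtain ⟨p, l, hp0, hl0, hlp, hmy, hact⟩ := exists_transv E.zz E.three hy
  have h1 : ∀ x ∈ R, H918.suHom 4 F 3 y * x = x * H918.suHom 4 F 3 y := by
    intro x hx
    have h2 := comm_eq_one (g := H918.suHom 4 F 3 y) hR habs h3 hlp hmy hx ((Subgroup.mem_normalizer_iff.1 hm'.1 x).1 hx)
    have h4 : H918.suHom 4 F 3 y * x * (H918.suHom 4 F 3 y)⁻¹ = x := by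
      rw [← mul_inv_eq_one]
      exact h2
    calc H918.suHom 4 F 3 y * x = H918.suHom 4 F 3 y * x * (H918.suHom 4 F 3 y)⁻¹ * H918.suHom 4 F 3 y := by group
      _ = _ := by rw [h4]
  obtain ⟨κ, hκ⟩ := habs.2 (mat y) (by
    rintro _ ⟨x, hx, rfl⟩
    exact congrArg (fun g : GL (Fin 4) F => (g : Matrix (Fin 4) (Fin 4) F)) (h1 x hx))
  obtain ⟨v, hv0, hv1, -⟩ := exists_common (l := l) (l' := l)
  have h5 := hact v
  rw [hv1, zero_smul, add_zero, act_def, hκ, Matrix.smul_mulVec, Matrix.one_mulVec] at h5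
  have h2 : κ = 1 := by
    have h4 : (κ - 1) • v = 0 := by rw [sub_smul, h5, one_smul, sub_self]
    exact sub_eq_zero.1 ((smul_eq_zero.1 h4).resolve_right hv0)
  rw [h2, one_smul] at hκ
  have h6 := hy.sub_one.zero (by rw [hκ, sub_self])
  exact TV_ne E.zz h6

end sg

end Cfsg.Agent.H44.Der.U43
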